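import Cfsg.Agent.BGUniq.MinSimple
import Cfsg.Agent.Lib.Coprime.Action
import Cfsg.Agent.Lib.Coprime.Generation
import Cfsg.Agent.Lib.Thompson.Replacement

/-!
The transitivity theorem: consequences of the transitivity hypothesis for the maximal
`A`-invariant `q`-subgroups of a minimal simple group of odd order.
-/

set_option autoImplicit false

namespace Cfsg.Agent.BGUniq

open Cfsg
open scoped Pointwise

variable {G : Type*} [Group G]

/-! ### Invariant subgroups and conjugation -/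

/-- `O_{π(A)'}(C(A))`. -/
abbrev coreK (A : Subgroup G) : Subgroup G :=
  piCoreOf (primesNotDvd (Nat.card A)) (Subgroup.centralizer (A : Set G))

/-- Conjugate by an element of `K`. -/
def ConjUnder (K Q₁ Q₂ : Subgroup G) : Prop :=
  ∃ k ∈ K, Q₂ = Q₁.map (MulAut.conj k).toMonoidHom

theorem map_conj_mul (Y : Subgroup G) (g h : G) :
    (Y.map (MulAut.conj h).toMonoidHom).map (MulAut.conj g).toMonoidHom =
      Y.map (MulAut.conj (g * h)).toMonoidHom := by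
  rw [Subgroup.map_map]
  congr 1
  ext x
  simp [mul_assoc]

theorem map_conj_one (Y : Subgroup G) : Y.map (MulAut.conj (1 : G)).toMonoidHom = Y := by
  ext x
  simp

theorem map_conj_inv (Y : Subgroup G) (g : G) :
    (Y.map (MulAut.conj g).toMonoidHom).map (MulAut.conj g⁻¹).toMonoidHom = Y := by
  rw [map_conj_mul, inv_mul_cancel, map_conj_one]

theorem map_conj_eq_self_iff (Y : Subgroup G) (g : G) :
    g ∈ Subgroup.normalizer (Y : Set G) ↔ Y.map (MulAut.conj g).toMonoidHom = Y :=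
  Subgroup.mem_normalizer_iff_map_conj_eq

theorem conjUnder_refl (K Q : Subgroup G) : ConjUnder K Q Q :=
  ⟨1, K.one_mem, (map_conj_one Q).symm⟩

theorem ConjUnder.symm {K Q₁ Q₂ : Subgroup G} (h : ConjUnder K Q₁ Q₂) : ConjUnder K Q₂ Q₁ := by
  obtain ⟨k, hk, rfl⟩ := h
  exact ⟨k⁻¹, K.inv_mem hk, (map_conj_inv Q₁ k).symm⟩

theorem ConjUnder.trans {K Q₁ Q₂ Q₃ : Subgroup G} (h : ConjUnder K Q₁ Q₂)
    (h' : ConjUnder K Q₂ Q₃) : ConjUnder K Q₁ Q₃ := by
  obtain ⟨k, hk, rfl⟩ := h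
  obtain ⟨l, hl, rfl⟩ := h'
  exact ⟨l * k, K.mul_mem hl hk, map_conj_mul Q₁ l k⟩

theorem map_conj_mem_invSubgroups {A Y : Subgroup G} {π : Set ℕ} {g : G}
    (hg : g ∈ Subgroup.normalizer (A : Set G)) (hY : Y ∈ invSubgroups ⊤ A π) :
    Y.map (MulAut.conj g).toMonoidHom ∈ invSubgroups ⊤ A π := by
  refine ⟨le_top, fun r hr hd => hY.2.1 r hr (hd.trans (Subgroup.card_map_dvd _ _)), ?_⟩
  calc A = A.map (MulAut.conj g).toMonoidHom := ((map_conj_eq_self_iff A g).mp hg).symm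
    _ ≤ (Subgroup.normalizer (Y : Set G)).map (MulAut.conj g).toMonoidHom :=
      Subgroup.map_mono hY.2.2
    _ ≤ _ := Y.le_normalizer_map _

theorem map_conj_mem_max {A Q : Subgroup G} {π : Set ℕ} {g : G}
    (hg : g ∈ Subgroup.normalizer (A : Set G)) (hQ : Q ∈ maxInvSubgroups ⊤ A π) :
    Q.map (MulAut.conj g).toMonoidHom ∈ maxInvSubgroups ⊤ A π := by
  refine ⟨map_conj_mem_invSubgroups hg hQ.1, fun R hR hle => ?_⟩
  have h2 := hQ.2 _ (map_conj_mem_invSubgroups (inv_mem hg) hR)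
    (by simpa only [map_conj_inv] using Subgroup.map_mono (f := (MulAut.conj g⁻¹).toMonoidHom) hle)
  rw [← h2, map_conj_mul, mul_inv_cancel, map_conj_one]

theorem exists_max_ge [Finite G] {A Y : Subgroup G} {π : Set ℕ}
    (hY : Y ∈ invSubgroups ⊤ A π) : ∃ Q ∈ maxInvSubgroups ⊤ A π, Y ≤ Q := by
  obtain ⟨Q, hle, hQ⟩ :=
    (Set.toFinite (invSubgroups (⊤ : Subgroup G) A π)).exists_le_maximal hY
  exact ⟨Q, ⟨hQ.1, fun R hR h => le_antisymm (hQ.2 hR h) h⟩, hle⟩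

theorem bot_mem_invSubgroups (A : Subgroup G) (π : Set ℕ) :
    (⊥ : Subgroup G) ∈ invSubgroups ⊤ A π :=
  ⟨le_top, BGSigma.isPiSub_bot, fun a _ => Subgroup.mem_normalizer_iff.mpr fun x => by simp⟩

theorem isPGroup_of_isPiSub_singleton [Finite G] {q : ℕ} [Fact q.Prime] {Y : Subgroup G}
    (hY : BGSigma.IsPiSub {q} Y) : IsPGroup q Y :=
  IsPGroup.iff_card.mpr ⟨_, Nat.eq_prime_pow_of_unique_prime_dvd Nat.card_pos.ne'
    fun {r} hr hd => hY r hr hd⟩

theorem isPiSub_of_isPGroup [Finite G] {q : ℕ} [hq : Fact q.Prime] {π : Set ℕ} (hqπ : q ∈ π)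
    {Y : Subgroup G} (hY : IsPGroup q Y) : BGSigma.IsPiSub π Y := by
  intro r hr hd
  obtain ⟨n, hn⟩ := hY.exists_card_eq
  rw [hn] at hd
  rwa [(Nat.prime_dvd_prime_iff_eq hr hq.out).mp (hr.dvd_of_dvd_pow hd)]

theorem coprime_of_isPiSub_notDvd {n : ℕ} {Y : Subgroup G}
    (hY : BGSigma.IsPiSub (primesNotDvd n) Y) : n.Coprime (Nat.card Y) :=
  Nat.coprime_of_dvd fun k hk hkn hkY => (hY k hk hkY).2 hkn

/-- A proper subgroup of a `p`-group is properly contained in its normalizer. -/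
theorem lt_inf_normalizer [Finite G] {q : ℕ} [Fact q.Prime] {D Q : Subgroup G}
    (hQ : IsPGroup q Q) (h : D < Q) : D < Q ⊓ Subgroup.normalizer (D : Set G) := by
  refine lt_of_le_of_ne (le_inf h.le Subgroup.le_normalizer) fun heq => ?_
  haveI := hQ.isNilpotent
  have hlt : D.subgroupOf Q < ⊤ := lt_top_iff_ne_top.mpr fun ht =>
    h.ne (le_antisymm h.le (Subgroup.subgroupOf_eq_top.mp ht))
  obtain ⟨x, hxN, hxD⟩ :=
    SetLike.exists_of_lt (Group.normalizerCondition_of_isNilpotent _ hlt)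
  refine hxD (show (x : G) ∈ D from heq.symm ▸ ⟨x.2, ?_⟩)
  refine Subgroup.mem_normalizer_iff.mpr fun y => ⟨fun hy => ?_, fun hy => ?_⟩
  · exact (Subgroup.mem_normalizer_iff.mp hxN ⟨y, h.le hy⟩).mp hy
  · have hyQ : y ∈ Q := by
      have := Q.mul_mem (Q.mul_mem (Q.inv_mem x.2) (h.le hy)) x.2
      simpa [mul_assoc] using this
    exact (Subgroup.mem_normalizer_iff.mp hxN ⟨y, hyQ⟩).mpr hy

/-! ### Noncyclic subgroups of elementary abelian groups -/

theorem orderOf_eq_of_elementary {p : ℕ} [Fact p.Prime] {E : Subgroup G}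
    (hE : IsElementaryAbelian p E) {a : G} (ha : a ∈ E) (ha1 : a ≠ 1) : orderOf a = p :=
  orderOf_eq_prime (hE.2 a ha) ha1

theorem not_isCyclic_pair [Finite G] {p : ℕ} [hp : Fact p.Prime] {E : Subgroup G}
    (hE : IsElementaryAbelian p E) {a b : G} (ha : a ∈ E) (ha1 : a ≠ 1) (hb : b ∈ E)
    (hba : b ∉ Subgroup.zpowers a) :
    ¬ IsCyclic ↥(Subgroup.zpowers a ⊔ Subgroup.zpowers b) := by
  rw [Subgroup.isCyclic_iff_exists_zpowers_eq_top]
  rintro ⟨h, hh⟩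
  have hFE : Subgroup.zpowers a ⊔ Subgroup.zpowers b ≤ E :=
    sup_le (Subgroup.zpowers_le.mpr ha) (Subgroup.zpowers_le.mpr hb)
  have hdvd : orderOf h ∣ p :=
    orderOf_dvd_of_pow_eq_one (hE.2 h (hFE (hh ▸ Subgroup.mem_zpowers h)))
  have hle : Subgroup.zpowers a ≤ Subgroup.zpowers h := hh.symm ▸ le_sup_left
  have heq : Subgroup.zpowers a = Subgroup.zpowers h := by
    refine Subgroup.eq_of_le_of_card_ge hle ?_
    rw [Nat.card_zpowers, Nat.card_zpowers, orderOf_eq_of_elementary hE ha ha1]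
    exact Nat.le_of_dvd hp.out.pos hdvd
  exact hba (heq ▸ hh.symm ▸ Subgroup.mem_sup_right (Subgroup.mem_zpowers b))

theorem exists_not_mem_of_card_lt [Finite G] {E F : Subgroup G}
    (h : Nat.card F < Nat.card E) : ∃ x ∈ E, x ∉ F := by
  by_contra hne
  push Not at hne
  exact absurd (Subgroup.card_le_of_le (fun x hx => hne x hx)) (not_le.mpr h)

theorem card_sup_zpowers_le [Finite G] {p : ℕ} [Fact p.Prime] {E : Subgroup G}
    (hE : IsElementaryAbelian p E) {a b : G} (ha : a ∈ E) (hb : b ∈ E) (ha1 : a ≠ 1)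
    (hb1 : b ≠ 1) :
    Nat.card ↥(Subgroup.zpowers a ⊔ Subgroup.zpowers b) ≤ p * p ∧
      (b ∉ Subgroup.zpowers a →
        Nat.card ↥(Subgroup.zpowers a ⊔ Subgroup.zpowers b) = p * p) := by
  have hn : Subgroup.zpowers b ≤ Subgroup.normalizer (Subgroup.zpowers a : Set G) := by
    refine le_trans ?_ (Subgroup.centralizer_le_normalizer _)
    rw [Subgroup.zpowers_le, centralizer_zpowers, Subgroup.mem_centralizer_singleton_iff]
    exact congrArg Subtype.val (hE.1.is_comm.comm (⟨b, hb⟩ : E) ⟨a, ha⟩)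
  have h := Thompson.card_sup_mul_card_inf hn
  rw [Nat.card_zpowers, Nat.card_zpowers, orderOf_eq_of_elementary hE ha ha1,
    orderOf_eq_of_elementary hE hb hb1] at h
  refine ⟨h ▸ Nat.le_mul_of_pos_right _ Nat.card_pos, fun hba => ?_⟩
  have hd : Nat.card ↥(Subgroup.zpowers a ⊓ Subgroup.zpowers b) ∣ p := by
    have := Subgroup.card_dvd_of_le
      (inf_le_right : Subgroup.zpowers a ⊓ Subgroup.zpowers b ≤ Subgroup.zpowers b)
    rwa [Nat.card_zpowers, orderOf_eq_of_elementary hE hb hb1] at this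
  rcases (Nat.dvd_prime Fact.out).mp hd with h1 | h1
  · rw [h1, mul_one] at h; exact h
  · have heq : Subgroup.zpowers a ⊓ Subgroup.zpowers b = Subgroup.zpowers b := by
      refine Subgroup.eq_of_le_of_card_ge inf_le_right ?_
      rw [h1, Nat.card_zpowers, orderOf_eq_of_elementary hE hb hb1]
    have hbm : b ∈ Subgroup.zpowers a ⊓ Subgroup.zpowers b :=
      heq.symm ▸ Subgroup.mem_zpowers b
    exact absurd hbm.1 hba

/-- Two generators of a noncyclic subgroup of an elementary abelian group. -/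
theorem exists_pair [Finite G] {p : ℕ} [hp : Fact p.Prime] {E : Subgroup G}
    (hE : IsElementaryAbelian p E) (hc : p ^ 2 ≤ Nat.card E) :
    ∃ a ∈ E, ∃ b ∈ E, a ≠ 1 ∧ b ∉ Subgroup.zpowers a := by
  have h2 := hp.out.two_le
  obtain ⟨a, ha, ha1⟩ := exists_mem_ne_one (A := E) (fun h => by
    rw [h, Subgroup.card_bot] at hc; nlinarith [sq p, hc])
  obtain ⟨b, hb, hba⟩ := exists_not_mem_of_card_lt (E := E) (F := Subgroup.zpowers a) (by
    rw [Nat.card_zpowers, orderOf_eq_of_elementary hE ha ha1]; nlinarith [sq p, hc])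
  exact ⟨a, ha, b, hb, ha1, hba⟩

/-- In an elementary abelian group of order at least `p³`, a noncyclic subgroup avoiding a given
element. -/
theorem exists_pair_avoiding [Finite G] {p : ℕ} [hp : Fact p.Prime] {E : Subgroup G}
    (hE : IsElementaryAbelian p E) (hc : p ^ 3 ≤ Nat.card E) {e : G} (he : e ∈ E)
    (he1 : e ≠ 1) :
    ∃ a ∈ E, ∃ b ∈ E, a ≠ 1 ∧ b ∉ Subgroup.zpowers a ∧
      e ∉ Subgroup.zpowers a ⊔ Subgroup.zpowers b := by
  have h2 := hp.out.two_le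
  obtain ⟨a, ha, hae⟩ := exists_not_mem_of_card_lt (E := E) (F := Subgroup.zpowers e) (by
    rw [Nat.card_zpowers, orderOf_eq_of_elementary hE he he1]
    calc p = p ^ 1 := (pow_one p).symm
      _ < p ^ 3 := Nat.pow_lt_pow_right hp.out.one_lt (by norm_num)
      _ ≤ _ := hc)
  have ha1 : a ≠ 1 := fun h => hae (h ▸ Subgroup.one_mem _)
  obtain ⟨b, hb, hbe⟩ :=
    exists_not_mem_of_card_lt (E := E) (F := Subgroup.zpowers e ⊔ Subgroup.zpowers a) (by
      refine lt_of_le_of_lt (card_sup_zpowers_le hE he ha he1 ha1).1 ?_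
      calc p * p = p ^ 2 := (sq p).symm
        _ < p ^ 3 := Nat.pow_lt_pow_right hp.out.one_lt (by norm_num)
        _ ≤ _ := hc)
  have hb1 : b ≠ 1 := fun h => hbe (h ▸ Subgroup.one_mem _)
  refine ⟨a, ha, b, hb, ha1, fun h => hbe (Subgroup.mem_sup_right h), fun heF => hbe ?_⟩
  have heq : Subgroup.zpowers e ⊔ Subgroup.zpowers a =
      Subgroup.zpowers a ⊔ Subgroup.zpowers b := by
    refine Subgroup.eq_of_le_of_card_ge (sup_le (Subgroup.zpowers_le.mpr heF) le_sup_left) ?_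
    rw [(card_sup_zpowers_le hE he ha he1 ha1).2 hae]
    exact (card_sup_zpowers_le hE ha hb ha1 hb1).1
  exact heq ▸ Subgroup.mem_sup_right (Subgroup.mem_zpowers b)

/-- A noncyclic abelian group normalizing a nontrivial coprime group has an element with
nontrivial fixed points. -/
theorem exists_fixed_ne_bot [Finite G] {F Q : Subgroup G} (hFc : IsMulCommutative F)
    (hF : ¬ IsCyclic F) (hFQ : F ≤ Subgroup.normalizer (Q : Set G))
    (hcop : (Nat.card F).Coprime (Nat.card Q)) (hQ : Q ≠ ⊥) :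
    ∃ f ∈ F, f ≠ 1 ∧ Q ⊓ Subgroup.centralizer ({f} : Set G) ≠ ⊥ := by
  by_contra h
  push Not at h
  haveI := hFc
  exact hQ (le_bot_iff.mp (Coprime.le_of_centralizer_le F Q ⊥ hF hFQ hcop
    fun f hf hf1 => (h f hf hf1).le))

section TH

variable [Finite G] (hG : IsMinSimpleOddOrder G) {A : Subgroup G} (hA : TransitivityHypothesis A)
include hA

theorem le_piCoreOf_of_TH {X Y : Subgroup G} (hX : X ≠ ⊤) (hAX : A ≤ X) (hYX : Y ≤ X)
    (hAY : A ≤ Subgroup.normalizer (Y : Set G))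
    (hY : BGSigma.IsPiSub (primesNotDvd (Nat.card A)) Y) :
    Y ≤ piCoreOf (primesNotDvd (Nat.card A)) X :=
  (le_sSup (show Y ∈ invSubgroups X A _ from ⟨hYX, hY, hAY⟩)).trans (hA.2.2 X hX hAX).le

include hG

omit hA in
theorem coprime_inv {q : ℕ} [hq : Fact q.Prime] (hqA : ¬ q ∣ Nat.card A) {Q : Subgroup G}
    (hQ : Q ∈ invSubgroups ⊤ A {q}) : (Nat.card A).Coprime (Nat.card Q) :=
  coprime_of_isPiSub_notDvd (isPiSub_of_isPGroup (π := primesNotDvd (Nat.card A)) ⟨hq.out, hqA⟩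
    (isPGroup_of_isPiSub_singleton hQ.2.1))

/-- `π(A)'`-subgroups centralizing `A` lie in `O_{π(A)'}(C(A))`. -/
theorem le_coreK {Y : Subgroup G} (hY : Y ≤ Subgroup.centralizer (A : Set G))
    (hπ : BGSigma.IsPiSub (primesNotDvd (Nat.card A)) Y) : Y ≤ coreK A := by
  have hCN := Subgroup.centralizer_le_normalizer (G := G) (A : Set G)
  have hO := le_piCoreOf_of_TH hA (BGSigma.normalizer_ne_top hG hA.1 hA.2.1)
    Subgroup.le_normalizer (hY.trans hCN)
    ((Subgroup.le_centralizer_iff.mp hY).trans (Subgroup.centralizer_le_normalizer _)) hπ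
  refine (le_inf hO hY).trans (BGSigma.le_piCoreOf inf_le_right ?_
    ((BGSigma.isPiSub_piCoreOf _).mono_le inf_le_left))
  exact Coprime.le_normalizer_inf
    (hCN.trans (Subgroup.le_normalizer.trans (BGSigma.piCoreOf_normalized _)))
    Subgroup.le_normalizer

variable {q : ℕ} [hq : Fact q.Prime] (hqA : ¬ q ∣ Nat.card A)
include hqA

/-- Two invariant `q`-subgroups of a proper overgroup of `A` lie in maximal ones linked by an
element of `K`. -/
theorem exists_max_pair {H E₁ E₂ : Subgroup G} (hH : H ≠ ⊤) (hAH : A ≤ H) (h1 : E₁ ≤ H)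
    (h2 : E₂ ≤ H) (hE₁ : E₁ ∈ invSubgroups ⊤ A {q}) (hE₂ : E₂ ∈ invSubgroups ⊤ A {q}) :
    ∃ R₁ ∈ maxInvSubgroups ⊤ A {q}, ∃ R₂ ∈ maxInvSubgroups ⊤ A {q}, ∃ c ∈ coreK A,
      E₁ ≤ R₁ ∧ E₂ ≤ R₂ ∧ E₂ ≤ R₁.map (MulAut.conj c).toMonoidHom := by
  set π := primesNotDvd (Nat.card A) with hπ
  have hqπ : q ∈ π := ⟨hq.out, hqA⟩
  have hq1 := isPGroup_of_isPiSub_singleton hE₁.2.1
  have hq2 := isPGroup_of_isPiSub_singleton hE₂.2.1
  set N := piCoreOf π H with hN
  have hN1 : E₁ ≤ N := le_piCoreOf_of_TH hA hH hAH h1 hE₁.2.2 (isPiSub_of_isPGroup hqπ hq1)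
  have hN2 : E₂ ≤ N := le_piCoreOf_of_TH hA hH hAH h2 hE₂.2.2 (isPiSub_of_isPGroup hqπ hq2)
  have hAN : A ≤ Subgroup.normalizer (N : Set G) :=
    hAH.trans (Subgroup.le_normalizer.trans (BGSigma.piCoreOf_normalized H))
  have hNπ : BGSigma.IsPiSub π N := BGSigma.isPiSub_piCoreOf H
  have hcop := coprime_of_isPiSub_notDvd hNπ
  have hsolv : Group.IsSolvable N :=
    Coprime.solvable_of_le (BGSigma.piCoreOf_le H) (BGSigma.isSolvable_of_ne_top hG hH)
  obtain ⟨S₁, hES₁, hS₁⟩ :=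
    Coprime.exists_invariant_sylow_ge A N hAN hcop (Or.inr hsolv) q E₁ hN1 hq1 hE₁.2.2
  obtain ⟨S₂, hES₂, hS₂⟩ :=
    Coprime.exists_invariant_sylow_ge A N hAN hcop (Or.inr hsolv) q E₂ hN2 hq2 hE₂.2.2
  obtain ⟨c, hc, hcS⟩ :=
    Coprime.exists_invariant_sylow_conj A N hAN hcop (Or.inr hsolv) q S₁ S₂ hS₁ hS₂
  have hcK : (c : G) ∈ coreK A :=
    le_coreK hG hA (Y := N ⊓ Subgroup.centralizer (A : Set G)) inf_le_right
      (hNπ.mono_le inf_le_left) ⟨c.2, hc⟩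
  have hSinv : ∀ S : Sylow q N,
      A ≤ Subgroup.normalizer ((S : Subgroup N).map N.subtype : Set G) →
      (S : Subgroup N).map N.subtype ∈ invSubgroups ⊤ A {q} := fun S hS =>
    ⟨le_top, isPiSub_of_isPGroup (Set.mem_singleton q) (S.isPGroup'.map _), hS⟩
  obtain ⟨R₁, hR₁, hSR₁⟩ := exists_max_ge (hSinv S₁ hS₁)
  obtain ⟨R₂, hR₂, hSR₂⟩ := exists_max_ge (hSinv S₂ hS₂)
  refine ⟨R₁, hR₁, R₂, hR₂, c, hcK, hES₁.trans hSR₁, hES₂.trans hSR₂, ?_⟩
  refine hES₂.trans ?_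
  have e : (S₂ : Subgroup N).map N.subtype =
      ((S₁ : Subgroup N).map N.subtype).map (MulAut.conj (c : G)).toMonoidHom := by
    have e' : N.subtype.comp ((MulAut.conj c : N ≃* N) : N →* N) =
        (MulAut.conj (c : G)).toMonoidHom.comp N.subtype := by ext x; simp
    rw [← hcS, Subgroup.map_map, ← e', ← Subgroup.map_map]
    rfl
  rw [e]
  exact Subgroup.map_mono hSR₁

theorem conjUnder_of_inf_ne_bot {Q₁ Q₂ : Subgroup G} (h₁ : Q₁ ∈ maxInvSubgroups ⊤ A {q})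
    (h₂ : Q₂ ∈ maxInvSubgroups ⊤ A {q}) (hD : Q₁ ⊓ Q₂ ≠ ⊥) : ConjUnder (coreK A) Q₁ Q₂ := by
  induction hn : Nat.card G - Nat.card ↥(Q₁ ⊓ Q₂) using Nat.strong_induction_on
    generalizing Q₁ Q₂ with
  | _ n IH =>
  rcases eq_or_ne Q₁ Q₂ with rfl | hne
  · exact conjUnder_refl _ _
  set D := Q₁ ⊓ Q₂ with hDdef
  have hq1 := isPGroup_of_isPiSub_singleton h₁.1.2.1
  have hq2 := isPGroup_of_isPiSub_singleton h₂.1.2.1
  have hlt1 : D < Q₁ := lt_of_le_of_ne inf_le_left fun h =>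
    hne (h₁.2 Q₂ h₂.1 (h.symm.le.trans inf_le_right)).symm
  have hlt2 : D < Q₂ := lt_of_le_of_ne inf_le_right fun h =>
    hne (h₂.2 Q₁ h₁.1 (h.symm.le.trans inf_le_left))
  have hAD : A ≤ Subgroup.normalizer (D : Set G) := Coprime.le_normalizer_inf h₁.1.2.2 h₂.1.2.2
  have hDtop : D ≠ ⊤ := fun h => (h ▸ hlt1).not_ge le_top
  set H := Subgroup.normalizer (D : Set G) with hHdef
  have hH : H ≠ ⊤ := BGSigma.normalizer_ne_top hG hD hDtop
  have hinv : ∀ Q : Subgroup G, Q ∈ maxInvSubgroups ⊤ A {q} →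
      Q ⊓ H ∈ invSubgroups ⊤ A {q} := fun Q hQ =>
    ⟨le_top, BGSigma.IsPiSub.mono_le hQ.1.2.1 inf_le_left,
      Coprime.le_normalizer_inf hQ.1.2.2 (hAD.trans Subgroup.le_normalizer)⟩
  obtain ⟨R₁, hR₁, R₂, hR₂, c, hc, hE₁, hE₂, hE₂'⟩ :=
    exists_max_pair hG hA hqA hH hAD inf_le_right inf_le_right (hinv Q₁ h₁) (hinv Q₂ h₂)
  have hcN : (c : G) ∈ Subgroup.normalizer (A : Set G) :=
    Subgroup.centralizer_le_normalizer _ (BGSigma.piCoreOf_le _ hc)
  have hR₁' := map_conj_mem_max hcN hR₁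
  have step : ∀ {X Y E : Subgroup G}, X ∈ maxInvSubgroups ⊤ A {q} →
      Y ∈ maxInvSubgroups ⊤ A {q} → D < E → E ≤ X ⊓ Y → ConjUnder (coreK A) X Y := by
    intro X Y E hX hY hDE hE
    have hlt : D < X ⊓ Y := lt_of_lt_of_le hDE hE
    have h1 : Nat.card D < Nat.card ↥(X ⊓ Y) :=
      lt_of_le_of_ne (Subgroup.card_le_of_le hlt.le)
        fun h => hlt.ne (Subgroup.eq_of_le_of_card_ge hlt.le h.ge)
    have h2 : Nat.card ↥(X ⊓ Y) ≤ Nat.card G := Subgroup.card_le_card_group _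
    exact IH _ (by omega) hX hY (fun h => hD (le_bot_iff.mp (h ▸ hlt.le))) rfl
  have hD1 := lt_inf_normalizer hq1 hlt1
  have hD2 := lt_inf_normalizer hq2 hlt2
  refine (step h₁ hR₁ hD1 (le_inf inf_le_left hE₁)).trans ?_
  refine ConjUnder.trans (Q₂ := R₁.map (MulAut.conj c).toMonoidHom) ⟨c, hc, rfl⟩ ?_
  exact (step hR₁' hR₂ hD2 (le_inf hE₂' hE₂)).trans
    (step hR₂ h₂ hD2 (le_inf hE₂ inf_le_left))

theorem conjUnder_of_common_overgroup {Q₁ Q₂ H : Subgroup G}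
    (h₁ : Q₁ ∈ maxInvSubgroups ⊤ A {q}) (h₂ : Q₂ ∈ maxInvSubgroups ⊤ A {q}) (hH : H ≠ ⊤)
    (hAH : A ≤ H) (hH₁ : H ⊓ Q₁ ≠ ⊥) (hH₂ : H ⊓ Q₂ ≠ ⊥) : ConjUnder (coreK A) Q₁ Q₂ := by
  have hinv : ∀ Q : Subgroup G, Q ∈ maxInvSubgroups ⊤ A {q} →
      H ⊓ Q ∈ invSubgroups ⊤ A {q} := fun Q hQ =>
    ⟨le_top, BGSigma.IsPiSub.mono_le hQ.1.2.1 inf_le_right,
      Coprime.le_normalizer_inf (hAH.trans Subgroup.le_normalizer) hQ.1.2.2⟩
  obtain ⟨R₁, hR₁, R₂, hR₂, c, hc, hE₁, hE₂, hE₂'⟩ :=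
    exists_max_pair hG hA hqA hH hAH inf_le_left inf_le_left (hinv Q₁ h₁) (hinv Q₂ h₂)
  have hR₁' := map_conj_mem_max
    (Subgroup.centralizer_le_normalizer _ (BGSigma.piCoreOf_le _ hc)) hR₁
  have ne : ∀ {E X Y : Subgroup G}, E ≠ ⊥ → E ≤ X → E ≤ Y → X ⊓ Y ≠ ⊥ := fun hE hX hY h =>
    hE (le_bot_iff.mp (h ▸ le_inf hX hY))
  refine (conjUnder_of_inf_ne_bot hG hA hqA h₁ hR₁ (ne hH₁ inf_le_right hE₁)).trans ?_
  refine ConjUnder.trans (Q₂ := R₁.map (MulAut.conj c).toMonoidHom) ⟨c, hc, rfl⟩ ?_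
  exact (conjUnder_of_inf_ne_bot hG hA hqA hR₁' hR₂ (ne hH₂ hE₂' hE₂)).trans
    (conjUnder_of_inf_ne_bot hG hA hqA hR₂ h₂ (ne hH₂ hE₂ inf_le_right))

theorem transitive_of_center_rank_three
    (hZ : ¬ RankLE 2 ↥(A ⊓ Subgroup.centralizer (A : Set G))) :
    ∀ Q₁ ∈ maxInvSubgroups ⊤ A {q}, ∀ Q₂ ∈ maxInvSubgroups ⊤ A {q},
      ConjUnder (coreK A) Q₁ Q₂ := by
  intro Q₁ h₁ Q₂ h₂
  rcases eq_or_ne Q₁ ⊥ with rfl | hQ₁
  · rw [h₁.2 Q₂ h₂.1 bot_le]; exact conjUnder_refl _ _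
  rcases eq_or_ne Q₂ ⊥ with rfl | hQ₂
  · rw [h₂.2 Q₁ h₁.1 bot_le]; exact conjUnder_refl _ _
  simp only [RankLE, not_forall, exists_prop] at hZ
  obtain ⟨p, hp, hZp⟩ := hZ
  haveI := Fact.mk hp
  obtain ⟨E, hEZ, hE, hEc⟩ := exists_elementary_of_not_pRankLE hZp
  have hEA : E ≤ A := hEZ.trans inf_le_left
  have hcop : ∀ {F : Subgroup G}, F ≤ E → ∀ {Q : Subgroup G}, Q ∈ invSubgroups ⊤ A {q} →
      (Nat.card F).Coprime (Nat.card Q) := fun {F} hF {Q} hQ =>
    (coprime_inv hG hqA hQ).coprime_dvd_left (Subgroup.card_dvd_of_le (hF.trans hEA))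
  have hEnc : ¬ IsCyclic E := by
    intro h
    obtain ⟨a, ha, b, hb, ha1, hba⟩ :=
      exists_pair hE (le_trans (Nat.pow_le_pow_right hp.pos (by norm_num)) hEc)
    exact not_isCyclic_pair hE ha ha1 hb hba (Subgroup.isCyclic_of_le
      (sup_le (Subgroup.zpowers_le.mpr ha) (Subgroup.zpowers_le.mpr hb)))
  obtain ⟨e, he, he1, heQ⟩ := exists_fixed_ne_bot hE.1 hEnc (hEA.trans h₁.1.2.2)
    (hcop le_rfl h₁.1) hQ₁
  obtain ⟨g, hg, g', hg', hg1, hgg', heF⟩ := exists_pair_avoiding hE hEc he he1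
  set F := Subgroup.zpowers g ⊔ Subgroup.zpowers g' with hFdef
  have hFE : F ≤ E := sup_le (Subgroup.zpowers_le.mpr hg) (Subgroup.zpowers_le.mpr hg')
  haveI := hE.1
  have hEcomm : ∀ {F : Subgroup G}, F ≤ E → IsMulCommutative F := fun hF =>
    ⟨⟨fun a b => by
      have := congrArg Subtype.val (hE.1.is_comm.comm (⟨a, hF a.2⟩ : E) ⟨b, hF b.2⟩)
      exact Subtype.ext this⟩⟩
  have hQ₁e : Q₁ ⊓ Subgroup.centralizer ({e} : Set G) ∈ invSubgroups ⊤ A {q} := by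
    refine ⟨le_top, BGSigma.IsPiSub.mono_le h₁.1.2.1 inf_le_left, ?_⟩
    refine Coprime.le_normalizer_inf h₁.1.2.2 ((le_trans ?_ Subgroup.le_normalizer))
    intro a ha
    exact Subgroup.mem_centralizer_singleton_iff.mpr ((hEZ he).2 a ha)
  obtain ⟨f, hf, hf1, hfQ⟩ := exists_fixed_ne_bot (hEcomm hFE)
    (not_isCyclic_pair hE hg hg1 hg' hgg') ((hFE.trans hEA).trans hQ₁e.2.2)
    (hcop hFE hQ₁e) heQ
  have hef : f ∉ Subgroup.zpowers e := by
    intro h
    apply heF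
    have : Subgroup.zpowers f = Subgroup.zpowers e := by
      refine Subgroup.eq_of_le_of_card_ge (Subgroup.zpowers_le.mpr h) ?_
      rw [Nat.card_zpowers, Nat.card_zpowers, orderOf_eq_of_elementary hE he he1,
        orderOf_eq_of_elementary hE (hFE hf) hf1]
    exact Subgroup.zpowers_le.mpr hf (this.symm ▸ Subgroup.mem_zpowers e)
  have hBE : Subgroup.zpowers e ⊔ Subgroup.zpowers f ≤ E :=
    sup_le (Subgroup.zpowers_le.mpr he) (Subgroup.zpowers_le.mpr (hFE hf))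
  obtain ⟨b, hb, hb1, hbQ⟩ := exists_fixed_ne_bot (hEcomm hBE)
    (not_isCyclic_pair hE he he1 (hFE hf) hef) ((hBE.trans hEA).trans h₂.1.2.2)
    (hcop hBE h₂.1) hQ₂
  obtain ⟨y, ⟨⟨hyQ, hye⟩, hyf⟩, hy1⟩ := exists_mem_ne_one hfQ
  have hby : b ∈ Subgroup.centralizer ({y} : Set G) := by
    refine (sup_le ?_ ?_ : Subgroup.zpowers e ⊔ Subgroup.zpowers f ≤ _) hb
    · rw [Subgroup.zpowers_le, Subgroup.mem_centralizer_singleton_iff]
      exact (Subgroup.mem_centralizer_singleton_iff.mp hye).symm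
    · rw [Subgroup.zpowers_le, Subgroup.mem_centralizer_singleton_iff]
      exact (Subgroup.mem_centralizer_singleton_iff.mp hyf).symm
  refine conjUnder_of_common_overgroup hG hA hqA h₁ h₂
    (H := Subgroup.centralizer ({b} : Set G)) (centralizer_ne_top hG rfl hb1)
    (fun a ha => Subgroup.mem_centralizer_singleton_iff.mpr ((hEZ (hBE hb)).2 a ha)) ?_ ?_
  · intro h
    refine hy1 (Subgroup.mem_bot.mp (h ▸ Subgroup.mem_inf.mpr ⟨?_, hyQ⟩))
    exact Subgroup.mem_centralizer_singleton_iff.mpr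
      (Subgroup.mem_centralizer_singleton_iff.mp hby).symm
  · rwa [inf_comm]

theorem transitive_of_center_rank_two
    (hZ : ¬ RankLE 1 ↥(A ⊓ Subgroup.centralizer (A : Set G)))
    (hqC : q ∣ Nat.card (Subgroup.centralizer (A : Set G))) :
    ∀ Q₁ ∈ maxInvSubgroups ⊤ A {q}, ∀ Q₂ ∈ maxInvSubgroups ⊤ A {q},
      ConjUnder (coreK A) Q₁ Q₂ := by
  obtain ⟨x, hx⟩ := exists_prime_orderOf_dvd_card' q hqC
  have hxq : IsPGroup q (Subgroup.zpowers (x : G)) := by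
    refine IsPGroup.iff_card.mpr ⟨1, ?_⟩
    rw [Nat.card_zpowers, Subgroup.orderOf_coe, hx, pow_one]
  have hxA : A ≤ Subgroup.centralizer (Subgroup.zpowers (x : G) : Set G) :=
    Subgroup.le_centralizer_iff.mp (Subgroup.zpowers_le.mpr x.2)
  have hx1 : (x : G) ≠ 1 := fun h => by
    rw [← Subgroup.orderOf_coe, h, orderOf_one] at hx
    exact hq.out.one_lt.ne hx
  obtain ⟨R, hR, hxR⟩ := exists_max_ge (A := A) (π := {q})
    (Y := Subgroup.zpowers (x : G))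
    ⟨le_top, isPiSub_of_isPGroup (Set.mem_singleton q) hxq,
      hxA.trans (Subgroup.centralizer_le_normalizer _)⟩
  simp only [RankLE, not_forall, exists_prop] at hZ
  obtain ⟨p, hp, hZp⟩ := hZ
  haveI := Fact.mk hp
  obtain ⟨E, hEZ, hE, hEc⟩ := exists_elementary_of_not_pRankLE hZp
  have hEA : E ≤ A := hEZ.trans inf_le_left
  have hEnc : ¬ IsCyclic E := by
    intro h
    haveI := hE.1
    obtain ⟨a, ha, b, hb, ha1, hba⟩ := exists_pair hE hEc
    exact not_isCyclic_pair hE ha ha1 hb hba (Subgroup.isCyclic_of_le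
      (sup_le (Subgroup.zpowers_le.mpr ha) (Subgroup.zpowers_le.mpr hb)))
  suffices key : ∀ Q ∈ maxInvSubgroups ⊤ A {q}, ConjUnder (coreK A) Q R from
    fun Q₁ h₁ Q₂ h₂ => (key Q₁ h₁).trans (key Q₂ h₂).symm
  intro Q hQ
  rcases eq_or_ne Q ⊥ with rfl | hQ0
  · rw [hQ.2 R hR.1 bot_le]; exact conjUnder_refl _ _
  obtain ⟨b, hb, hb1, hbQ⟩ := exists_fixed_ne_bot hE.1 hEnc (hEA.trans hQ.1.2.2)
    ((coprime_inv hG hqA hQ.1).coprime_dvd_left (Subgroup.card_dvd_of_le hEA)) hQ0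
  refine conjUnder_of_common_overgroup hG hA hqA hQ hR
    (H := Subgroup.centralizer ({b} : Set G)) (centralizer_ne_top hG rfl hb1)
    (fun a ha => Subgroup.mem_centralizer_singleton_iff.mpr ((hEZ hb).2 a ha))
    (by rwa [inf_comm]) ?_
  intro h
  suffices hm : (x : G) ∈ Subgroup.centralizer ({b} : Set G) ⊓ R by
    rw [h] at hm
    exact hx1 (Subgroup.mem_bot.mp hm)
  refine Subgroup.mem_inf.mpr ⟨?_, hxR (Subgroup.mem_zpowers _)⟩
  exact Subgroup.mem_centralizer_singleton_iff.mpr (x.2 b (hEA hb)).symm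

/-- Transitivity passes from `B` to an overgroup `B'` normalizing it. -/
theorem transitive_step {B B' : Subgroup G} (hAB : A ≤ B) (hBB' : B ≤ B')
    (hn : B' ≤ Subgroup.normalizer (B : Set G))
    (hπ : ∀ r : ℕ, r.Prime → r ∣ Nat.card B' → r ∣ Nat.card A)
    (hmax : maxInvSubgroups ⊤ B {q} ⊆ maxInvSubgroups ⊤ A {q})
    (htr : ∀ Q₁ ∈ maxInvSubgroups ⊤ B {q}, ∀ Q₂ ∈ maxInvSubgroups ⊤ B {q},
      ConjUnder (coreK A ⊓ Subgroup.centralizer (B : Set G)) Q₁ Q₂) :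
    maxInvSubgroups ⊤ B' {q} ⊆ maxInvSubgroups ⊤ A {q} ∧
      ∀ Q₁ ∈ maxInvSubgroups ⊤ B' {q}, ∀ Q₂ ∈ maxInvSubgroups ⊤ B' {q},
        ConjUnder (coreK A ⊓ Subgroup.centralizer (B' : Set G)) Q₁ Q₂ := by
  set π := primesNotDvd (Nat.card A) with hπdef
  set K' := coreK A ⊓ Subgroup.centralizer (B : Set G) with hK'
  have hcopB : ∀ {Y : Subgroup G}, BGSigma.IsPiSub π Y →
      (Nat.card B').Coprime (Nat.card Y) := fun hY =>
    Nat.coprime_of_dvd fun k hk hkB hkY => (hY k hk hkY).2 (hπ k hk hkB)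
  have hK'π : BGSigma.IsPiSub π K' := (BGSigma.isPiSub_piCoreOf _).mono_le inf_le_left
  have hsolK : Group.IsSolvable K' := BGSigma.isSolvable_of_ne_top hG fun h => by
    obtain ⟨a, ha, ha1⟩ := exists_mem_ne_one hA.1
    exact centralizer_ne_top hG (S := (A : Set G)) ha ha1
      (top_le_iff.mp (h.symm.le.trans (inf_le_left.trans (BGSigma.piCoreOf_le _))))
  have hK'eq : K' = piCoreOf π (Subgroup.centralizer (B : Set G)) := by
    refine le_antisymm (BGSigma.le_piCoreOf inf_le_right ?_ hK'π) (le_inf ?_ ?_)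
    · exact Coprime.le_normalizer_inf ((Subgroup.centralizer_le (s := (A : Set G)) hAB).trans
        (Subgroup.le_normalizer.trans (BGSigma.piCoreOf_normalized _))) Subgroup.le_normalizer
    · exact le_coreK hG hA ((BGSigma.piCoreOf_le _).trans
        (Subgroup.centralizer_le (s := (A : Set G)) hAB)) (BGSigma.isPiSub_piCoreOf _)
    · exact BGSigma.piCoreOf_le _
  have hB'K : B' ≤ Subgroup.normalizer (K' : Set G) := by
    rw [hK'eq]
    exact hn.trans ((Coprime.le_normalizer_centralizer le_rfl).trans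
      (BGSigma.piCoreOf_normalized _))
  have hinvB : ∀ {Y : Subgroup G}, Y ∈ invSubgroups ⊤ B' {q} → Y ∈ invSubgroups ⊤ B {q} :=
    fun hY => ⟨hY.1, hY.2.1, hBB'.trans hY.2.2⟩
  -- a maximal `B`-invariant subgroup normalized by `B'`
  obtain ⟨Q₀, hQ₀, hQ₀B'⟩ :
      ∃ Q₀ ∈ maxInvSubgroups ⊤ B {q}, B' ≤ Subgroup.normalizer (Q₀ : Set G) := by
    obtain ⟨Q, hQ, -⟩ := exists_max_ge (bot_mem_invSubgroups B {q})
    set S := (K' ⊔ B') ⊓ Subgroup.normalizer (Q : Set G) with hS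
    have hSK : S ≤ Subgroup.normalizer (K' : Set G) :=
      inf_le_left.trans (sup_le Subgroup.le_normalizer hB'K)
    have hle : B' ≤ K' ⊔ S := by
      intro a ha
      obtain ⟨k, hk, hkQ⟩ := htr Q hQ _ (map_conj_mem_max (hn ha) hQ)
      have hS' : k⁻¹ * a ∈ S := by
        refine Subgroup.mem_inf.mpr
          ⟨mul_mem (Subgroup.mem_sup_left (inv_mem hk)) (Subgroup.mem_sup_right ha), ?_⟩
        rw [map_conj_eq_self_iff, ← map_conj_mul, hkQ, map_conj_inv]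
      simpa using mul_mem (Subgroup.mem_sup_left hk) (Subgroup.mem_sup_right hS' :
        k⁻¹ * a ∈ K' ⊔ S)
    obtain ⟨k, hk, hkS⟩ := Coprime.exists_conj_le_of_le_sup B' K' S hB'K hSK (hcopB hK'π)
      (Or.inr hsolK) hle
    have hkN : k⁻¹ ∈ Subgroup.normalizer (B : Set G) :=
      inv_mem (Subgroup.centralizer_le_normalizer _ hk.2)
    refine ⟨Q.map (MulAut.conj k⁻¹).toMonoidHom, map_conj_mem_max hkN hQ, fun a ha => ?_⟩
    have h1 : Q.map (MulAut.conj (k * a * k⁻¹)).toMonoidHom = Q :=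
      (map_conj_eq_self_iff Q _).mp (hkS a ha).2
    rw [map_conj_eq_self_iff, map_conj_mul]
    conv_rhs => rw [← h1, map_conj_mul]
    congr 3
    group
  have hsub : maxInvSubgroups ⊤ B' {q} ⊆ maxInvSubgroups ⊤ B {q} := by
    intro Q' hQ'
    rcases eq_or_ne Q' ⊥ with rfl | hQ'0
    · rwa [hQ'.2 Q₀ ⟨hQ₀.1.1, hQ₀.1.2.1, hQ₀B'⟩ bot_le] at hQ₀
    obtain ⟨R, hR, hQR⟩ := exists_max_ge (hinvB hQ'.1)
    rcases hQR.eq_or_lt with h | hlt
    · rwa [h]
    exfalso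
    have hRq := isPGroup_of_isPiSub_singleton hR.1.2.1
    have hQq := isPGroup_of_isPiSub_singleton hQ'.1.2.1
    have hqπ : q ∈ π := ⟨hq.out, hqA⟩
    set H := Subgroup.normalizer (Q' : Set G) with hH
    have hHtop : H ≠ ⊤ :=
      BGSigma.normalizer_ne_top hG hQ'0 fun h => (h ▸ hlt).not_ge le_top
    have hAH : A ≤ H := (hAB.trans hBB').trans hQ'.1.2.2
    set N := piCoreOf π H with hN
    have hE : R ⊓ H ≤ N := le_piCoreOf_of_TH hA hHtop hAH inf_le_right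
      (Coprime.le_normalizer_inf (hAB.trans hR.1.2.2) (hAH.trans Subgroup.le_normalizer))
      (isPiSub_of_isPGroup hqπ (hRq.to_le inf_le_left))
    have hB'N : B' ≤ Subgroup.normalizer (N : Set G) :=
      hQ'.1.2.2.trans (Subgroup.le_normalizer.trans (BGSigma.piCoreOf_normalized H))
    obtain ⟨S, hQS, hSn⟩ := Coprime.exists_invariant_sylow_ge B' N hB'N
      (hcopB (BGSigma.isPiSub_piCoreOf H))
      (Or.inr (Coprime.solvable_of_le (BGSigma.piCoreOf_le H)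
        (BGSigma.isSolvable_of_ne_top hG hHtop))) q Q'
      ((le_inf hQR Subgroup.le_normalizer).trans hE) hQq hQ'.1.2.2
    have hSQ : (S : Subgroup N).map N.subtype = Q' :=
      hQ'.2 _ ⟨le_top, isPiSub_of_isPGroup (Set.mem_singleton q) (S.isPGroup'.map _), hSn⟩ hQS
    have hS1 : (S : Subgroup N) = Q'.subgroupOf N := by
      rw [← hSQ, Subgroup.subgroupOf,
        Subgroup.comap_map_eq_self_of_injective N.subtype_injective]
    have h3 : (R ⊓ H).subgroupOf N = (S : Subgroup N) :=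
      S.is_maximal' ((hRq.to_le inf_le_left).comap_subtype)
        (hS1 ▸ Subgroup.comap_mono (le_inf hQR Subgroup.le_normalizer))
    have h4 : R ⊓ H ≤ Q' := fun x hx => by
      have : (⟨x, hE hx⟩ : N) ∈ Q'.subgroupOf N := hS1 ▸ h3 ▸ hx
      exact this
    exact (lt_inf_normalizer hRq hlt).not_ge h4
  refine ⟨hsub.trans hmax, fun Q₁ h₁ Q₂ h₂ => ?_⟩
  obtain ⟨k, hk, hkQ⟩ := htr Q₁ (hsub h₁) Q₂ (hsub h₂)
  set S := (K' ⊔ B') ⊓ Subgroup.normalizer (Q₂ : Set G) with hS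
  have hkS : ∀ a ∈ B', k * a * k⁻¹ ∈ S := by
    intro a ha
    refine Subgroup.mem_inf.mpr
      ⟨mul_mem (mul_mem (Subgroup.mem_sup_left hk) (Subgroup.mem_sup_right ha))
      (inv_mem (Subgroup.mem_sup_left hk)), ?_⟩
    rw [map_conj_eq_self_iff, hkQ, map_conj_mul, inv_mul_cancel_right, ← map_conj_mul,
      (map_conj_eq_self_iff Q₁ a).mp (h₁.1.2.2 ha)]
  obtain ⟨s, hs, hsk⟩ := Coprime.exists_centralizing_mul B' K' S hB'K
    (le_inf le_sup_right h₂.1.2.2) (hcopB hK'π) (Or.inr hsolK) k hk hkS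
  refine ⟨s * k, ⟨mul_mem hs.1.1 hk.1, hsk⟩, ?_⟩
  rw [← map_conj_mul, ← hkQ, (map_conj_eq_self_iff Q₂ s).mp hs.2.2]

omit hqA in
theorem coreK_inf_centralizer {P : Subgroup G} (hAP : A ≤ P) :
    coreK A ⊓ Subgroup.centralizer (P : Set G) =
      piCoreOf (primesNotDvd (Nat.card A)) (Subgroup.centralizer (P : Set G)) := by
  refine le_antisymm (BGSigma.le_piCoreOf inf_le_right ?_
    ((BGSigma.isPiSub_piCoreOf _).mono_le inf_le_left)) (le_inf ?_ ?_)
  · exact Coprime.le_normalizer_inf ((Subgroup.centralizer_le (s := (A : Set G)) hAP).trans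
      (Subgroup.le_normalizer.trans (BGSigma.piCoreOf_normalized _))) Subgroup.le_normalizer
  · exact le_coreK hG hA ((BGSigma.piCoreOf_le _).trans
      (Subgroup.centralizer_le (s := (A : Set G)) hAP)) (BGSigma.isPiSub_piCoreOf _)
  · exact BGSigma.piCoreOf_le _

theorem transitive_of_subnormal {P : Subgroup G}
    (hPπ : ∀ r : ℕ, r.Prime → r ∣ Nat.card P → r ∣ Nat.card A) (hAP : A ≤ P)
    (hsn : (A.subgroupOf P).IsSubnormal)
    (htr : ∀ Q₁ ∈ maxInvSubgroups ⊤ A {q}, ∀ Q₂ ∈ maxInvSubgroups ⊤ A {q},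
      ConjUnder (coreK A) Q₁ Q₂) :
    maxInvSubgroups ⊤ P {q} ⊆ maxInvSubgroups ⊤ A {q} ∧
      ∀ Q₁ ∈ maxInvSubgroups ⊤ P {q}, ∀ Q₂ ∈ maxInvSubgroups ⊤ P {q},
        ConjUnder (coreK A ⊓ Subgroup.centralizer (P : Set G)) Q₁ Q₂ := by
  suffices key : ∀ H : Subgroup P, H.IsSubnormal → A ≤ H.map P.subtype →
      maxInvSubgroups ⊤ (H.map P.subtype) {q} ⊆ maxInvSubgroups ⊤ A {q} →
      (∀ Q₁ ∈ maxInvSubgroups ⊤ (H.map P.subtype) {q},
        ∀ Q₂ ∈ maxInvSubgroups ⊤ (H.map P.subtype) {q},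
          ConjUnder (coreK A ⊓ Subgroup.centralizer (H.map P.subtype : Set G)) Q₁ Q₂) →
      maxInvSubgroups ⊤ P {q} ⊆ maxInvSubgroups ⊤ A {q} ∧
        ∀ Q₁ ∈ maxInvSubgroups ⊤ P {q}, ∀ Q₂ ∈ maxInvSubgroups ⊤ P {q},
          ConjUnder (coreK A ⊓ Subgroup.centralizer (P : Set G)) Q₁ Q₂ by
    have e : (A.subgroupOf P).map P.subtype = A := Subgroup.map_subgroupOf_eq_of_le hAP
    refine key _ hsn e.ge (by rw [e]) ?_
    rw [e, inf_eq_left.mpr (BGSigma.piCoreOf_le _)]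
    exact htr
  intro H hH
  induction hH with
  | top =>
    intro _ h1 h2
    have e : (⊤ : Subgroup P).map P.subtype = P := by
      rw [← MonoidHom.range_eq_map, Subgroup.range_subtype]
    rw [e] at h1 h2
    exact ⟨h1, h2⟩
  | step H K hle _ hN ih =>
    intro hAH h1 h2
    have hle' : H.map P.subtype ≤ K.map P.subtype := Subgroup.map_mono hle
    have hn : K.map P.subtype ≤ Subgroup.normalizer (H.map P.subtype : Set G) :=
      (Subgroup.map_mono ((Subgroup.normal_subgroupOf_iff_le_normalizer hle).mp hN)).trans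
        (H.le_normalizer_map _)
    obtain ⟨h3, h4⟩ := transitive_step hG hA hqA hAH hle' hn
      (fun r hr hd => hPπ r hr (hd.trans
        (Subgroup.card_dvd_of_le (Subgroup.map_subtype_le _)))) h1 h2
    exact ih (hAH.trans hle') h3 h4

theorem normalizer_eq_sup_of_transitive {P Q : Subgroup G}
    (hPπ : ∀ r : ℕ, r.Prime → r ∣ Nat.card P → r ∣ Nat.card A)
    (htr : ∀ Q₁ ∈ maxInvSubgroups ⊤ P {q}, ∀ Q₂ ∈ maxInvSubgroups ⊤ P {q},
      ConjUnder (piCoreOf (primesNotDvd (Nat.card A)) (Subgroup.centralizer (P : Set G))) Q₁ Q₂)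
    (hQ : Q ∈ maxInvSubgroups ⊤ P {q}) :
    P ⊓ ⁅Subgroup.normalizer (P : Set G), Subgroup.normalizer (P : Set G)⁆ ≤
        ⁅Subgroup.normalizer (Q : Set G), Subgroup.normalizer (Q : Set G)⁆ ∧
      Subgroup.normalizer (P : Set G) =
        piCoreOf (primesNotDvd (Nat.card A)) (Subgroup.centralizer (P : Set G)) ⊔
          (Subgroup.normalizer (P : Set G) ⊓ Subgroup.normalizer (Q : Set G)) := by
  set K := piCoreOf (primesNotDvd (Nat.card A)) (Subgroup.centralizer (P : Set G)) with hK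
  set N := Subgroup.normalizer (P : Set G) with hNdef
  set U := N ⊓ Subgroup.normalizer (Q : Set G) with hU
  have hKN : K ≤ N := (BGSigma.piCoreOf_le _).trans (Subgroup.centralizer_le_normalizer _)
  have heq : N = K ⊔ U := by
    refine le_antisymm (fun g hg => ?_) (sup_le hKN inf_le_left)
    obtain ⟨k, hk, hkQ⟩ := htr Q hQ _ (map_conj_mem_max hg hQ)
    have : k⁻¹ * g ∈ U := by
      refine Subgroup.mem_inf.mpr ⟨mul_mem (inv_mem (hKN hk)) hg, ?_⟩
      rw [map_conj_eq_self_iff, ← map_conj_mul, hkQ, map_conj_inv]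
    simpa using mul_mem (Subgroup.mem_sup_left hk) (Subgroup.mem_sup_right this : _ ∈ K ⊔ U)
  refine ⟨?_, heq⟩
  have hNK : N ≤ Subgroup.normalizer (K : Set G) :=
    (Coprime.le_normalizer_centralizer le_rfl).trans (BGSigma.piCoreOf_normalized _)
  have hU'U : ⁅U, U⁆ ≤ U := Subgroup.commutator_le_self U
  have hN' : ⁅N, N⁆ ≤ K ⊔ ⁅U, U⁆ := by
    haveI : (K.subgroupOf N).Normal :=
      (Subgroup.normal_subgroupOf_iff_le_normalizer hKN).mpr hNK
    set f := QuotientGroup.mk' (K.subgroupOf N) with hf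
    have htop : (U.subgroupOf N).map f = ⊤ := by
      rw [← top_le_iff, ← Subgroup.map_top_of_surjective f (QuotientGroup.mk'_surjective _),
        Subgroup.map_le_iff_le_comap, Subgroup.comap_map_eq, QuotientGroup.ker_mk',
        ← Subgroup.subgroupOf_sup inf_le_left hKN, sup_comm, ← heq, Subgroup.subgroupOf_self]
    have h1 : commutator N ≤ ⁅U.subgroupOf N, U.subgroupOf N⁆ ⊔ K.subgroupOf N := by
      rw [← QuotientGroup.ker_mk' (K.subgroupOf N), ← Subgroup.comap_map_eq,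
        ← Subgroup.map_le_iff_le_comap, Subgroup.map_commutator, htop, commutator_def,
        Subgroup.map_commutator,
        Subgroup.map_top_of_surjective _ (QuotientGroup.mk'_surjective _)]
    have h2 := Subgroup.map_mono (f := N.subtype) h1
    rw [Subgroup.map_subtype_commutator, Subgroup.map_sup, Subgroup.map_commutator,
      Subgroup.map_subgroupOf_eq_of_le inf_le_left, Subgroup.map_subgroupOf_eq_of_le hKN] at h2
    rwa [sup_comm]
  rintro x ⟨hxP, hxN⟩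
  have hx := hN' hxN
  rw [← SetLike.mem_coe, Subgroup.coe_mul_of_right_le_normalizer_left K ⁅U, U⁆
    (hU'U.trans (inf_le_left.trans hNK))] at hx
  obtain ⟨k, hk, u, hu, rfl⟩ := hx
  have hxU : k * u ∈ U := ⟨Subgroup.le_normalizer hxP, hQ.1.2.2 hxP⟩
  have hkU : k ∈ U := by simpa using mul_mem hxU (inv_mem (hU'U hu))
  -- the image of `k` in `U / U'` has order dividing coprime numbers
  let f : U →* Abelianization U := Abelianization.of
  have hu1 : f ⟨u, hU'U hu⟩ = 1 := by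
    rw [← Subgroup.map_subtype_commutator] at hu
    obtain ⟨v, hv, hvu⟩ := hu
    have : (⟨u, hU'U (hvu ▸ Subgroup.map_subtype_commutator U ▸ ⟨v, hv, rfl⟩)⟩ : U) = v :=
      Subtype.ext hvu.symm
    rw [this]
    exact (QuotientGroup.eq_one_iff v).mpr hv
  have hfk : f ⟨k * u, hxU⟩ = f ⟨k, hkU⟩ := by
    rw [show (⟨k * u, hxU⟩ : U) = ⟨k, hkU⟩ * ⟨u, hU'U hu⟩ from rfl, map_mul, hu1, mul_one]
  have hd1 : orderOf (f ⟨k * u, hxU⟩) ∣ Nat.card P :=
    (orderOf_map_dvd f _).trans (by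
      rw [Subgroup.orderOf_mk, ← Subgroup.orderOf_mk (k * u) hxP]
      exact orderOf_dvd_natCard _)
  have hd2 : orderOf (f ⟨k, hkU⟩) ∣ Nat.card K :=
    (orderOf_map_dvd f _).trans (by
      rw [Subgroup.orderOf_mk, ← Subgroup.orderOf_mk k hk]
      exact orderOf_dvd_natCard _)
  rw [← hfk] at hd2
  have hcop : (Nat.card P).Coprime (Nat.card K) := Nat.coprime_of_dvd fun r hr h1 h2 =>
    (BGSigma.isPiSub_piCoreOf _ r hr h2).2 (hPπ r hr h1)
  have h1 : (⟨k * u, hxU⟩ : U) ∈ commutator U :=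
    (QuotientGroup.eq_one_iff _).mp
      (orderOf_eq_one_iff.mp (Nat.eq_one_of_dvd_coprimes hcop hd1 hd2))
  have h2 : ⁅U, U⁆ ≤ ⁅Subgroup.normalizer (Q : Set G), Subgroup.normalizer (Q : Set G)⁆ :=
    Subgroup.commutator_mono inf_le_right inf_le_right
  exact h2 (Subgroup.map_subtype_commutator U ▸ ⟨_, h1, rfl⟩)

end TH

end Cfsg.Agent.BGUniq
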