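import Cfsg.Agent.BGUniq.Inputs
import Cfsg.Agent.Lib.Coprime.Action
import Cfsg.Agent.Lib.Coprime.Generation

/-!
Invariant `p'`-subgroups for a self-centralizing normal subgroup of rank at least 2 of a Sylow
`p`-subgroup of a minimal simple group of odd order: they all lie in the `O_{p'}` of any proper
overgroup.
-/

set_option autoImplicit false

namespace Cfsg.Agent.BGUniq

open Cfsg

variable {G : Type*} [Group G] [Finite G] {p : ℕ} [hp : Fact p.Prime]

omit [Finite G] in
theorem isMulCommutative_of_isSCN {P A : Subgroup G} (hA : IsSCN P A) : IsMulCommutative A := by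
  refine ⟨⟨fun a b => Subtype.ext ?_⟩⟩
  have : (a : G) ∈ P ⊓ Subgroup.centralizer (A : Set G) := hA.2.2.symm ▸ a.2
  exact (this.2 (b : G) b.2).symm

omit [Finite G] in
theorem le_centralizer_of_isSCN {P A : Subgroup G} (hA : IsSCN P A) :
    A ≤ Subgroup.centralizer (A : Set G) := fun a ha => by
  have : a ∈ P ⊓ Subgroup.centralizer (A : Set G) := hA.2.2.symm ▸ ha
  exact this.2

omit [Finite G] hp in
theorem le_normalizer_inf {P X Y : Subgroup G} (hX : P ≤ Subgroup.normalizer (X : Set G))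
    (hY : P ≤ Subgroup.normalizer (Y : Set G)) :
    P ≤ Subgroup.normalizer ((X ⊓ Y : Subgroup G) : Set G) :=
  Coprime.le_normalizer_inf hX hY

omit [Finite G] hp in
theorem le_normalizer_of_le_centralizer {P X : Subgroup G}
    (h : P ≤ Subgroup.centralizer (X : Set G)) : P ≤ Subgroup.normalizer (X : Set G) :=
  h.trans (Subgroup.centralizer_le_normalizer (X : Set G))

/-- A normal subgroup of order `p²` inside `A`, with a central nontrivial element. -/
theorem exists_normal_pair (P : Sylow p G) {A : Subgroup G} (hA : IsSCN (P : Subgroup G) A)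
    (h2 : ¬ PRankLE p 1 A) :
    ∃ B : Subgroup G, B ≤ A ∧ IsElementaryAbelian p B ∧ Nat.card B = p ^ 2 ∧
      (P : Subgroup G) ≤ Subgroup.normalizer (B : Set G) ∧
      ∃ z ∈ B, z ≠ 1 ∧ z ∈ Subgroup.centralizer ((P : Subgroup G) : Set G) := by
  have hAc := isMulCommutative_of_isSCN hA
  obtain ⟨E, hEA, hEe, hEcard⟩ := exists_elementary_of_not_pRankLE h2
  have hcomm : ∀ a ∈ A, ∀ b ∈ A, Commute a b := fun a ha b hb =>
    congrArg Subtype.val (hAc.is_comm.comm (⟨a, ha⟩ : A) ⟨b, hb⟩)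
  let Om : Subgroup G :=
    { carrier := {x | x ∈ A ∧ x ^ p = 1}
      one_mem' := ⟨A.one_mem, one_pow p⟩
      mul_mem' := fun {a b} ha hb => ⟨A.mul_mem ha.1 hb.1, by
        rw [(hcomm a ha.1 b hb.1).mul_pow, ha.2, hb.2, one_mul]⟩
      inv_mem' := fun {a} ha => ⟨A.inv_mem ha.1, by rw [inv_pow, ha.2, inv_one]⟩ }
  have hOmA : Om ≤ A := fun x hx => hx.1
  have hOmP : Om ≤ (P : Subgroup G) := hOmA.trans hA.1
  have hEOm : E ≤ Om := fun x hx => ⟨hEA hx, hEe.2 x hx⟩
  have hOmN : (P : Subgroup G) ≤ Subgroup.normalizer (Om : Set G) := by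
    refine Coprime.le_normalizer_of_conj_mem fun g hg x hx => ?_
    refine ⟨(Subgroup.mem_normalizer_iff.mp (hA.2.1 hg) x).mp hx.1, ?_⟩
    rw [conj_pow, hx.2, mul_one, mul_inv_cancel]
  haveI : (Om.subgroupOf (P : Subgroup G)).Normal :=
    (Subgroup.normal_subgroupOf_iff_le_normalizer hOmP).mpr hOmN
  obtain ⟨n, hn⟩ := (P.isPGroup'.to_le hOmP).exists_card_eq
  have hn' : Nat.card (Om.subgroupOf (P : Subgroup G)) = p ^ n := by
    rw [Nat.card_congr (Subgroup.subgroupOfEquivOfLe hOmP).toEquiv, hn]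
  have h2n : 2 ≤ n := by
    have := hEcard.trans (Subgroup.card_le_of_le hEOm)
    rw [hn] at this
    exact (Nat.pow_le_pow_iff_right hp.out.one_lt).mp this
  obtain ⟨K, hKO, hK, hKc⟩ := PGroup.exists_normal_le_card P.isPGroup' _ 2 hn' h2n
  refine ⟨K.map (P : Subgroup G).subtype, ?_, ⟨?_, ?_⟩, ?_, ?_, ?_⟩
  · rintro _ ⟨x, hx, rfl⟩
    exact (hKO hx).1
  · refine ⟨⟨fun a b => Subtype.ext ?_⟩⟩
    obtain ⟨x, hx, hxa⟩ := a.2
    obtain ⟨y, hy, hyb⟩ := b.2
    exact hcomm _ (by rw [← hxa]; exact (hKO hx).1) _ (by rw [← hyb]; exact (hKO hy).1)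
  · rintro _ ⟨x, hx, rfl⟩
    exact (hKO hx).2
  · rw [← hKc]
    exact (Nat.card_congr (K.equivMapOfInjective _ (Subgroup.subtype_injective _)).toEquiv).symm
  · intro g hg
    exact K.le_normalizer_map _ ⟨⟨g, hg⟩, by rw [Subgroup.normalizer_eq_top]; trivial, rfl⟩
  · have hKb : K ≠ ⊥ := fun h => by
      rw [h, Subgroup.card_bot] at hKc
      have := hp.out.one_lt
      nlinarith [hKc]
    obtain ⟨z, hz, hz1⟩ := exists_mem_ne_one (PGroup.inf_center_ne_bot P.isPGroup' hKb)
    refine ⟨z, ⟨z, hz.1, rfl⟩, fun h => hz1 (Subtype.ext h),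
      Subgroup.mem_centralizer_iff.mpr fun g hg => ?_⟩
    exact congrArg Subtype.val (Subgroup.mem_center_iff.mp hz.2 ⟨g, hg⟩)

/-- `C_P(b)` is `P` or has index `p`, for `b` in a normal subgroup of order `p²`. -/
theorem card_le_mul_card_centralizer (P : Sylow p G) {B : Subgroup G}
    (hBc : Nat.card B = p ^ 2) (hPB : (P : Subgroup G) ≤ Subgroup.normalizer (B : Set G))
    {b : G} (hb : b ∈ B) :
    Nat.card (P : Subgroup G) ≤
      p * Nat.card ↥((P : Subgroup G) ⊓ Subgroup.centralizer ({b} : Set G)) := by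
  classical
  set R0 := (P : Subgroup G) ⊓ Subgroup.centralizer ({b} : Set G) with hR0
  set f : ↥(P : Subgroup G) → G := fun x => (x : G) * b * (x : G)⁻¹ with hf
  have hfib : ∀ x y : (P : Subgroup G), f x = f y →
      (QuotientGroup.mk x : (P : Subgroup G) ⧸ R0.subgroupOf P) = QuotientGroup.mk y := by
    intro x y hxy
    rw [QuotientGroup.eq]
    refine ⟨(x⁻¹ * y).2, Subgroup.mem_centralizer_singleton_iff.mpr ?_⟩
    have h' : (x : G) * b * (x : G)⁻¹ = (y : G) * b * (y : G)⁻¹ := hxy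
    calc ((x⁻¹ * y : (P : Subgroup G)) : G) * b
        = (x : G)⁻¹ * ((y : G) * b * (y : G)⁻¹) * y := by simp [mul_assoc]
      _ = (x : G)⁻¹ * ((x : G) * b * (x : G)⁻¹) * y := by rw [h']
      _ = b * ((x⁻¹ * y : (P : Subgroup G)) : G) := by simp [mul_assoc]
  -- the cosets inject into `B`, missing `1` unless `b = 1`
  by_cases hb1 : b = 1
  · have : R0 = (P : Subgroup G) := by
      rw [hR0, hb1, inf_eq_left]; intro x _; simp [Subgroup.mem_centralizer_singleton_iff]
    rw [this]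
    exact Nat.le_mul_of_pos_left _ hp.out.pos
  have hlt : (R0.subgroupOf (P : Subgroup G)).index < p ^ 2 := by
    rw [Subgroup.index, ← hBc]
    let g : (P : Subgroup G) ⧸ R0.subgroupOf P → B := fun q =>
      ⟨f q.out, (Subgroup.mem_normalizer_iff.mp (hPB q.out.2) b).mp hb⟩
    have ginj : Function.Injective g := fun q q' h => by
      have := hfib _ _ (congrArg Subtype.val h)
      rwa [QuotientGroup.out_eq', QuotientGroup.out_eq'] at this
    refine lt_of_le_of_ne (Nat.card_le_card_of_injective g ginj) fun heq => ?_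
    have hbij : Function.Bijective g :=
      (Nat.bijective_iff_injective_and_card g).mpr ⟨ginj, heq⟩
    obtain ⟨q, hq⟩ := hbij.2 1
    exact hb1 (by simpa [g, f, mul_inv_eq_one] using congrArg Subtype.val hq)
  obtain ⟨k, hk⟩ := P.isPGroup'.index (R0.subgroupOf (P : Subgroup G))
  rw [hk] at hlt
  have hk1 : k ≤ 1 := by
    have := (Nat.pow_lt_pow_iff_right hp.out.one_lt).mp hlt
    omega
  rw [← (R0.subgroupOf (P : Subgroup G)).card_mul_index, hk,
    Nat.card_congr (Subgroup.subgroupOfEquivOfLe (inf_le_left : R0 ≤ P)).toEquiv, mul_comm]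
  exact Nat.mul_le_mul_right _ (by simpa using Nat.pow_le_pow_right hp.out.pos hk1)

/-- A `p'`-subgroup meets `O_{p',p}` inside `O_{p'}`. -/
theorem inf_oppP_le_opp {X W : Subgroup G} (hW : (Nat.card W).Coprime p) :
    W ⊓ oppP p X ≤ opp p X := by
  rintro w ⟨hwW, x, hx, rfl⟩
  refine ⟨x, ?_, rfl⟩
  show x ∈ pPrimeCore p X
  rw [← QuotientGroup.eq_one_iff, ← QuotientGroup.mk'_apply]
  have hxQ : QuotientGroup.mk' (pPrimeCore p X) x ∈ pCore p (X ⧸ pPrimeCore p X) := hx
  obtain ⟨k, hk⟩ := IsPGroup.iff_orderOf.mp (Thompson.isPGroup_pCore (p := p)) ⟨_, hxQ⟩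
  rw [Subgroup.orderOf_mk] at hk
  have h1 : orderOf (QuotientGroup.mk' (pPrimeCore p X) x) ∣ Nat.card W := by
    refine (orderOf_map_dvd _ x).trans ?_
    rw [← Subgroup.orderOf_coe x]
    exact Subgroup.orderOf_dvd_natCard W hwW
  rw [← orderOf_eq_one_iff]
  refine Nat.eq_one_of_dvd_coprimes ((hW.pow_right k)) h1 ?_
  rw [hk]

variable (hG : IsMinSimpleOddOrder G)
include hG

/-- In a proper solvable subgroup with a Sylow subgroup `R` in which `A` is abelian, normal and
self-centralizing, every `A`-invariant `p'`-subgroup lies in `O_{p'}`. -/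
theorem le_opp_of_scn_sylow {X R A W : Subgroup G} (hX : X ≠ ⊤) (hR : IsSylowIn p R X)
    (hA : IsSCN R A) (hWX : W ≤ X) (hW : (Nat.card W).Coprime p)
    (hAW : A ≤ Subgroup.normalizer (W : Set G)) : W ≤ opp p X :=
  le_opp_of_normalized (BGSigma.isSolvable_of_ne_top hG hX) hR hA.1
    (abelian_normal_le_oppP (BGSigma.isSolvable_of_ne_top hG hX) (odd_card_subgroup hG X) hR hA.1
      (isMulCommutative_of_isSCN hA) hA.2.1) hA.2.2.le hWX hW hAW

/-- Balance in a minimal simple group. -/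
theorem centralizerPPrimeCore_inf_le {z : G} {X : Subgroup G} (hX : X ≠ ⊤) (hz : IsPGroup p (Subgroup.zpowers z))
    (hzX : z ∈ X) : centralizerPPrimeCore p z ⊓ X ≤ opp p X := by
  rw [centralizerPPrimeCore_eq, ← centralizer_zpowers]
  exact opp_inf_le_opp_of_centralizing (BGSigma.isSolvable_of_ne_top hG hX) hz
    (Subgroup.zpowers_le.mpr hzX) le_rfl inf_le_right

/-- For an element `b` of a normal subgroup of order `p²` inside `A`, every `A`-invariant
`p'`-subgroup of `C(b)` lies in `O_{p'}(C(b))`. -/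
theorem le_centralizerPPrimeCore_of_scn (P : Sylow p G) {A B W : Subgroup G}
    (hA : IsSCN (P : Subgroup G) A) (hBA : B ≤ A) (hBe : IsElementaryAbelian p B)
    (hBc : Nat.card B = p ^ 2) (hPB : (P : Subgroup G) ≤ Subgroup.normalizer (B : Set G))
    {z : G} (hzB : z ∈ B) (hz1 : z ≠ 1)
    (hzP : z ∈ Subgroup.centralizer ((P : Subgroup G) : Set G)) {b : G} (hb : b ∈ B) (hb1 : b ≠ 1)
    (hW : (Nat.card W).Coprime p) (hWb : W ≤ Subgroup.centralizer ({b} : Set G))
    (hAW : A ≤ Subgroup.normalizer (W : Set G)) : W ≤ centralizerPPrimeCore p b := by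
  have hAc := le_centralizer_of_isSCN hA
  have hAC : ∀ x ∈ A, A ≤ Subgroup.centralizer ({x} : Set G) := fun x hx a ha =>
    Subgroup.mem_centralizer_singleton_iff.mpr ((hAc ha x hx).symm)
  -- first the case of a central element
  have hcentral : ∀ x ∈ A, x ≠ 1 → (P : Subgroup G) ≤ Subgroup.centralizer ({x} : Set G) →
      ∀ V : Subgroup G, (Nat.card V).Coprime p → V ≤ Subgroup.centralizer ({x} : Set G) →
        A ≤ Subgroup.normalizer (V : Set G) → V ≤ centralizerPPrimeCore p x := by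
    intro x _ hx1 hPx V hV hVx hAV
    rw [centralizerPPrimeCore_eq]
    refine le_opp_of_scn_sylow hG (centralizer_ne_top hG rfl hx1)
      ⟨hPx, P.isPGroup', fun h => P.not_dvd_index (h.trans (Subgroup.relIndex_dvd_index_of_le hPx))⟩
      hA hVx hV hAV
  by_cases hPb : (P : Subgroup G) ≤ Subgroup.centralizer ({b} : Set G)
  · exact hcentral b (hBA hb) hb1 hPb W hW hWb hAW
  set Cb := Subgroup.centralizer ({b} : Set G) with hCb
  set R0 := (P : Subgroup G) ⊓ Cb with hR0
  obtain ⟨R, hR, hR0R⟩ := exists_isSylowIn_ge (P.isPGroup'.to_le (inf_le_left : R0 ≤ P))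
    (inf_le_right : R0 ≤ Cb)
  have hRP : Nat.card R ≤ Nat.card (P : Subgroup G) := by
    obtain ⟨Q, hQ⟩ := hR.2.1.exists_le_sylow
    exact (Subgroup.card_le_of_le hQ).trans (Sylow.card_eq_multiplicity Q ▸
      (Sylow.card_eq_multiplicity P).symm ▸ le_rfl)
  have hR0n : R ≤ Subgroup.normalizer (R0 : Set G) := by
    rw [← Subgroup.normal_subgroupOf_iff_le_normalizer hR0R]
    by_cases htop : R0.subgroupOf R = ⊤
    · rw [htop]; infer_instance
    obtain ⟨K, hK, hKn, hKi⟩ := PGroup.exists_le_index_eq_prime hR.2.1 htop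
    have h1 := hRP.trans (card_le_mul_card_centralizer P hBc hPB hb)
    have h2 : R0.subgroupOf R = K := by
      refine Subgroup.eq_of_le_of_card_ge hK ?_
      rw [Nat.card_congr (Subgroup.subgroupOfEquivOfLe hR0R).toEquiv]
      rw [← K.card_mul_index, hKi, mul_comm] at h1
      exact Nat.le_of_mul_le_mul_left h1 hp.out.pos
    rw [h2]
    exact hKn
  have hAR0 : A ≤ R0 := le_inf hA.1 (hAC b (hBA hb))
  set Z0 := R0 ⊓ Subgroup.centralizer (R0 : Set G) with hZ0
  have hzZ0 : z ∈ Z0 := ⟨hAR0 (hBA hzB), Subgroup.mem_centralizer_iff.mpr fun r hr => hzP r hr.1⟩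
  have hCbs := BGSigma.isSolvable_of_ne_top hG (centralizer_ne_top hG (S := ({b} : Set G)) rfl hb1)
  have hZ0Q : Z0 ≤ oppP p Cb := by
    refine abelian_normal_le_oppP hCbs (odd_card_subgroup hG _) hR (inf_le_left.trans hR0R) ?_ ?_
    · exact ⟨⟨fun a c => Subtype.ext ((c.2.2 (a : G) a.2.1))⟩⟩
    · exact le_normalizer_inf hR0n (Coprime.le_normalizer_centralizer hR0n)
  set D := W ⊓ opp p Cb with hD
  intro w hw
  set Zz := Subgroup.zpowers z with hZz
  have hZA : Zz ≤ A := Subgroup.zpowers_le.mpr (hBA hzB)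
  have hzp : IsPGroup p Zz := isPGroup_zpowers (P.isPGroup'.to_le hA.1) (hBA hzB)
  have hWn : W ≤ Subgroup.normalizer (opp p Cb : Set G) := hWb.trans (le_normalizer_opp p Cb)
  have hWD : W ≤ Subgroup.normalizer (D : Set G) :=
    le_normalizer_inf Subgroup.le_normalizer hWn
  have hZD : Zz ≤ Subgroup.normalizer (D : Set G) :=
    le_normalizer_inf (hZA.trans hAW) ((hZA.trans (hAC b (hBA hb))).trans (le_normalizer_opp p Cb))
  have hDc : (Nat.card D).Coprime p :=
    hW.coprime_dvd_left (Subgroup.card_dvd_of_le inf_le_left)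
  obtain ⟨d, hd, hdw⟩ := exists_mul_mem_centralizer hzp hDc hZD (hWD hw) (fun a ha => by
    have haW := Subgroup.mem_normalizer_iff.mp ((hZA.trans hAW) ha) w⁻¹
    have haQ : a ∈ oppP p Cb := hZ0Q (Subgroup.zpowers_le.mpr hzZ0 ha)
    have h1 : w * a * w⁻¹ * a⁻¹ ∈ W ⊓ oppP p Cb := by
      refine ⟨?_, ?_⟩
      · have := W.mul_mem hw (haW.mp (W.inv_mem hw))
        simpa [mul_assoc] using this
      · exact (oppP p Cb).mul_mem ((Subgroup.mem_normalizer_iff.mp
          (le_normalizer_oppP p Cb (hWb hw)) a).mp haQ) ((oppP p Cb).inv_mem haQ)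
    exact ⟨h1.1, inf_oppP_le_opp hW h1⟩)
  have hdwW : d * w ∈ W := W.mul_mem hd.1 hw
  have hV : W ⊓ Subgroup.centralizer ({z} : Set G) ≤ centralizerPPrimeCore p z := by
    refine hcentral z (hBA hzB) hz1 ?_ _ (hW.coprime_dvd_left (Subgroup.card_dvd_of_le inf_le_left))
      inf_le_right (le_normalizer_inf hAW ((hAC z (hBA hzB)).trans Subgroup.le_normalizer))
    intro x hx
    exact Subgroup.mem_centralizer_singleton_iff.mpr (hzP x hx)
  have hdwz : d * w ∈ centralizerPPrimeCore p z ⊓ Cb :=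
    ⟨hV ⟨hdwW, centralizer_zpowers z ▸ hdw⟩, hWb hdwW⟩
  have hfin : d * w ∈ centralizerPPrimeCore p b :=
    centralizerPPrimeCore_inf_le hG (X := Cb)
      (centralizer_ne_top hG (S := ({b} : Set G)) rfl hb1) hzp (hAC b (hBA hb) (hBA hzB)) hdwz
  simpa using (centralizerPPrimeCore p b).mul_mem ((centralizerPPrimeCore p b).inv_mem hd.2) hfin

/-- Every `A`-invariant `p'`-subgroup of a proper overgroup `X` of `A` lies in `O_{p'}(X)`. -/
theorem le_opp_of_scn (P : Sylow p G) {A : Subgroup G} (hA : IsSCN (P : Subgroup G) A)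
    (h2 : ¬ PRankLE p 1 A) {X W : Subgroup G} (hX : X ≠ ⊤) (hAX : A ≤ X) (hWX : W ≤ X)
    (hW : (Nat.card W).Coprime p) (hAW : A ≤ Subgroup.normalizer (W : Set G)) : W ≤ opp p X := by
  obtain ⟨B, hBA, hBe, hBc, hPB, z, hzB, hz1, hzP⟩ := exists_normal_pair P hA h2
  haveI := hBe.1
  have hBp : IsPGroup p B := IsPGroup.of_card hBc
  refine Coprime.le_of_centralizer_le B W (opp p X) ?_ (hBA.trans hAW) ?_ fun b hb hb1 => ?_
  · intro hc
    obtain ⟨g, hg⟩ := hc.exists_generator
    have h1 : orderOf g = Nat.card B := orderOf_eq_card_of_forall_mem_zpowers hg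
    have h3 : orderOf g ∣ p := orderOf_dvd_of_pow_eq_one (Subtype.ext (hBe.2 g g.2))
    rw [h1, hBc] at h3
    have := Nat.le_of_dvd hp.out.pos h3
    nlinarith [hp.out.one_lt]
  · rw [hBc]; exact (hW.symm.pow_left 2)
  · intro w hw
    have hAb : A ≤ Subgroup.centralizer ({b} : Set G) := fun a ha =>
      Subgroup.mem_centralizer_singleton_iff.mpr ((le_centralizer_of_isSCN hA ha b (hBA hb)).symm)
    have h := le_centralizerPPrimeCore_of_scn hG P hA hBA hBe hBc hPB hzB hz1 hzP hb hb1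
      (W := W ⊓ Subgroup.centralizer {b}) (hW.coprime_dvd_left (Subgroup.card_dvd_of_le inf_le_left))
      inf_le_right (le_normalizer_inf hAW (hAb.trans Subgroup.le_normalizer)) hw
    exact centralizerPPrimeCore_inf_le hG hX (isPGroup_zpowers hBp hb) (hAX (hBA hb)) ⟨h, hWX hw.1⟩

end Cfsg.Agent.BGUniq
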