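import Cfsg.Agent.BGUniq.PLocalBasic
import Cfsg.Agent.BGSigma.PiCore

/-!
`O_{p'}(X)` and `O_{p',p}(X)` for a subgroup `X` of an ambient group, as subgroups of that group.
-/

set_option autoImplicit false

namespace Cfsg.Agent.BGUniq

open Cfsg

variable {G : Type*} [Group G]

/-- `O_{p'}(X)` inside `G`. -/
def opp (p : ℕ) (X : Subgroup G) : Subgroup G := (pPrimeCore p X).map X.subtype

/-- `O_{p',p}(X)` inside `G`. -/
def oppP (p : ℕ) (X : Subgroup G) : Subgroup G := (pPrimePCore p X).map X.subtype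

theorem centralizerPPrimeCore_eq (p : ℕ) (x : G) :
    centralizerPPrimeCore p x = opp p (Subgroup.centralizer ({x} : Set G)) := rfl

theorem opp_le (p : ℕ) (X : Subgroup G) : opp p X ≤ X := Subgroup.map_subtype_le _

theorem oppP_le (p : ℕ) (X : Subgroup G) : oppP p X ≤ X := Subgroup.map_subtype_le _

theorem opp_le_oppP (p : ℕ) (X : Subgroup G) : opp p X ≤ oppP p X :=
  Subgroup.map_mono Thompson.pPrimeCore_le_pPrimePCore

theorem le_normalizer_opp (p : ℕ) (X : Subgroup G) :
    X ≤ Subgroup.normalizer (opp p X : Set G) := fun x hx =>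
  (pPrimeCore p X).le_normalizer_map X.subtype
    ⟨⟨x, hx⟩, by rw [Subgroup.normalizer_eq_top]; trivial, rfl⟩

theorem le_normalizer_oppP (p : ℕ) (X : Subgroup G) :
    X ≤ Subgroup.normalizer (oppP p X : Set G) := fun x hx =>
  (pPrimePCore p X).le_normalizer_map X.subtype
    ⟨⟨x, hx⟩, by rw [Subgroup.normalizer_eq_top]; trivial, rfl⟩

theorem card_subgroupOf_coprime {p : ℕ} {W : Subgroup G} (X : Subgroup G)
    (hW : (Nat.card W).Coprime p) : (Nat.card (W.subgroupOf X)).Coprime p :=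
  hW.coprime_dvd_left (Subgroup.card_comap_dvd_of_injective W X.subtype X.subtype_injective)

theorem opp_coprime [Finite G] (p : ℕ) (X : Subgroup G) : (Nat.card (opp p X)).Coprime p :=
  Thompson.card_pPrimeCore_coprime.coprime_dvd_left (Subgroup.card_map_dvd _ X.subtype)

theorem le_map_subtype_iff {X N : Subgroup G} {K : Subgroup X} (h : N ≤ X) :
    N ≤ K.map X.subtype ↔ N.subgroupOf X ≤ K := by
  constructor
  · intro h1 x hx
    obtain ⟨y, hy, hxy⟩ := h1 hx
    rwa [← Subtype.ext hxy]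
  · intro h1 x hx
    exact ⟨⟨x, h hx⟩, h1 hx, rfl⟩

theorem le_opp {p : ℕ} {X N : Subgroup G} (h : N ≤ X)
    (hn : X ≤ Subgroup.normalizer (N : Set G)) (hc : (Nat.card N).Coprime p) : N ≤ opp p X :=
  (le_map_subtype_iff h).mpr (Thompson.le_pPrimeCore
    ((Subgroup.normal_subgroupOf_iff_le_normalizer h).mpr hn) (card_subgroupOf_coprime X hc))

theorem opp_conj (p : ℕ) {X : Subgroup G} :
    Subgroup.normalizer (X : Set G) ≤ Subgroup.normalizer (opp p X : Set G) := by
  intro g hg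
  rw [Subgroup.mem_normalizer_iff_map_conj_eq] at hg ⊢
  let e : X ≃* X := ((MulAut.conj g).subgroupMap X).trans (MulEquiv.subgroupCongr hg)
  have he := Thompson.map_pPrimeCore_equiv (p := p) e
  have hcomp : X.subtype.comp e.toMonoidHom = (MulAut.conj g).toMonoidHom.comp X.subtype := rfl
  calc (opp p X).map (MulAut.conj g).toMonoidHom
      = (pPrimeCore p X).map (X.subtype.comp e.toMonoidHom) := by
        rw [hcomp, opp, Subgroup.map_map]
    _ = opp p X := by rw [← Subgroup.map_map, he]; rfl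

theorem coprime_iff_forall_prime {p : ℕ} (hp : p.Prime) {n : ℕ} :
    n.Coprime p ↔ ∀ q : ℕ, q.Prime → q ∣ n → q ∈ {q | q.Prime ∧ ¬ q ∣ p} := by
  constructor
  · intro h q hq hd
    exact ⟨hq, fun h' => hq.ne_one (Nat.eq_one_of_dvd_coprimes h hd h')⟩
  · intro h
    rw [Nat.coprime_comm, hp.coprime_iff_not_dvd]
    exact fun hd => (h p hp hd).2 dvd_rfl

theorem primesNotDvd_pow {p k : ℕ} (hp : p.Prime) (hk : k ≠ 0) :
    primesNotDvd (p ^ k) = primesNotDvd p := by
  ext q
  simp only [primesNotDvd, Set.mem_ofPred_eq, and_congr_right_iff]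
  intro hq
  rw [not_iff_not]
  exact ⟨hq.dvd_of_dvd_pow, fun h => dvd_pow h hk⟩

theorem piCoreOf_primesNotDvd {p : ℕ} (hp : p.Prime) (X : Subgroup G) :
    piCoreOf (primesNotDvd p) X = opp p X := by
  simp only [piCoreOf, opp, piCore, pPrimeCore, primesNotDvd]
  congr 2
  ext N
  simp only [Set.mem_ofPred_eq, coprime_iff_forall_prime hp]

section PSub

variable [Finite G] {p : ℕ} [hp : Fact p.Prime]

/-- A subgroup of `G` that is a Sylow `p`-subgroup of the subgroup `X`. -/
def IsSylowIn (p : ℕ) (P X : Subgroup G) : Prop :=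
  P ≤ X ∧ IsPGroup p P ∧ ¬ p ∣ P.relIndex X

omit [Finite G] hp in
theorem isPiSub_coprime {W : Subgroup G} (h : (Nat.card W).Coprime p) (hpp : p.Prime) :
    BGSigma.IsPiSub (primesNotDvd p) W :=
  (coprime_iff_forall_prime hpp).mp h

theorem exists_isSylowIn_ge {Q X : Subgroup G} (hQ : IsPGroup p Q) (hQX : Q ≤ X) :
    ∃ P : Subgroup G, IsSylowIn p P X ∧ Q ≤ P := by
  obtain ⟨S, hS⟩ := (hQ.comap_subtype (K := X)).exists_le_sylow
  refine ⟨(S : Subgroup X).map X.subtype,
    ⟨Subgroup.map_subtype_le _, S.isPGroup'.map _, ?_⟩, ?_⟩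
  · rw [Subgroup.relIndex, Subgroup.subgroupOf,
      Subgroup.comap_map_eq_self_of_injective X.subtype_injective]
    exact S.not_dvd_index
  · intro x hx
    exact ⟨⟨x, hQX hx⟩, hS hx, rfl⟩

theorem IsSylowIn.le_of_le {P Q X : Subgroup G} (hP : IsSylowIn p P X) (hQ : IsPGroup p Q)
    (hPQ : P ≤ Q) (hQX : Q ≤ X) : Q ≤ P := by
  have hS : ¬ p ∣ (P.subgroupOf X).index := hP.2.2
  let S : Sylow p X := (hP.2.1.comap_subtype (K := X)).toSylow hS
  have h := S.is_maximal' (hQ.comap_subtype (K := X)) (Subgroup.comap_mono hPQ)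
  intro x hx
  have : (⟨x, hQX hx⟩ : X) ∈ (S : Subgroup X) := h ▸ (show (⟨x, hQX hx⟩ : X) ∈ Q.subgroupOf X from hx)
  exact this

theorem subgroupOf_le_sylow {P X : Subgroup G} (hP : IsSylowIn p P X) :
    ∃ S : Sylow p X, (S : Subgroup X) = P.subgroupOf X :=
  ⟨(hP.2.1.comap_subtype (K := X)).toSylow hP.2.2, rfl⟩

theorem isPSolvable_subgroup {X : Subgroup G} (hX : Group.IsSolvable X) : IsPSolvable p X :=
  isPSolvable_of_isSolvable' p X

/-- `G`-level form of `le_pPrimeCore_of_centralizing`. -/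
theorem le_opp_of_centralizing {X Z W : Subgroup G} (hX : Group.IsSolvable X) (hZX : Z ≤ X)
    (hZ : IsPGroup p Z) (hWX : W ≤ X) (hW : (Nat.card W).Coprime p)
    (hWZ : W ≤ Subgroup.centralizer (Z : Set G))
    (hCW : X ⊓ Subgroup.centralizer (Z : Set G) ≤ Subgroup.normalizer (W : Set G)) :
    W ≤ opp p X := by
  refine (le_map_subtype_iff hWX).mpr (le_pPrimeCore_of_centralizing (isPSolvable_subgroup hX)
    (hZ.comap_subtype (K := X)) (card_subgroupOf_coprime X hW) ?_ ?_)
  · intro w hw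
    rw [Subgroup.mem_centralizer_iff]
    intro z hz
    exact Subtype.ext (hWZ hw (z : G) hz)
  · intro c hc
    have : (c : G) ∈ Subgroup.normalizer (W : Set G) := by
      refine hCW ⟨c.2, Subgroup.mem_centralizer_iff.mpr fun z hz => ?_⟩
      exact congrArg Subtype.val (Subgroup.mem_centralizer_iff.mp hc ⟨z, hZX hz⟩ hz)
    rw [Subgroup.mem_normalizer_iff] at this ⊢
    intro x
    exact this x

/-- `G`-level form of `le_pPrimeCore_of_normalized`. -/
theorem le_opp_of_normalized {X P T W : Subgroup G} (hX : Group.IsSolvable X)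
    (hP : IsSylowIn p P X) (hTP : T ≤ P) (hTQ : T ≤ oppP p X)
    (hTC : P ⊓ Subgroup.centralizer (T : Set G) ≤ T) (hWX : W ≤ X)
    (hW : (Nat.card W).Coprime p) (hTW : T ≤ Subgroup.normalizer (W : Set G)) :
    W ≤ opp p X := by
  obtain ⟨S, hS⟩ := subgroupOf_le_sylow hP
  refine (le_map_subtype_iff hWX).mpr (le_pPrimeCore_of_normalized (isPSolvable_subgroup hX) S
    (T := T.subgroupOf X) ?_ ((le_map_subtype_iff (hTP.trans hP.1)).mp hTQ) ?_
    (card_subgroupOf_coprime X hW) ?_)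
  · rw [hS]; exact Subgroup.comap_mono hTP
  · rw [hS]
    rintro x ⟨hxP, hxC⟩
    refine hTC ⟨hxP, Subgroup.mem_centralizer_iff.mpr fun t ht => ?_⟩
    exact congrArg Subtype.val (Subgroup.mem_centralizer_iff.mp hxC ⟨t, (hTP.trans hP.1) ht⟩ ht)
  · intro t ht
    have := hTW (show (t : G) ∈ T from ht)
    rw [Subgroup.mem_normalizer_iff] at this ⊢
    intro x
    exact this x

/-- Balance: `O_{p'}(X) ∩ C(z) ≤ O_{p'}(Y)` for `p`-subgroups `Z` in the centre of `X` lying in
`Y`, in the form used for centralizers. -/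
theorem opp_inf_le_opp_of_centralizing {X Y Z : Subgroup G} (hY : Group.IsSolvable Y)
    (hZ : IsPGroup p Z) (hZY : Z ≤ Y) (hXZ : X ≤ Subgroup.centralizer (Z : Set G))
    (hYX : Y ⊓ Subgroup.centralizer (Z : Set G) ≤ X) : opp p X ⊓ Y ≤ opp p Y := by
  refine le_opp_of_centralizing hY hZY hZ inf_le_right
    ((opp_coprime p X).coprime_dvd_left (Subgroup.card_dvd_of_le inf_le_left))
    (inf_le_left.trans ((opp_le p X).trans hXZ)) fun c hc => ?_
  have h1 := le_normalizer_opp p X (hYX hc)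
  have h2 : c ∈ Subgroup.normalizer (Y : Set G) := Subgroup.le_normalizer hc.1
  rw [Subgroup.mem_normalizer_iff] at h1 h2 ⊢
  intro x
  exact and_congr (h1 x) (h2 x)

end PSub

end Cfsg.Agent.BGUniq
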