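import Cfsg.Agent.BGSigma.PiCore
import Cfsg.Agent.BGUniq.Ambient
import Cfsg.Agent.Lib.Fitting.Minimal
import Cfsg.Agent.FG72.Basic
import Cfsg.Agent.Lib.Coprime.Action

/-!
The primary components of `F(M)` as subgroups of the ambient group, their centres, and the lemma
that a coprime group centralizing a self-centralizing subgroup of a nilpotent group centralizes
all of it.
-/

set_option autoImplicit false

namespace Cfsg.Agent.BGUniq

open Cfsg

variable {G : Type*} [Group G]

/-- `O_r(M)` inside `G`. -/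
def core (r : ℕ) (M : Subgroup G) : Subgroup G := (pCore r M).map M.subtype

/-- `Z(O_r(M))` inside `G`. -/
def zCore (r : ℕ) (M : Subgroup G) : Subgroup G :=
  core r M ⊓ Subgroup.centralizer (core r M : Set G)

theorem core_le (r : ℕ) (M : Subgroup G) : core r M ≤ M := Subgroup.map_subtype_le _

theorem zCore_le_core (r : ℕ) (M : Subgroup G) : zCore r M ≤ core r M := inf_le_left

theorem le_normalizer_core (r : ℕ) (M : Subgroup G) :
    M ≤ Subgroup.normalizer (core r M : Set G) := fun x hx =>
  (pCore r M).le_normalizer_map M.subtype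
    ⟨⟨x, hx⟩, by rw [Subgroup.normalizer_eq_top]; trivial, rfl⟩

theorem le_normalizer_zCore (r : ℕ) (M : Subgroup G) :
    M ≤ Subgroup.normalizer (zCore r M : Set G) :=
  Coprime.le_normalizer_inf (le_normalizer_core r M)
    (Coprime.le_normalizer_centralizer (le_normalizer_core r M))

theorem fittingOf_le (M : Subgroup G) : fittingOf M ≤ M := Subgroup.map_subtype_le _

theorem le_normalizer_fittingOf (M : Subgroup G) :
    M ≤ Subgroup.normalizer (fittingOf M : Set G) := fun x hx =>
  (fittingSubgroup M).le_normalizer_map M.subtype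
    ⟨⟨x, hx⟩, by rw [Subgroup.normalizer_eq_top]; trivial, rfl⟩

theorem zCore_isMulCommutative (r : ℕ) (M : Subgroup G) : IsMulCommutative (zCore r M) :=
  ⟨⟨fun a b => Subtype.ext (Subgroup.mem_centralizer_iff.mp b.2.2 a a.2.1)⟩⟩

variable [Finite G]

theorem isPGroup_core (r : ℕ) (M : Subgroup G) : IsPGroup r (core r M) :=
  Thompson.isPGroup_pCore.map _

theorem isPGroup_zCore (r : ℕ) (M : Subgroup G) : IsPGroup r (zCore r M) :=
  (isPGroup_core r M).to_le inf_le_left

theorem core_le_fittingOf (r : ℕ) [Fact r.Prime] (M : Subgroup G) : core r M ≤ fittingOf M :=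
  Subgroup.map_mono (Fitting.pCore_le_fitting r)

theorem isNilpotent_fittingOf (M : Subgroup G) : Group.IsNilpotent (fittingOf M) :=
  Fitting.isNilpotent_map _ Fitting.fitting_isNilpotent

theorem inf_centralizer_fittingOf_le {M : Subgroup G} (hM : Group.IsSolvable M) :
    M ⊓ Subgroup.centralizer (fittingOf M : Set G) ≤ fittingOf M := by
  haveI := hM
  rintro x ⟨hxM, hxC⟩
  refine ⟨⟨x, hxM⟩, Fitting.centralizer_fitting_le (Subgroup.mem_centralizer_iff.mpr
    fun y hy => Subtype.ext ?_), rfl⟩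
  exact Subgroup.mem_centralizer_iff.mp hxC y ⟨y, hy, rfl⟩

/-- An element of prime power order of `F(M)` lies in the corresponding `O_r(M)`. -/
theorem mem_core_of_mem_fittingOf {r : ℕ} [Fact r.Prime] {M : Subgroup G} {x : G}
    (hx : x ∈ fittingOf M) {j : ℕ} (hj : orderOf x = r ^ j) : x ∈ core r M := by
  obtain ⟨y, hy, rfl⟩ := hx
  refine ⟨y, FG72.mem_pCore_of_fitting hy (j := j) ?_, rfl⟩
  rw [← hj, Subgroup.subtype_apply, Subgroup.orderOf_coe]

theorem core_commute {r s : ℕ} [Fact r.Prime] [Fact s.Prime] (hrs : r ≠ s) {M : Subgroup G}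
    {x y : G} (hx : x ∈ core r M) (hy : y ∈ core s M) : x * y = y * x := by
  obtain ⟨a, ha, rfl⟩ := hx
  obtain ⟨b, hb, rfl⟩ := hy
  exact congrArg Subtype.val (Fitting.pCore_commute hrs ha hb).eq

theorem fittingOf_le_of_core_le {M X : Subgroup G}
    (h : ∀ r : ℕ, r.Prime → core r M ≤ X) : fittingOf M ≤ X := by
  unfold fittingOf
  rw [Fitting.fitting_eq_iSup_pCore, Subgroup.map_iSup]
  exact iSup_le fun r => h r r.2

theorem core_ne_bot_of_dvd {r : ℕ} [hr : Fact r.Prime] {M : Subgroup G}
    (h : r ∣ Nat.card (fittingOf M)) : core r M ≠ ⊥ := by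
  obtain ⟨x, hx⟩ := exists_prime_orderOf_dvd_card' r h
  intro h0
  have hm := mem_core_of_mem_fittingOf (r := r) x.2 (j := 1) (by
    rw [Subgroup.orderOf_coe, hx, pow_one])
  rw [h0, Subgroup.mem_bot] at hm
  rw [← Subgroup.orderOf_coe, hm, orderOf_one] at hx
  exact hr.out.ne_one hx.symm

theorem dvd_card_fittingOf_of_core_ne_bot {r : ℕ} [Fact r.Prime] {M : Subgroup G}
    (h : core r M ≠ ⊥) : r ∣ Nat.card (fittingOf M) := by
  obtain ⟨n, hn⟩ := (isPGroup_core r M).exists_card_eq
  refine dvd_trans ?_ (Subgroup.card_dvd_of_le (core_le_fittingOf r M))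
  rw [hn]
  exact dvd_pow_self r fun h0 => h (Subgroup.eq_bot_of_card_eq _ (by rw [hn, h0, pow_zero]))

theorem zCore_ne_bot {r : ℕ} [Fact r.Prime] {M : Subgroup G} (h : core r M ≠ ⊥) :
    zCore r M ≠ ⊥ := by
  haveI : Nontrivial (core r M) := (Subgroup.nontrivial_iff_ne_bot _).mpr h
  haveI := (isPGroup_core r M).center_nontrivial
  obtain ⟨z, hz1⟩ := exists_ne (1 : Subgroup.center (core r M))
  intro h0
  refine hz1 (Subtype.ext (Subtype.ext ?_))
  have hm : ((z : core r M) : G) ∈ zCore r M :=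
    ⟨(z : core r M).2, Subgroup.mem_centralizer_iff.mpr fun u hu =>
      congrArg Subtype.val (Subgroup.mem_center_iff.mp z.2 ⟨u, hu⟩)⟩
  rw [h0] at hm
  exact Subgroup.mem_bot.mp hm

theorem fittingOf_le_centralizer_zCore (r : ℕ) [hr : Fact r.Prime] (M : Subgroup G) :
    fittingOf M ≤ Subgroup.centralizer (zCore r M : Set G) := by
  refine fittingOf_le_of_core_le fun s hs x hx => Subgroup.mem_centralizer_iff.mpr fun z hz => ?_
  haveI := Fact.mk hs
  rcases eq_or_ne r s with rfl | hne
  · exact (Subgroup.mem_centralizer_iff.mp hz.2 x hx).symm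
  · exact core_commute hne hz.1 hx

theorem zCore_le_centralizer_fittingOf (r : ℕ) [Fact r.Prime] (M : Subgroup G) :
    zCore r M ≤ Subgroup.centralizer (fittingOf M : Set G) :=
  Subgroup.le_centralizer_iff.mp (fittingOf_le_centralizer_zCore r M)

theorem core_le_opp {r t : ℕ} [hr : Fact r.Prime] [ht : Fact t.Prime] (hrt : r ≠ t)
    (M : Subgroup G) : core r M ≤ opp t M := by
  refine le_opp (core_le r M) (le_normalizer_core r M) ?_
  obtain ⟨n, hn⟩ := (isPGroup_core r M).exists_card_eq
  rw [hn]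
  exact Nat.Coprime.pow_left n ((Nat.coprime_primes hr.out ht.out).mpr hrt)

/-- Elements of two normal subgroups of `M` of coprime orders commute. -/
theorem mul_comm_of_normalized_coprime {M X Y : Subgroup G} (hXM : X ≤ M) (hYM : Y ≤ M)
    (hX : M ≤ Subgroup.normalizer (X : Set G)) (hY : M ≤ Subgroup.normalizer (Y : Set G))
    (hcop : (Nat.card X).Coprime (Nat.card Y)) {x y : G} (hx : x ∈ X) (hy : y ∈ Y) :
    x * y = y * x := by
  have h : x * y * x⁻¹ * y⁻¹ ∈ X ⊓ Y := by
    refine Subgroup.mem_inf.mpr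
      ⟨?_, mul_mem ((Subgroup.mem_normalizer_iff.mp (hY (hXM hx)) y).mp hy) (inv_mem hy)⟩
    rw [mul_assoc x y, mul_assoc]
    exact mul_mem hx ((Subgroup.mem_normalizer_iff.mp (hX (hYM hy)) x⁻¹).mp (inv_mem hx))
  rw [Subgroup.inf_eq_bot_of_coprime hcop, Subgroup.mem_bot, mul_inv_eq_one,
    mul_inv_eq_iff_eq_mul] at h
  exact h

/-- A group acting coprimely on a nilpotent group `F` and centralizing a self-centralizing
subgroup of `F` centralizes `F`. -/
theorem le_centralizer_of_selfCentralizing {F A W : Subgroup G} (hF : Group.IsNilpotent F)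
    (hAF : A ≤ F) (hCA : F ⊓ Subgroup.centralizer (A : Set G) ≤ A)
    (hWF : W ≤ Subgroup.normalizer (F : Set G))
    (hcop : (Nat.card W).Coprime (Nat.card F))
    (hWA : W ≤ Subgroup.centralizer (A : Set G)) :
    W ≤ Subgroup.centralizer (F : Set G) := by
  set B := F ⊓ Subgroup.centralizer (W : Set G) with hB
  have hAB : A ≤ B := le_inf hAF (Subgroup.le_centralizer_iff.mp hWA)
  refine Subgroup.le_centralizer_iff.mp ?_
  suffices F ≤ B from this.trans inf_le_right
  by_contra hne
  have hlt : B.subgroupOf F < ⊤ :=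
    lt_top_iff_ne_top.mpr fun ht => hne (Subgroup.subgroupOf_eq_top.mp ht)
  haveI := hF
  obtain ⟨x, hxN, hxB⟩ :=
    SetLike.exists_of_lt (Group.normalizerCondition_of_isNilpotent _ hlt)
  set N := F ⊓ Subgroup.normalizer (B : Set G) with hN
  have hxN' : (x : G) ∈ N := by
    refine ⟨x.2, Subgroup.mem_normalizer_iff.mpr fun y => ⟨fun hy => ?_, fun hy => ?_⟩⟩
    · exact (Subgroup.mem_normalizer_iff.mp hxN ⟨y, hy.1⟩).mp hy
    · have hyF : y ∈ F := by
        have := F.mul_mem (F.mul_mem (F.inv_mem x.2) hy.1) x.2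
        simpa [mul_assoc] using this
      exact (Subgroup.mem_normalizer_iff.mp hxN ⟨y, hyF⟩).mpr hy
  have hWB : W ≤ Subgroup.normalizer (B : Set G) :=
    Coprime.le_normalizer_inf hWF (Coprime.le_normalizer_centralizer Subgroup.le_normalizer)
  have hWN : W ≤ Subgroup.normalizer (N : Set G) :=
    Coprime.le_normalizer_inf hWF (Coprime.le_normalizer_normalizer hWB)
  have hBW : ⁅B, W⁆ = ⊥ :=
    Subgroup.commutator_eq_bot_iff_le_centralizer.mpr inf_le_right
  have h3 : ⁅⁅W, N⁆, B⁆ = ⊥ := by
    refine Subgroup.commutator_commutator_eq_bot_of_rotate ?_ ?_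
    · refine le_bot_iff.mp ((Subgroup.commutator_mono ?_ le_rfl).trans hBW.le)
      rw [Subgroup.commutator_comm]
      exact Coprime.commutator_le_of_le_normalizer inf_le_right
    · rw [hBW, Subgroup.commutator_bot_left]
  have hle : ⁅N, W⁆ ≤ B := by
    have h4 : ⁅N, W⁆ ≤ Subgroup.centralizer (B : Set G) := by
      rw [Subgroup.commutator_comm]
      exact Subgroup.commutator_eq_bot_iff_le_centralizer.mp h3
    refine le_trans (le_trans (le_inf ?_ (h4.trans (Subgroup.centralizer_le ?_))) hCA) hAB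
    · exact (Coprime.commutator_le_of_le_normalizer hWN).trans inf_le_left
    · exact fun a ha => hAB ha
  have hNsolv : Group.IsSolvable N :=
    Coprime.solvable_of_le inf_le_left (Coprime.isSolvable_of_isNilpotent' hF)
  have h5 : ⁅N, W⁆ = ⊥ := by
    rw [← Coprime.commutator_commutator_eq W N hWN
      (hcop.coprime_dvd_right (Subgroup.card_dvd_of_le inf_le_left)) (Or.inr hNsolv)]
    exact le_bot_iff.mp ((Subgroup.commutator_mono hle le_rfl).trans hBW.le)
  exact hxB (show (x : G) ∈ B from
    ⟨x.2, Subgroup.commutator_eq_bot_iff_le_centralizer.mp h5 hxN'⟩)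

theorem piCore_quotient_piCore {H : Type*} [Group H] [Finite H] (π : Set ℕ) :
    piCore π (H ⧸ piCore π H) = ⊥ := by
  set f := QuotientGroup.mk' (piCore π H) with hf
  set N := (piCore π (H ⧸ piCore π H)).comap f with hN
  have hsur := QuotientGroup.mk'_surjective (piCore π H)
  have hmap : N.map f = piCore π (H ⧸ piCore π H) :=
    Subgroup.map_comap_eq_self_of_surjective hsur _
  have hDN : piCore π H ≤ N := fun x hx => by
    show f x ∈ piCore π (H ⧸ piCore π H)
    rw [show f x = 1 from (QuotientGroup.eq_one_iff x).mpr hx]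
    exact one_mem _
  have hle : N ≤ piCore π H := by
    refine BGSigma.le_piCore inferInstance fun r hr hd => ?_
    have h1 : Nat.card N = Nat.card (piCore π H) * (piCore π H).relIndex N := by
      rw [← Subgroup.relIndex_bot_left, ← Subgroup.relIndex_bot_left,
        Subgroup.relIndex_mul_relIndex _ _ _ bot_le hDN]
    rw [h1, Thompson.relIndex_eq_card_map_mk', hmap] at hd
    exact (hr.dvd_mul.mp hd).elim (BGSigma.isPiSub_piCore r hr) (BGSigma.isPiSub_piCore r hr)
  rw [← hmap, Subgroup.map_eq_bot_iff, QuotientGroup.ker_mk']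
  exact hle

end Cfsg.Agent.BGUniq
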