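import Cfsg.Agent.Lib.Thompson.PSolvable
import Cfsg.Agent.Lib.Solvable.Basic
import Cfsg.Agent.Lib.PGroup.Basic
import Cfsg.Agent.OddLocal43.Coprime

/-!
`p`-local lemmas for solvable groups: lifting centralizers through a `p'`-kernel, Thompson's
`P × Q` lemma, and two criteria for a `p'`-subgroup to lie in `O_{p'}`.
-/

set_option autoImplicit false

namespace Cfsg.Agent.BGUniq

open Cfsg

/-- A finite solvable group is `p`-soluble. -/
theorem isPSolvable_of_isSolvable (p : ℕ) [hp : Fact p.Prime] :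
    ∀ (n : ℕ) (H : Type*) [Group H] [Finite H] [Group.IsSolvable H], Nat.card H = n →
      IsPSolvable p H := by
  intro n
  induction n using Nat.strong_induction_on with
  | _ n ih =>
    intro H _ _ _ hn
    rcases subsingleton_or_nontrivial H with hs | hnt
    · exact Thompson.isPSolvable_of_coprime (by simp)
    obtain ⟨N, hN, hNb, -, hmin⟩ : ∃ N : Subgroup H, N.Normal ∧ N ≠ ⊥ ∧ True ∧
        ∀ K : Subgroup H, K.Normal → K ≤ N → K = ⊥ ∨ K = N := by
      obtain ⟨N, h1, h2, h3⟩ := Solvable.exists_minimal_normal H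
      exact ⟨N, h1, h2, trivial, h3⟩
    obtain ⟨q, hq, hNq, -, -, -⟩ := Solvable.exists_prime_of_minimal_normal N hNb hmin
    have hcase : IsPGroup p N ∨ (Nat.card N).Coprime p := by
      by_cases hqp : q = p
      · exact Or.inl (hqp ▸ hNq)
      · right
        haveI : Fact q.Prime := ⟨hq⟩
        obtain ⟨k, hk⟩ := hNq.exists_card_eq
        rw [hk]
        exact ((Nat.coprime_primes hq hp.out).mpr hqp).pow_left k
    refine Thompson.isPSolvable_of_quotient N hcase (ih _ ?_ (H ⧸ N) rfl)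
    rw [← hn, Subgroup.card_eq_card_quotient_mul_card_subgroup N]
    exact lt_mul_of_one_lt_right Nat.card_pos ((N.one_lt_card_iff_ne_bot).mpr hNb)

theorem isPSolvable_of_isSolvable' (p : ℕ) [Fact p.Prime] (H : Type*) [Group H] [Finite H]
    [Group.IsSolvable H] : IsPSolvable p H :=
  isPSolvable_of_isSolvable p _ H rfl

variable {G : Type*} [Group G] [Finite G] {p : ℕ} [hp : Fact p.Prime]

theorem inf_eq_bot_of_pgroup {A D : Subgroup G} (hA : IsPGroup p A)
    (hD : (Nat.card D).Coprime p) : A ⊓ D = ⊥ :=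
  Thompson.inf_eq_bot_of_isPGroup_of_coprime hA hD

/-- An element centralizing a `p`-subgroup modulo a `p'`-group can be corrected by an element of
that group to centralize it. -/
theorem exists_mul_mem_centralizer {A D : Subgroup G} (hA : IsPGroup p A)
    (hD : (Nat.card D).Coprime p) (hAD : A ≤ Subgroup.normalizer (D : Set G)) {g : G}
    (hgD : g ∈ Subgroup.normalizer (D : Set G)) (hg : ∀ a ∈ A, g * a * g⁻¹ * a⁻¹ ∈ D) :
    ∃ d ∈ D, d * g ∈ Subgroup.centralizer (A : Set G) := by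
  set K := D ⊔ A with hK
  set B := A.map (MulAut.conj g).toMonoidHom with hB
  have hAK : A ≤ K := le_sup_right
  have hDK : D ≤ K := le_sup_left
  have hBK : B ≤ K := by
    rintro _ ⟨a, ha, rfl⟩
    have : g * a * g⁻¹ = (g * a * g⁻¹ * a⁻¹) * a := by group
    change g * a * g⁻¹ ∈ K
    rw [this]
    exact mul_mem (hDK (hg a ha)) (hAK ha)
  haveI hDn : (D.subgroupOf K).Normal := by
    rw [Subgroup.normal_subgroupOf_iff_le_normalizer hDK]
    exact sup_le Subgroup.le_normalizer hAD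
  have htop : D.subgroupOf K ⊔ A.subgroupOf K = ⊤ := by
    rw [← Subgroup.subgroupOf_sup hDK hAK, Subgroup.subgroupOf_self]
  have hindex : ¬ p ∣ (A.subgroupOf K).index := by
    have h1 : (A.subgroupOf K).index ∣ Nat.card D := by
      have hc : Nat.card K ∣ Nat.card A * Nat.card D := by
        have := Thompson.card_sup_dvd_mul (A.subgroupOf K) (D.subgroupOf K)
        rwa [sup_comm, htop, Subgroup.card_top,
          Nat.card_congr (Subgroup.subgroupOfEquivOfLe hAK).toEquiv,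
          Nat.card_congr (Subgroup.subgroupOfEquivOfLe hDK).toEquiv] at this
      rw [← (A.subgroupOf K).card_mul_index,
        Nat.card_congr (Subgroup.subgroupOfEquivOfLe hAK).toEquiv] at hc
      exact Nat.dvd_of_mul_dvd_mul_left Nat.card_pos hc
    exact fun h => hp.out.ne_one (Nat.eq_one_of_dvd_coprimes hD (h.trans h1) dvd_rfl)
  let P₁ : Sylow p K := (hA.comap_subtype (K := K)).toSylow hindex
  obtain ⟨P₂, hP₂⟩ := (hA.map (MulAut.conj g).toMonoidHom).comap_subtype (K := K) |>.exists_le_sylow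
  obtain ⟨x, hx⟩ := MulAction.exists_smul_eq K P₂ P₁
  obtain ⟨u, hu, a₀, ha₀, hxu⟩ : ∃ u ∈ D, ∃ a₀ ∈ A, (x : G) = a₀ * u := by
    have hmem : x ∈ A.subgroupOf K ⊔ D.subgroupOf K := by rw [sup_comm, htop]; trivial
    rw [← SetLike.mem_coe, Subgroup.mul_normal] at hmem
    obtain ⟨a, ha, d, hd, rfl⟩ := hmem
    exact ⟨d, hd, a, ha, rfl⟩
  refine ⟨u, hu, Subgroup.mem_centralizer_iff.mpr fun a ha => ?_⟩
  have hy : (⟨g * a * g⁻¹, hBK ⟨a, ha, rfl⟩⟩ : K) ∈ P₂ := hP₂ ⟨a, ha, rfl⟩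
  have hxy : x * (⟨g * a * g⁻¹, hBK ⟨a, ha, rfl⟩⟩ : K) * x⁻¹ ∈ P₁ := by
    rw [← hx]
    change _ ∈ ((x • P₂ : Sylow p K) : Subgroup K)
    rw [Sylow.coe_subgroup_smul]
    exact ⟨_, hy, rfl⟩
  have hA1 : u * (g * a * g⁻¹) * u⁻¹ ∈ A := by
    have h1 : (x : G) * (g * a * g⁻¹) * (x : G)⁻¹ ∈ A := hxy
    rw [hxu] at h1
    have h2 := mul_mem (mul_mem (inv_mem ha₀) h1) ha₀
    convert h2 using 1
    group
  have hD1 : u * (g * a * g⁻¹) * u⁻¹ * a⁻¹ ∈ D := by
    have h2 : a * u⁻¹ * a⁻¹ ∈ D := (Subgroup.mem_normalizer_iff.mp (hAD ha) _).mp (D.inv_mem hu)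
    have h3 := mul_mem (mul_mem hu (hg a ha)) h2
    convert h3 using 1
    group
  have h1 : u * (g * a * g⁻¹) * u⁻¹ * a⁻¹ ∈ A ⊓ D := ⟨A.mul_mem hA1 (A.inv_mem ha), hD1⟩
  rw [inf_eq_bot_of_pgroup hA hD, Subgroup.mem_bot, mul_inv_eq_one] at h1
  calc a * (u * g) = u * (g * a * g⁻¹) * u⁻¹ * (u * g) := by rw [h1]
    _ = u * g * a := by group

/-- Thompson's `P × Q` lemma. -/
theorem le_centralizer_of_pq {Q A W : Subgroup G} (hQ : IsPGroup p Q) (hA : IsPGroup p A)
    (hW : (Nat.card W).Coprime p) (hAQ : A ≤ Subgroup.normalizer (Q : Set G))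
    (hWQ : W ≤ Subgroup.normalizer (Q : Set G)) (hWA : W ≤ Subgroup.centralizer (A : Set G))
    (hfix : Q ⊓ Subgroup.centralizer (A : Set G) ≤ Subgroup.centralizer (W : Set G)) :
    Q ≤ Subgroup.centralizer (W : Set G) := by
  have hcop : (Nat.card W).Coprime (Nat.card Q) := by
    obtain ⟨k, hk⟩ := hQ.exists_card_eq
    rw [hk]; exact hW.pow_right k
  refine OddLocal43.le_centralizer_of_self_centralizing hQ.isNilpotent hWQ hcop ?_
  set Q₀ := Q ⊓ Subgroup.centralizer (W : Set G) with hQ₀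
  set R := Q ⊓ Subgroup.centralizer (Q₀ : Set G) with hR
  by_contra hne
  -- `A` and `W` normalize `Q₀` and `R`
  have hnC : ∀ S : Subgroup G, ∀ g ∈ Subgroup.normalizer (S : Set G),
      g ∈ Subgroup.normalizer ((Subgroup.centralizer (S : Set G) : Subgroup G) : Set G) := by
    intro S g hg
    rw [Subgroup.mem_normalizer_iff]
    intro x
    simp only [SetLike.mem_coe, Subgroup.mem_centralizer_iff]
    constructor
    · intro hx s hs
      have h := hx _ ((Subgroup.mem_normalizer_iff''.mp hg s).mp hs)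
      calc s * (g * x * g⁻¹) = g * (g⁻¹ * s * g * x) * g⁻¹ := by group
        _ = g * (x * (g⁻¹ * s * g)) * g⁻¹ := by rw [h]
        _ = g * x * g⁻¹ * s := by group
    · intro hx s hs
      have h := hx _ ((Subgroup.mem_normalizer_iff.mp hg s).mp hs)
      calc s * x = g⁻¹ * (g * s * g⁻¹ * (g * x * g⁻¹)) * g := by group
        _ = g⁻¹ * (g * x * g⁻¹ * (g * s * g⁻¹)) * g := by rw [h]
        _ = x * s := by group
  have hninf : ∀ S T : Subgroup G, ∀ g, g ∈ Subgroup.normalizer (S : Set G) →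
      g ∈ Subgroup.normalizer (T : Set G) → g ∈ Subgroup.normalizer ((S ⊓ T : Subgroup G) : Set G) := by
    intro S T g hS hT
    rw [Subgroup.mem_normalizer_iff] at hS hT ⊢
    intro x
    exact and_congr (hS x) (hT x)
  have hAW : ∀ a ∈ A, a ∈ Subgroup.normalizer (W : Set G) := fun a ha => by
    rw [Subgroup.mem_normalizer_iff]
    intro x
    have hc : ∀ w ∈ W, a * w * a⁻¹ = w := fun w hw => by rw [hWA hw a ha, mul_inv_cancel_right]
    constructor
    · intro hx; rw [hc x hx]; exact hx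
    · intro hx
      have := hc _ hx
      have h2 : a * x * a⁻¹ = x := mul_left_cancel (mul_right_cancel this)
      rwa [h2] at hx
  have hAQ₀ : A ≤ Subgroup.normalizer (Q₀ : Set G) := fun a ha =>
    hninf _ _ a (hAQ ha) (hnC W a (hAW a ha))
  have hAR : A ≤ Subgroup.normalizer (R : Set G) := fun a ha =>
    hninf _ _ a (hAQ ha) (hnC Q₀ a (hAQ₀ ha))
  have hWQ₀ : W ≤ Subgroup.normalizer (Q₀ : Set G) := fun w hw =>
    hninf _ _ w (hWQ hw) (hnC W w (Subgroup.le_normalizer hw))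
  have hWR : W ≤ Subgroup.normalizer (R : Set G) := fun w hw =>
    hninf _ _ w (hWQ hw) (hnC Q₀ w (hWQ₀ hw))
  set R₀ := R ⊓ Q₀ with hR₀
  set T := A ⊔ R with hT
  have hRp : IsPGroup p R := hQ.to_le inf_le_left
  have hTp : IsPGroup p T := by
    exact IsPGroup.to_sup_of_normal_right' hA hRp hAR
  haveI : (R.subgroupOf T).Normal :=
    (Subgroup.normal_subgroupOf_iff_le_normalizer le_sup_right).mpr (sup_le hAR Subgroup.le_normalizer)
  haveI : (R₀.subgroupOf T).Normal := by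
    refine (Subgroup.normal_subgroupOf_iff_le_normalizer (inf_le_left.trans le_sup_right)).mpr
      (sup_le (fun a ha => hninf _ _ a (hAR ha) (hAQ₀ ha)) fun r hr => ?_)
    refine hninf _ _ r (Subgroup.le_normalizer hr) ?_
    rw [Subgroup.mem_normalizer_iff]
    intro x
    have hc : ∀ y ∈ Q₀, r * y * r⁻¹ = y := fun y hy => by
      rw [← hr.2 y hy, mul_inv_cancel_right]
    constructor
    · intro hx; rw [hc x hx]; exact hx
    · intro hx
      have h2 : r * x * r⁻¹ = x := mul_left_cancel (mul_right_cancel (hc _ hx))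
      rwa [h2] at hx
  have hne' : (R.subgroupOf T).map (QuotientGroup.mk' (R₀.subgroupOf T)) ≠ ⊥ := by
    rw [Ne, Subgroup.map_eq_bot_iff, QuotientGroup.ker_mk']
    intro h
    exact hne fun x hx => (h (show (⟨x, (le_sup_right : R ≤ T) hx⟩ : T) ∈ R.subgroupOf T from hx)).2
  haveI : ((R.subgroupOf T).map (QuotientGroup.mk' (R₀.subgroupOf T))).Normal :=
    Subgroup.Normal.map inferInstance _ (QuotientGroup.mk'_surjective _)
  obtain ⟨⟨z, hz⟩, hz1'⟩ :=
    Subgroup.ne_bot_iff_exists_ne_one.mp (PGroup.inf_center_ne_bot (hTp.to_quotient _) hne')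
  have hz1 : z ≠ 1 := fun h => hz1' (Subtype.ext h)
  obtain ⟨⟨y, hy⟩, hyR, rfl⟩ := hz.1
  have hyR₀ : (y : G) ∉ R₀ := fun h => hz1 ((QuotientGroup.eq_one_iff (⟨y, hy⟩ : T)).mpr h)
  replace hyR : (y : G) ∈ R := hyR
  have hcomm : ∀ a ∈ A, (y : G)⁻¹ * (a * y * a⁻¹) ∈ R₀ := by
    intro a ha
    have h := (Subgroup.mem_center_iff.mp hz.2) (QuotientGroup.mk' _ (⟨a, (le_sup_left : A ≤ T) ha⟩ : T))
    rw [← map_mul, ← map_mul, QuotientGroup.mk'_apply, QuotientGroup.mk'_apply, QuotientGroup.eq] at h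
    -- `h : (a * y)⁻¹ * (y * a) ∈ R₀`
    have h' : ((a * (y : G))⁻¹ * ((y : G) * a)) ∈ R₀ := h
    have hyN : (a * y * a⁻¹)⁻¹ * y ∈ R₀ := by
      have haN := hninf _ _ a (hAR ha) (hAQ₀ ha)
      have := (Subgroup.mem_normalizer_iff.mp haN _).mp h'
      convert this using 1
      group
    have := inv_mem hyN
    convert this using 1
    group
  refine hyR₀ ⟨hyR, hyR.1, Subgroup.mem_centralizer_iff.mpr fun w hw => ?_⟩
  -- `c = y⁻¹ * w y w⁻¹` is fixed by `A`
  set c := (y : G)⁻¹ * (w * y * w⁻¹) with hc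
  have hcR : c ∈ R := mul_mem (inv_mem hyR) ((Subgroup.mem_normalizer_iff.mp (hWR hw) _).mp hyR)
  have hcA : c ∈ Q ⊓ Subgroup.centralizer (A : Set G) := by
    refine ⟨hcR.1, Subgroup.mem_centralizer_iff.mpr fun a ha => ?_⟩
    set e := (y : G)⁻¹ * (a * y * a⁻¹) with he
    have heQ : e ∈ Q₀ := (hcomm a ha).2
    have hew : e * w = w * e := (heQ.2 w hw).symm
    have haw : a * w = w * a := hWA hw a ha
    have haw' : w⁻¹ * a⁻¹ = a⁻¹ * w⁻¹ := by rw [← mul_inv_rev, haw, mul_inv_rev]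
    have hec : e * c = c * e := hcR.2 e heQ
    have h1 : a * y * a⁻¹ = y * e := by rw [he]; group
    have h2 : a * c * a⁻¹ = c := by
      calc a * c * a⁻¹ = (a * y * a⁻¹)⁻¹ * ((a * w) * y * (w⁻¹ * a⁻¹)) := by rw [hc]; group
        _ = (a * y * a⁻¹)⁻¹ * ((w * a) * y * (a⁻¹ * w⁻¹)) := by
              rw [haw', haw]
        _ = (a * y * a⁻¹)⁻¹ * (w * (a * y * a⁻¹) * w⁻¹) := by group
        _ = e⁻¹ * (y⁻¹ * (w * y * w⁻¹) * (w * e * w⁻¹)) := by rw [h1]; group
        _ = e⁻¹ * (c * e) := by rw [← hew, hc]; group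
        _ = c := by rw [← hec]; group
    calc a * c = a * c * a⁻¹ * a := by group
      _ = c * a := by rw [h2]
  have hwc : Commute w c := hfix hcA w hw
  have hco : (orderOf w).Coprime (orderOf c) := by
    refine (hcop.coprime_dvd_left ?_).coprime_dvd_right ?_
    · exact Subgroup.orderOf_dvd_natCard W hw
    · exact Subgroup.orderOf_dvd_natCard Q hcR.1
  have hstab : w * (y : G)⁻¹ * w⁻¹ = c⁻¹ * (y : G)⁻¹ := by rw [hc]; group
  have := OddLocal43.commute_of_stab hwc.inv_right hstab (by rwa [orderOf_inv])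
  exact (Commute.inv_right_iff.mp this).eq

section Criteria

variable {H : Type*} [Group H] [Finite H]

theorem eq_bot_of_fixed_pCore (hps : IsPSolvable p H) (hO : pPrimeCore p H = ⊥)
    {A W : Subgroup H} (hA : IsPGroup p A) (hW : (Nat.card W).Coprime p)
    (hWA : W ≤ Subgroup.centralizer (A : Set H))
    (hfix : ∀ q ∈ pCore p H, q ∈ Subgroup.centralizer (A : Set H) →
      q ∈ Subgroup.normalizer (W : Set H)) : W = ⊥ := by
  have hn : ∀ S : Subgroup H, S ≤ Subgroup.normalizer (pCore p H : Set H) := fun S =>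
    le_top.trans_eq (Subgroup.normalizer_eq_top _).symm
  have hQW : pCore p H ⊓ W = ⊥ := inf_eq_bot_of_pgroup Thompson.isPGroup_pCore hW
  have h := le_centralizer_of_pq Thompson.isPGroup_pCore hA hW (hn A) (hn W) hWA (fun q hq => by
    refine Subgroup.mem_centralizer_iff.mpr fun w hw => ?_
    have h1 : q * w * q⁻¹ * w⁻¹ ∈ pCore p H ⊓ W := by
      refine ⟨?_, W.mul_mem ((Subgroup.mem_normalizer_iff.mp (hfix q hq.1 hq.2) w).mp hw)
        (W.inv_mem hw)⟩
      rw [show q * w * q⁻¹ * w⁻¹ = q * (w * q⁻¹ * w⁻¹) by group]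
      exact (pCore p H).mul_mem hq.1
        (Thompson.instPCoreNormal.conj_mem _ ((pCore p H).inv_mem hq.1) w)
    rw [hQW, Subgroup.mem_bot, mul_inv_eq_one, mul_inv_eq_iff_eq_mul] at h1
    exact h1.symm)
  rw [eq_bot_iff, ← hQW]
  exact le_inf ((Subgroup.le_centralizer_iff.mp h).trans
    (Thompson.centralizer_pCore_le hps hO)) le_rfl

theorem card_map_coprime {H' : Type*} [Group H'] (f : H →* H') {W : Subgroup H}
    (hW : (Nat.card W).Coprime p) : (Nat.card (W.map f)).Coprime p :=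
  hW.coprime_dvd_left (W.card_map_dvd f)

/-- A `p'`-subgroup centralizing a `p`-subgroup `Z` and normalized by `C(Z)` lies in `O_{p'}`. -/
theorem le_pPrimeCore_of_centralizing (hps : IsPSolvable p H) {Z W : Subgroup H}
    (hZ : IsPGroup p Z) (hW : (Nat.card W).Coprime p)
    (hWZ : W ≤ Subgroup.centralizer (Z : Set H))
    (hCW : Subgroup.centralizer (Z : Set H) ≤ Subgroup.normalizer (W : Set H)) :
    W ≤ pPrimeCore p H := by
  set D := pPrimeCore p H with hD
  rw [← QuotientGroup.ker_mk' D, ← Subgroup.map_eq_bot_iff]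
  refine eq_bot_of_fixed_pCore (Thompson.isPSolvable_quotient D hps)
    Thompson.pPrimeCore_quotient_pPrimeCore (hZ.map (QuotientGroup.mk' D)) (card_map_coprime _ hW)
    ?_ ?_
  · rw [Subgroup.map_le_iff_le_comap]
    intro w hw
    rw [Subgroup.mem_comap, Subgroup.mem_centralizer_iff]
    rintro _ ⟨z, hz, rfl⟩
    rw [← map_mul, ← map_mul, hWZ hw z hz]
  · intro q _ hqZ
    obtain ⟨g, rfl⟩ := QuotientGroup.mk'_surjective D q
    obtain ⟨d, hd, hdg⟩ := exists_mul_mem_centralizer hZ Thompson.card_pPrimeCore_coprime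
      (le_top.trans_eq (Subgroup.normalizer_eq_top _).symm)
      (by rw [Subgroup.normalizer_eq_top]; trivial) (g := g) (fun z hz => by
        rw [← QuotientGroup.eq_one_iff, ← QuotientGroup.mk'_apply]
        have h := hqZ (QuotientGroup.mk' D z) ⟨z, hz, rfl⟩
        simp only [map_mul, map_inv]
        rw [← h, mul_inv_cancel_right, mul_inv_cancel])
    have hgd : QuotientGroup.mk' D g = QuotientGroup.mk' D (d * g) := by
      rw [map_mul, show QuotientGroup.mk' D d = 1 from (QuotientGroup.eq_one_iff d).mpr hd, one_mul]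
    rw [hgd]
    exact W.le_normalizer_map _ ⟨_, hCW hdg, rfl⟩

/-- A `p'`-subgroup normalized by a subgroup `T` of `O_{p',p}` that is self-centralizing in a
Sylow `p`-subgroup lies in `O_{p'}`. -/
theorem le_pPrimeCore_of_normalized (hps : IsPSolvable p H) (P : Sylow p H) {T W : Subgroup H}
    (hTP : T ≤ (P : Subgroup H)) (hTQ : T ≤ pPrimePCore p H)
    (hTC : (P : Subgroup H) ⊓ Subgroup.centralizer (T : Set H) ≤ T)
    (hW : (Nat.card W).Coprime p) (hTW : T ≤ Subgroup.normalizer (W : Set H)) :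
    W ≤ pPrimeCore p H := by
  set D := pPrimeCore p H with hD
  set π := QuotientGroup.mk' D
  have hTp : IsPGroup p T := P.isPGroup'.to_le hTP
  rw [← QuotientGroup.ker_mk' D, ← Subgroup.map_eq_bot_iff]
  have hTQ' : T.map π ≤ pCore p (H ⧸ D) := Subgroup.map_le_iff_le_comap.mpr hTQ
  have hQW : pCore p (H ⧸ D) ⊓ W.map π = ⊥ :=
    inf_eq_bot_of_pgroup Thompson.isPGroup_pCore (card_map_coprime _ hW)
  have hTW' : T.map π ≤ Subgroup.normalizer (W.map π : Set (H ⧸ D)) :=
    (Subgroup.map_mono hTW).trans (W.le_normalizer_map π)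
  refine eq_bot_of_fixed_pCore (Thompson.isPSolvable_quotient D hps)
    Thompson.pPrimeCore_quotient_pPrimeCore (hTp.map π) (card_map_coprime _ hW) ?_ ?_
  · intro w hw
    rw [Subgroup.mem_centralizer_iff]
    intro t ht
    have h1 : t * w * t⁻¹ * w⁻¹ ∈ pCore p (H ⧸ D) ⊓ W.map π := by
      refine ⟨?_, (W.map π).mul_mem ((Subgroup.mem_normalizer_iff.mp (hTW' ht) w).mp hw)
        ((W.map π).inv_mem hw)⟩
      rw [show t * w * t⁻¹ * w⁻¹ = t * (w * t⁻¹ * w⁻¹) by group]
      exact (pCore p (H ⧸ D)).mul_mem (hTQ' ht)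
        (Thompson.instPCoreNormal.conj_mem _ ((pCore p (H ⧸ D)).inv_mem (hTQ' ht)) w)
    rw [hQW, Subgroup.mem_bot, mul_inv_eq_one, mul_inv_eq_iff_eq_mul] at h1
    exact h1
  · intro q hq hqT
    have hqP : q ∈ (P : Subgroup H).map π := by
      have := Thompson.pCore_le_sylow (P.mapSurjective (QuotientGroup.mk'_surjective D)) hq
      rwa [Sylow.coe_mapSurjective] at this
    obtain ⟨x, hx, rfl⟩ := hqP
    refine hTW' ⟨x, hTC ⟨hx, Subgroup.mem_centralizer_iff.mpr fun t ht => ?_⟩, rfl⟩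
    have h1 : t * x * t⁻¹ * x⁻¹ ∈ (P : Subgroup H) ⊓ D := by
      refine ⟨(P : Subgroup H).mul_mem ((P : Subgroup H).mul_mem
        ((P : Subgroup H).mul_mem (hTP ht) hx) ((P : Subgroup H).inv_mem (hTP ht)))
        ((P : Subgroup H).inv_mem hx), ?_⟩
      show t * x * t⁻¹ * x⁻¹ ∈ D
      rw [← QuotientGroup.eq_one_iff, ← QuotientGroup.mk'_apply]
      have h := hqT (π t) ⟨t, ht, rfl⟩
      simp only [map_mul, map_inv]
      rw [h, mul_inv_cancel_right, mul_inv_cancel]
    rw [inf_eq_bot_of_pgroup P.isPGroup' Thompson.card_pPrimeCore_coprime, Subgroup.mem_bot,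
      mul_inv_eq_one, mul_inv_eq_iff_eq_mul] at h1
    exact h1

end Criteria

end Cfsg.Agent.BGUniq
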