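import Cfsg.Agent.BGUniq.FittingUniq

/-!
Uniqueness subgroups when `F(M)` is a `p`-group, and the combination of both cases: a Fitting
subgroup of rank at least three makes every rank-three abelian `p`-subgroup a uniqueness subgroup.
-/

set_option autoImplicit false

namespace Cfsg.Agent.BGUniq

open Cfsg

variable {G : Type*} [Group G] [Finite G] {p : ℕ} [hp : Fact p.Prime]

theorem fittingOf_le_core_of_isPGroup {M : Subgroup G} (hFp : IsPGroup p (fittingOf M)) :
    fittingOf M ≤ core p M := by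
  refine fittingOf_le_of_core_le fun r hr => ?_
  rcases eq_or_ne r p with rfl | hne
  · exact le_rfl
  haveI := Fact.mk hr
  refine le_trans (le_inf (core_le_fittingOf r M) le_rfl) ?_
  rw [disjoint_iff.mp (IsPGroup.disjoint_of_ne p r hne.symm _ _ hFp (isPGroup_core r M))]
  exact bot_le

/-- When `F(M)` is a `p`-group, `O_{p'}(M) = 1`. -/
theorem opp_eq_bot_of_isPGroup {M : Subgroup G} (hMs : Group.IsSolvable M)
    (hFp : IsPGroup p (fittingOf M)) : opp p M = ⊥ := by
  have hcop : (Nat.card (fittingOf M)).Coprime (Nat.card (opp p M)) := by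
    obtain ⟨n, hn⟩ := hFp.exists_card_eq
    rw [hn]
    exact Nat.Coprime.pow_left n (opp_coprime p M).symm
  have hle : opp p M ≤ fittingOf M := le_trans (le_inf (opp_le p M) fun x hx =>
      Subgroup.mem_centralizer_iff.mpr fun y hy =>
        mul_comm_of_normalized_coprime (fittingOf_le M) (opp_le p M) (le_normalizer_fittingOf M)
          (le_normalizer_opp p M) hcop hy hx)
    (inf_centralizer_fittingOf_le hMs)
  rw [eq_bot_iff, ← Subgroup.inf_eq_bot_of_coprime hcop]
  exact le_inf hle le_rfl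

variable (hG : IsMinSimpleOddOrder G)
include hG

theorem exists_sylow_eq_of_normalizer_le {M P : Subgroup G} (hP : IsSylowIn p P M)
    (hN : Subgroup.normalizer (P : Set G) ≤ M) : ∃ Q : Sylow p G, (Q : Subgroup G) = P := by
  obtain ⟨Q, hQ⟩ := hP.2.1.exists_le_sylow
  refine ⟨Q, ?_⟩
  by_contra hne'
  have hlt := lt_inf_normalizer Q.isPGroup' (lt_of_le_of_ne hQ (Ne.symm hne'))
  exact hlt.not_ge (hP.le_of_le (Q.isPGroup'.to_le inf_le_left) hlt.le (inf_le_right.trans hN))

theorem sylow_of_fitting_pgroup {M P : Subgroup G} (hM : IsCoatom M)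
    (hFp : IsPGroup p (fittingOf M)) (hP : IsSylowIn p P M) (hP0 : P ≠ ⊥) :
    ∃ Q : Sylow p G, (Q : Subgroup G) = P := by
  have hMs := BGSigma.coatom_isSolvable hG hM
  have h1 := frattini_puig hMs (odd_card_subgroup hG M)
    (prime_ne_two hG (dvd_card_of_ne_bot hG hP.2.1 hP0)) hP
  rw [opp_eq_bot_of_isPGroup hMs hFp, bot_sup_eq] at h1
  refine exists_sylow_eq_of_normalizer_le hG hP ?_
  rw [← BGSigma.normalizer_eq_coatom hG hM ((centerPuig_le P).trans hP.1)
    (centerPuig_ne_bot hP.2.1 hP0) (h1.trans inf_le_right)]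
  exact OddLocal44.le_normalizer_centerPuig le_rfl

theorem scn_three_inU_of_fitting_pgroup {M : Subgroup G} (hM : IsCoatom M)
    (hFp : IsPGroup p (fittingOf M)) (Q : Sylow p G) (hQM : (Q : Subgroup G) ≤ M)
    {A : Subgroup G} (hA : IsSCN (Q : Subgroup G) A) (hA3 : ¬ PRankLE p 2 A) :
    A ≤ fittingOf M ∧ InUniqueMaximal A := by
  have hMs := BGSigma.coatom_isSolvable hG hM
  have hQ' := isSylowIn_of_sylow Q hQM
  have hAc := isMulCommutative_of_isSCN hA
  haveI := hAc
  have hAp : IsPGroup p A := Q.isPGroup'.to_le hA.1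
  have hObot : pPrimeCore p M = ⊥ := by
    have h := opp_eq_bot_of_isPGroup hMs hFp
    rwa [opp, Subgroup.map_eq_bot_iff_of_injective _ M.subtype_injective] at h
  haveI : (pPrimePCore p M).Normal := Subgroup.Normal.comap Thompson.instPCoreNormal _
  have hAF : A ≤ fittingOf M := by
    refine (abelian_normal_le_oppP hMs (odd_card_subgroup hG M) hQ' hA.1 hAc hA.2.1).trans
      (le_trans (Subgroup.map_mono (Thompson.le_pCore inferInstance ?_)) (core_le_fittingOf p M))
    rintro ⟨x, hx⟩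
    obtain ⟨k, hk⟩ := Thompson.isPGroup_pCore (p := p) (G := M ⧸ pPrimeCore p M)
      ⟨QuotientGroup.mk' _ x, hx⟩
    refine ⟨k, Subtype.ext ?_⟩
    have h2 : QuotientGroup.mk' (pPrimeCore p M) (x ^ p ^ k) = 1 := by
      rw [map_pow]; exact congrArg Subtype.val hk
    rw [← MonoidHom.mem_ker, QuotientGroup.ker_mk', hObot, Subgroup.mem_bot] at h2
    exact h2
  refine ⟨hAF, ?_⟩
  obtain ⟨E, hEA, hE, hEc⟩ := exists_elementary_of_not_pRankLE hA3
  have hA0 : A ≠ ⊥ := fun h => by
    have hE1 : Nat.card E ≤ 1 := by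
      rw [le_bot_iff.mp (hEA.trans h.le), Subgroup.card_bot]
    exact absurd (hEc.trans hE1) (not_le.mpr (Nat.one_lt_pow (by norm_num) hp.out.one_lt))
  have h1 : ¬ PRankLE p 1 A := not_pRankLE_of_elementary hEA hE
    ((Nat.pow_le_pow_right hp.out.pos (by norm_num)).trans hEc)
  have hpG : p ∣ Nat.card G := dvd_card_of_ne_bot hG hAp hA0
  have hTH : TransitivityHypothesis A :=
    S1396.result hG p hpG A hAp hAc (Or.inr ⟨Q, hA, h1⟩)
  have hFQ : fittingOf M ≤ (Q : Subgroup G) := by
    refine le_trans ?_ (hQ'.le_of_le (Q := fittingOf M ⊔ (Q : Subgroup G)) ?_ le_sup_right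
      (sup_le (fittingOf_le M) hQM))
    · exact le_sup_left
    · rw [sup_comm]
      exact IsPGroup.to_sup_of_normal_right' Q.isPGroup' hFp
        (hQM.trans (le_normalizer_fittingOf M))
  obtain ⟨k, hk⟩ := hAp.exists_card_eq
  have hk0 : k ≠ 0 := fun h => hA0 (Subgroup.eq_bot_of_card_eq _ (by rw [hk, h, pow_zero]))
  refine inU_of_inv_le hG hM hAp hA0 (hAF.trans (fittingOf_le M)) fun Y hY hAY => ?_
  refine le_trans (le_of_invariant_sylows (M := (⊥ : Subgroup G)) hAY
    (hk ▸ Nat.Coprime.pow_left k hY.symm)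
    (Group.isSolvable_of_comm fun a b => mul_comm' a b) fun q hq S hSY hSq hAS => ?_) bot_le
  haveI := Fact.mk hq
  rcases eq_or_ne S ⊥ with rfl | hS0
  · exact le_rfl
  have hqp : q ≠ p := by
    rintro rfl
    obtain ⟨n, hn⟩ := hSq.exists_card_eq
    have h' : (Nat.card S).Coprime q := hY.coprime_dvd_left (Subgroup.card_dvd_of_le hSY)
    exact hS0 (Subgroup.eq_bot_of_card_eq _
      (Nat.eq_one_of_dvd_coprimes (h'.pow_right n) dvd_rfl (dvd_of_eq hn)))
  have hqA : ¬ q ∣ Nat.card A := fun h => hqp (by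
    rw [hk] at h
    exact (Nat.prime_dvd_prime_iff_eq hq hp.out).mp (hq.dvd_of_dvd_pow h))
  obtain ⟨R, hR, hSR⟩ := exists_max_ge (A := A) (π := {q}) (Y := S)
    ⟨le_top, isPiSub_of_isPGroup (Set.mem_singleton q) hSq, hAS⟩
  have hZ : ¬ RankLE 2 ↥(A ⊓ Subgroup.centralizer (A : Set G)) := by
    rw [inf_eq_left.mpr (le_centralizer_of_isSCN hA)]
    exact fun h => hA3 (h p hp.out)
  have htr := transitive_of_center_rank_three hG hTH hqA hZ
  haveI := isNilpotent_fittingOf M
  obtain ⟨hsub, htrF⟩ := transitive_of_subnormal hG hTH hqA (P := fittingOf M)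
    (fun r hr hd => by
      obtain ⟨n, hn⟩ := hFp.exists_card_eq
      rw [hn] at hd
      rw [(Nat.prime_dvd_prime_iff_eq hr hp.out).mp (hr.dvd_of_dvd_pow hd), hk]
      exact dvd_pow_self p hk0)
    hAF (Subnormal.isSubnormal_of_isNilpotent _) htr
  obtain ⟨R₀, hR₀, -⟩ := exists_max_ge (bot_mem_invSubgroups (fittingOf M) {q})
  have hFne : fittingOf M ≠ ⊥ := fun h => hA0 (le_bot_iff.mp (hAF.trans h.le))
  have hNF : Subgroup.normalizer (fittingOf M : Set G) = M :=
    BGSigma.normalizer_eq_coatom hG hM (fittingOf_le M) hFne (le_normalizer_fittingOf M)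
  have hK : coreK A ⊓ Subgroup.centralizer (fittingOf M : Set G) = ⊥ := by
    set K := coreK A ⊓ Subgroup.centralizer (fittingOf M : Set G) with hKdef
    have hle : K ≤ fittingOf M := le_trans
      (le_inf (inf_le_right.trans ((Subgroup.centralizer_le_normalizer _).trans hNF.le))
        inf_le_right) (inf_centralizer_fittingOf_le hMs)
    refine le_bot_iff.mp ?_
    rw [← BGSigma.isPiSub_inf_eq_bot (H := K) (K := fittingOf M)
      ((BGSigma.isPiSub_piCoreOf _).mono_le inf_le_left)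
      (isPiSub_of_isPGroup (Set.mem_singleton p) hFp)
      (fun r _ h1 h2 => h1.2 (by rw [Set.mem_singleton_iff.mp h2, hk]; exact dvd_pow_self p hk0))]
    exact le_inf le_rfl hle
  have hR₀0 : R₀ = ⊥ := by
    by_contra hne
    have hMR : M ≤ Subgroup.normalizer (R₀ : Set G) := by
      intro g hg
      obtain ⟨c, hc, hcR⟩ := htrF R₀ hR₀ _
        (map_conj_mem_max (le_normalizer_fittingOf M hg) hR₀)
      rw [hK, Subgroup.mem_bot] at hc
      rw [hc, map_conj_one] at hcR
      rw [map_conj_eq_self_iff, hcR]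
    have hRq := isPGroup_of_isPiSub_singleton hR₀.1.2.1
    have hRM : R₀ ≤ M := by
      rw [← (hM.le_iff.mp hMR).resolve_left
        (BGSigma.normalizer_ne_top hG hne (ne_top_of_isPGroup hG hRq))]
      exact Subgroup.le_normalizer
    have hRc : R₀ ≤ core q M := (le_map_subtype_iff hRM).mpr (Thompson.le_pCore
      ((Subgroup.normal_subgroupOf_iff_le_normalizer hRM).mpr hMR) hRq.comap_subtype)
    refine hne (le_bot_iff.mp ?_)
    rw [← disjoint_iff.mp (IsPGroup.disjoint_of_ne q p hqp _ _ (isPGroup_core q M) hFp)]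
    exact le_inf hRc (hRc.trans (core_le_fittingOf q M))
  obtain ⟨c, -, rfl⟩ := htr R₀ (hsub hR₀) R hR
  rw [hR₀0, Subgroup.map_bot] at hSR
  exact hSR

omit hG in
theorem exists_two_primes {M : Subgroup G} (hFp : ¬ IsPGroup p (fittingOf M))
    (hpF : p ∣ Nat.card (fittingOf M)) (t : ℕ) :
    ∃ r : ℕ, r.Prime ∧ r ≠ t ∧ r ∣ Nat.card (fittingOf M) := by
  by_cases htp : p = t
  · subst htp
    by_contra hno
    push Not at hno
    refine hFp (IsPGroup.iff_card.mpr ⟨_, Nat.eq_prime_pow_of_unique_prime_dvd Nat.card_pos.ne'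
      fun {r} hr hd => ?_⟩)
    by_contra hrp
    exact hno r hr hrp hd
  · exact ⟨p, hp.out, htp, hpF⟩

theorem inU_inf_centralizer_of_not_pgroup {M : Subgroup G} (hM : IsCoatom M) {A₀ : Subgroup G}
    (hA₀ : A₀ ≤ fittingOf M) (hA₀e : IsElementaryAbelian p A₀) (hA₀3 : p ^ 3 ≤ Nat.card A₀)
    (hFp : ¬ IsPGroup p (fittingOf M)) :
    InUniqueMaximal (fittingOf M ⊓ Subgroup.centralizer (A₀ : Set G)) := by
  haveI := hA₀e.1
  set A := fittingOf M ⊓ Subgroup.centralizer (A₀ : Set G) with hA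
  have hA₀A : A₀ ≤ A := le_inf hA₀ (Subgroup.le_centralizer_iff_isMulCommutative.mpr hA₀e.1)
  have hCA : fittingOf M ⊓ Subgroup.centralizer (A : Set G) ≤ A :=
    inf_le_inf_left _ (Subgroup.centralizer_le hA₀A)
  have hzA : ∀ r : ℕ, r.Prime → zCore r M ≤ A := fun r hr => by
    haveI := Fact.mk hr
    exact le_inf ((zCore_le_core r M).trans (core_le_fittingOf r M))
      ((zCore_le_centralizer_fittingOf r M).trans (Subgroup.centralizer_le hA₀))
  have hpF : p ∣ Nat.card (fittingOf M) := by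
    refine dvd_trans ?_ (Subgroup.card_dvd_of_le hA₀)
    obtain ⟨n, hn⟩ := (isPGroup_of_elementary hA₀e).exists_card_eq
    rw [hn] at hA₀3 ⊢
    exact dvd_pow_self p fun h0 => by
      rw [h0, pow_zero] at hA₀3
      exact absurd hA₀3 (not_le.mpr (Nat.one_lt_pow (by norm_num) hp.out.one_lt))
  have hZ3 : ¬ RankLE 2 ↥(A ⊓ Subgroup.centralizer (A : Set G)) := fun h =>
    not_pRankLE_of_elementary (X := A ⊓ Subgroup.centralizer (A : Set G))
      (le_inf hA₀A (Subgroup.le_centralizer_iff.mp inf_le_right)) hA₀e hA₀3 (h p hp.out)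
  exact inU_mk hM (inf_le_left.trans (fittingOf_le M)) fun L hL hAL =>
    eq_of_le_of_nonP hG hM inf_le_left hCA hzA hZ3 (exists_two_primes hFp hpF) hL hAL

/-- A Fitting subgroup with `p`-rank at least three makes every rank-three abelian `p`-subgroup a
uniqueness subgroup. -/
theorem inU_of_fitting_rank_three {M : Subgroup G} (hM : IsCoatom M)
    (hF : ¬ PRankLE p 2 (fittingOf M)) {X : Subgroup G} (hX : X ≠ ⊤) (hX3 : ¬ PRankLE p 2 X) :
    InUniqueMaximal X := by
  obtain ⟨E, hEF, hE, hEc⟩ := exists_elementary_of_not_pRankLE hF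
  have hEp := isPGroup_of_elementary hE
  by_cases hFp : IsPGroup p (fittingOf M)
  · obtain ⟨P, hP, hEP⟩ := exists_isSylowIn_ge hEp (hEF.trans (fittingOf_le M))
    have hP0 : P ≠ ⊥ := fun h => by
      rw [le_bot_iff.mp (hEP.trans h.le), Subgroup.card_bot] at hEc
      exact absurd hEc (not_le.mpr (Nat.one_lt_pow (by norm_num) hp.out.one_lt))
    obtain ⟨Q, rfl⟩ := sylow_of_fitting_pgroup hG hM hFp hP hP0
    obtain ⟨A, hA, hA3⟩ := exists_scn_three Q (prime_ne_two hG (dvd_card_of_ne_bot hG hP.2.1 hP0))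
      (not_pRankLE_of_elementary hEP hE hEc)
    obtain ⟨-, hAU⟩ := scn_three_inU_of_fitting_pgroup hG hM hFp Q hP.1 hA hA3
    exact inU_of_rank_three hG (Q.isPGroup'.to_le hA.1) (isMulCommutative_of_isSCN hA) hA3 hAU
      hX hX3
  · have hCU := inU_inf_centralizer_of_not_pgroup hG hM hEF hE hEc hFp
    have hEU : InUniqueMaximal E := inU_elementary_of_centralizes hG hCU hE
      ((Nat.pow_le_pow_right hp.out.pos (by norm_num)).trans hEc)
      (Subgroup.le_centralizer_iff.mp inf_le_right)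
    exact inU_of_rank_three hG hEp hE.1 (not_pRankLE_of_elementary le_rfl hE hEc) hEU hX hX3

end Cfsg.Agent.BGUniq
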