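import Cfsg.Agent.BGUniq.Uniqueness
import Cfsg.Agent.ConjFunctor.WellPlaced
import Cfsg.Agent.Lib.Transfer.Focal

/-!
Transfer in a minimal simple group of odd order: a Sylow subgroup `P` lies in the derived group of
`N(Z(L(P)))`, and so in that of `N(P ∩ O_{p',p}(L))` for a maximal subgroup `L ⊇ N(Z(L(P)))`.
-/

set_option autoImplicit false

namespace Cfsg.Agent.BGUniq

open Cfsg
open scoped commutatorElement

variable {G : Type*} [Group G] [Finite G]

/-- If `L = KU` with `K` normal, elements of `U ∩ L'` of order prime to `|K|` lie in `U'`. -/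
theorem mem_commutator_of_sup {K U L : Subgroup G} (hKL : K ≤ L) (hUL : U ≤ L)
    (hLK : L ≤ Subgroup.normalizer (K : Set G)) (hL : L ≤ K ⊔ U) {x : G} (hxU : x ∈ U)
    (hx : x ∈ ⁅L, L⁆) (hcop : (orderOf x).Coprime (Nat.card K)) : x ∈ ⁅U, U⁆ := by
  have hU'U : ⁅U, U⁆ ≤ U := Subgroup.commutator_le_self U
  have heq : L = U ⊔ K := le_antisymm (sup_comm K U ▸ hL) (sup_le hUL hKL)
  haveI : (K.subgroupOf L).Normal :=
    (Subgroup.normal_subgroupOf_iff_le_normalizer hKL).mpr hLK
  set f := QuotientGroup.mk' (K.subgroupOf L) with hf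
  have htop : (U.subgroupOf L).map f = ⊤ := by
    rw [← top_le_iff, ← Subgroup.map_top_of_surjective f (QuotientGroup.mk'_surjective _),
      Subgroup.map_le_iff_le_comap, Subgroup.comap_map_eq, QuotientGroup.ker_mk',
      ← Subgroup.subgroupOf_sup hUL hKL, ← heq, Subgroup.subgroupOf_self]
  have h1 : commutator L ≤ ⁅U.subgroupOf L, U.subgroupOf L⁆ ⊔ K.subgroupOf L := by
    rw [← QuotientGroup.ker_mk' (K.subgroupOf L), ← Subgroup.comap_map_eq,
      ← Subgroup.map_le_iff_le_comap, Subgroup.map_commutator, htop, commutator_def,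
      Subgroup.map_commutator,
      Subgroup.map_top_of_surjective _ (QuotientGroup.mk'_surjective _)]
  have h2 := Subgroup.map_mono (f := L.subtype) h1
  rw [Subgroup.map_subtype_commutator, Subgroup.map_sup, Subgroup.map_commutator,
    Subgroup.map_subgroupOf_eq_of_le hUL, Subgroup.map_subgroupOf_eq_of_le hKL] at h2
  have hx' := h2 hx
  rw [sup_comm, ← SetLike.mem_coe, Subgroup.coe_mul_of_right_le_normalizer_left K ⁅U, U⁆
    (hU'U.trans (hUL.trans hLK))] at hx'
  obtain ⟨k, hk, u, hu, rfl⟩ := hx'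
  have hkU : k ∈ U := by simpa using mul_mem hxU (inv_mem (hU'U hu))
  let g : U →* Abelianization U := Abelianization.of
  have hu1 : g ⟨u, hU'U hu⟩ = 1 := by
    refine (QuotientGroup.eq_one_iff _).mpr ?_
    rw [← Subgroup.map_subtype_commutator] at hu
    obtain ⟨v, hv, hvu⟩ := hu
    have he : (⟨u, hU'U (Subgroup.map_subtype_commutator U ▸ ⟨v, hv, hvu⟩)⟩ : U) = v :=
      Subtype.ext (show u = (v : G) from hvu.symm)
    rw [he]
    exact hv
  have hgk : g ⟨k * u, hxU⟩ = g ⟨k, hkU⟩ := by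
    rw [show (⟨k * u, hxU⟩ : U) = ⟨k, hkU⟩ * ⟨u, hU'U hu⟩ from rfl, map_mul, hu1, mul_one]
  have hd1 : orderOf (g ⟨k * u, hxU⟩) ∣ orderOf (k * u) :=
    (orderOf_map_dvd g _).trans (by rw [Subgroup.orderOf_mk])
  have hd2 : orderOf (g ⟨k, hkU⟩) ∣ Nat.card K :=
    (orderOf_map_dvd g _).trans (by
      rw [Subgroup.orderOf_mk, ← Subgroup.orderOf_mk k hk]
      exact orderOf_dvd_natCard _)
  rw [← hgk] at hd2
  have h3 : (⟨k * u, hxU⟩ : U) ∈ commutator U :=
    (QuotientGroup.eq_one_iff _).mp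
      (orderOf_eq_one_iff.mp (Nat.eq_one_of_dvd_coprimes hcop hd1 hd2))
  exact Subgroup.map_subtype_commutator U ▸ ⟨_, h3, rfl⟩

variable {p : ℕ} [hp : Fact p.Prime]

theorem coprime_orderOf_of_isPGroup {P : Subgroup G} (hP : IsPGroup p P) {x : G} (hx : x ∈ P)
    {n : ℕ} (hn : n.Coprime p) : (orderOf x).Coprime n := by
  obtain ⟨k, hk⟩ := hP.exists_card_eq
  refine (Nat.Coprime.pow_left k hn.symm).coprime_dvd_left ?_
  rw [← hk, ← Subgroup.orderOf_mk x hx]
  exact orderOf_dvd_natCard _

theorem isConjugacyFunctor_centerPuig :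
    IsConjugacyFunctor p (OddLocal44.centerPuig : Subgroup G → Subgroup G) :=
  fun P hP => ⟨centerPuig_le P, fun h => centerPuig_ne_bot hP h, fun g =>
    (OddLocal44.map_centerPuig (MulAut.conj g).toMonoidHom fun x _ hx =>
      (MulAut.conj g).injective (hx.trans (map_one _).symm)).symm⟩

variable (hG : IsMinSimpleOddOrder G)
include hG

theorem wellPlaced_commutator_le (P : Sylow p G) {T : Subgroup G} (hT0 : T ≠ ⊥)
    (hT : IsWellPlaced p OddLocal44.centerPuig (P : Subgroup G) T) :
    (P : Subgroup G) ⊓ Subgroup.normalizer (T : Set G) ⊓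
        ⁅Subgroup.normalizer (T : Set G), Subgroup.normalizer (T : Set G)⁆ ≤
      ⁅Subgroup.normalizer (OddLocal44.centerPuig (P : Subgroup G) : Set G),
        Subgroup.normalizer (OddLocal44.centerPuig (P : Subgroup G) : Set G)⁆ := by
  induction hn : Nat.card G - Nat.card ↥((P : Subgroup G) ⊓ Subgroup.normalizer (T : Set G))
    using Nat.strong_induction_on generalizing T with
  | _ n IH =>
  set L := Subgroup.normalizer (T : Set G) with hLdef
  set R := (P : Subgroup G) ⊓ L with hR
  have hTp : IsPGroup p T := P.isPGroup'.to_le hT.1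
  have hL : L ≠ ⊤ := BGSigma.normalizer_ne_top hG hT0 (ne_top_of_isPGroup hG hTp)
  have hR0 : R ≠ ⊥ := fun h =>
    hT0 (le_bot_iff.mp (h ▸ le_inf hT.1 Subgroup.le_normalizer))
  have hRp : IsPGroup p R := P.isPGroup'.to_le inf_le_left
  have hRsyl : IsSylowIn p R L := ⟨inf_le_right, hRp, hT.2 0⟩
  have hp2 : p ≠ 2 := prime_ne_two hG (dvd_card_of_ne_bot hG hRp hR0)
  set N := Subgroup.normalizer (OddLocal44.centerPuig R : Set G) with hN
  have hRN : R ≤ N := OddLocal44.le_normalizer_centerPuig Subgroup.le_normalizer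
  -- the step to `N(Z(L(R)))`
  have hstep : R ⊓ ⁅L, L⁆ ≤ (P : Subgroup G) ⊓ N ⊓ ⁅N, N⁆ := by
    rintro x ⟨hxR, hxL⟩
    refine ⟨⟨hxR.1, hRN hxR⟩, Subgroup.commutator_mono inf_le_right inf_le_right
      (mem_commutator_of_sup (opp_le p L) (inf_le_left : L ⊓ N ≤ L) (le_normalizer_opp p L)
        (frattini_puig (BGSigma.isSolvable_of_ne_top hG hL) (odd_card_subgroup hG L) hp2 hRsyl)
        (Subgroup.mem_inf.mpr ⟨hxR.2, hRN hxR⟩) hxL
        (coprime_orderOf_of_isPGroup hRp hxR (opp_coprime p L)))⟩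
  rcases eq_or_ne R (P : Subgroup G) with hRP | hRP
  · refine hstep.trans (inf_le_right.trans ?_)
    rw [hN, hRP]
  · refine hstep.trans (IH _ ?_ (centerPuig_ne_bot hRp hR0)
      (ConjFunctor.isWellPlaced_next isConjugacyFunctor_centerPuig P.isPGroup' hT) rfl)
    have hlt : R < (P : Subgroup G) ⊓ N :=
      lt_of_lt_of_le (lt_inf_normalizer P.isPGroup' (lt_of_le_of_ne inf_le_left hRP))
        (inf_le_inf_left _ (OddLocal44.le_normalizer_centerPuig le_rfl))
    have h1 : Nat.card R < Nat.card ↥((P : Subgroup G) ⊓ N) :=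
      lt_of_le_of_ne (Subgroup.card_le_of_le hlt.le)
        fun h => hlt.ne (Subgroup.eq_of_le_of_card_ge hlt.le h.ge)
    have h2 : Nat.card ↥((P : Subgroup G) ⊓ N) ≤ Nat.card G := Subgroup.card_le_card_group _
    rw [← hn]
    show Nat.card G - Nat.card ↥((P : Subgroup G) ⊓ N) < Nat.card G - Nat.card R
    omega

/-- A Sylow subgroup lies in the derived group of `N(Z(L(P)))`. -/
theorem sylow_le_commutator_normalizer_centerPuig (P : Sylow p G) :
    (P : Subgroup G) ≤ ⁅Subgroup.normalizer (OddLocal44.centerPuig (P : Subgroup G) : Set G),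
      Subgroup.normalizer (OddLocal44.centerPuig (P : Subgroup G) : Set G)⁆ := by
  set N' := ⁅Subgroup.normalizer (OddLocal44.centerPuig (P : Subgroup G) : Set G),
    Subgroup.normalizer (OddLocal44.centerPuig (P : Subgroup G) : Set G)⁆ with hN'
  have hcomm : commutator G = ⊤ := by
    rcases BGSigma.normal_eq_bot_or_top hG (N := commutator G) inferInstance with h | h
    · refine absurd ?_ hG.2.2.1
      refine ⟨⟨fun a b => commutatorElement_eq_one_iff_mul_comm.mp (Subgroup.mem_bot.mp ?_)⟩⟩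
      rw [← h, commutator_def]
      exact Subgroup.commutator_mem_commutator (Subgroup.mem_top a) (Subgroup.mem_top b)
    · exact h
  have hfoc : (P : Subgroup G) = (P : Subgroup G).focalSubgroup := by
    rw [← Subgroup.commutator_inf_eq_focalSubgroup P, hcomm, top_inf_eq]
  rw [hfoc, Subgroup.focalSubgroup_def, Subgroup.closure_le]
  rintro _ ⟨hmem, x, hx, u, rfl⟩
  have key : ∀ {A : Set G} {g : G},
      ConjFunctor.Reach {T : Subgroup G |
          IsWellPlaced p OddLocal44.centerPuig (P : Subgroup G) T} A g →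
        ∀ a ∈ A, a * (g * a * g⁻¹)⁻¹ ∈ N' := by
    intro A g hA
    induction hA with
    | one A => intro a _; simp
    | @cons A T t g hT hAT ht _ ih =>
      intro a ha
      have haT : a ∈ T := hAT ha
      have h1 := ih (t * a * t⁻¹) ⟨a, ha, rfl⟩
      have h2 : a * (t * a * t⁻¹)⁻¹ ∈ N' := by
        rcases eq_or_ne T ⊥ with rfl | hT0
        · rw [Subgroup.mem_bot.mp haT]; simp
        refine wellPlaced_commutator_le hG P hT0 hT
          (Subgroup.mem_inf.mpr ⟨Subgroup.mem_inf.mpr ⟨?_, ?_⟩, ?_⟩)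
        · exact (P : Subgroup G).mul_mem (hT.1 haT) (inv_mem (hT.1
            ((Subgroup.mem_normalizer_iff.mp ht a).mp haT)))
        · exact mul_mem (Subgroup.le_normalizer haT) (inv_mem (Subgroup.le_normalizer
            ((Subgroup.mem_normalizer_iff.mp ht a).mp haT)))
        · rw [show a * (t * a * t⁻¹)⁻¹ = ⁅a, t⁆ by rw [commutatorElement_def]; group]
          exact Subgroup.commutator_mem_commutator (Subgroup.le_normalizer haT) ht
      have h3 := mul_mem h2 h1
      convert h3 using 1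
      group
  have hy : u * x * u⁻¹ ∈ (P : Subgroup G) := by
    have h := inv_mem (mul_mem (inv_mem hx) hmem)
    rw [commutatorElement_def] at h
    convert h using 1
    group
  have h := key (ConjFunctor.reach_wellPlaced P isConjugacyFunctor_centerPuig {x} u
    (Set.singleton_subset_iff.mpr hx)
    (ConjFunctor.img_subset_iff.mpr fun a ha => by
      rw [Set.mem_singleton_iff.mp ha]; exact hy)) x rfl
  rw [SetLike.mem_coe, commutatorElement_def]
  convert h using 1
  group

/-- There is `T₀ = P ∩ O_{p',p}(L)` with `P ≤ N(T₀)'`, containing every normal abelian subgroup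
of `P`. -/
theorem exists_transfer_subgroup (P : Sylow p G) (hne : (P : Subgroup G) ≠ ⊥) :
    ∃ T₀ : Subgroup G, T₀ ≤ (P : Subgroup G) ∧
      (P : Subgroup G) ≤ Subgroup.normalizer (T₀ : Set G) ∧
      (P : Subgroup G) ≤ ⁅Subgroup.normalizer (T₀ : Set G), Subgroup.normalizer (T₀ : Set G)⁆ ∧
      ∀ A : Subgroup G, A ≤ (P : Subgroup G) → IsMulCommutative A →
        (P : Subgroup G) ≤ Subgroup.normalizer (A : Set G) → A ≤ T₀ := by
  set Z := OddLocal44.centerPuig (P : Subgroup G) with hZ
  obtain ⟨L, hL, hNL⟩ := BGSigma.exists_coatom_ge hG (BGSigma.normalizer_ne_top hG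
    (centerPuig_ne_bot P.isPGroup' hne)
    (ne_top_of_isPGroup hG (P.isPGroup'.to_le (centerPuig_le _))))
  have hPL : (P : Subgroup G) ≤ L :=
    (OddLocal44.le_normalizer_centerPuig Subgroup.le_normalizer).trans hNL
  have hP := isSylowIn_of_sylow P hPL
  set T₀ := (P : Subgroup G) ⊓ oppP p L with hT₀
  have hPT : (P : Subgroup G) ≤ Subgroup.normalizer (T₀ : Set G) :=
    Coprime.le_normalizer_inf Subgroup.le_normalizer (hPL.trans (le_normalizer_oppP p L))
  refine ⟨T₀, inf_le_left, hPT, fun x hx => ?_, fun A hAP hAc hAn =>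
    le_inf hAP (abelian_normal_le_oppP (BGSigma.coatom_isSolvable hG hL) (odd_card_subgroup hG L)
      hP hAP hAc hAn)⟩
  exact Subgroup.commutator_mono inf_le_right inf_le_right
    (mem_commutator_of_sup (opp_le p L)
      (inf_le_left : L ⊓ Subgroup.normalizer (T₀ : Set G) ≤ L) (le_normalizer_opp p L)
      (frattini_oppP hP) (Subgroup.mem_inf.mpr ⟨hPL hx, hPT hx⟩)
      (Subgroup.commutator_mono hNL hNL (sylow_le_commutator_normalizer_centerPuig hG P hx))
      (coprime_orderOf_of_isPGroup P.isPGroup' hx (opp_coprime p L)))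

end Cfsg.Agent.BGUniq
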