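import Cfsg.Agent.BGUniq.Uniqueness
import Cfsg.Agent.H40.PGroupBasic
import Cfsg.Agent.Lib.PGroup.Commutator
import Cfsg.Agent.Lib.PGroup.NormalRankTwo
import Cfsg.Agent.Lib.Coprime.Hall

/-!
Facts on `p`-groups used in the uniqueness theorem: a characteristic noncyclic subgroup of prime
exponent, maximal elementary subgroups, and noncyclic fixed points of elementary groups of order
at least `p³`.
-/

set_option autoImplicit false

namespace Cfsg.Agent.BGUniq

open Cfsg
open scoped commutatorElement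

theorem omega_center_two_noncyclic {R : Type*} [Group R] [Finite R] {s : ℕ} [hs : Fact s.Prime]
    (hR : IsPGroup s R) (hs2 : s ≠ 2) (hnc : ¬ IsCyclic R) :
    ∃ V : Subgroup R, V.Characteristic ∧ (∀ v ∈ V, v ^ s = 1) ∧ ¬ IsCyclic V := by
  set Z₂ := Subgroup.upperCentralSeries R 2 with hZ₂
  have hcen : ∀ x ∈ Z₂, ∀ g : R, ⁅x, g⁆ ∈ Subgroup.center R := fun x hx g => by
    rw [← Subgroup.upperCentralSeries_one]
    exact Subgroup.mem_upperCentralSeries_succ_iff.1 hx g
  have hZ2c : commutator ↥Z₂ ≤ Subgroup.center ↥Z₂ := by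
    rw [commutator_def, Subgroup.commutator_le]
    intro a _ b _
    rw [Subgroup.mem_center_iff]
    intro c
    exact Subtype.ext (Subgroup.mem_center_iff.1 (hcen a a.2 b) c)
  let W : Subgroup R :=
    { carrier := {x : R | x ∈ Z₂ ∧ x ^ s = 1}
      one_mem' := ⟨Z₂.one_mem, one_pow s⟩
      mul_mem' := fun {a b} ha hb => ⟨Z₂.mul_mem ha.1 hb.1, congrArg Subtype.val
        (PGroup.pow_eq_one_mul_classTwo hZ2c hs.out hs2 (a := ⟨a, ha.1⟩) (b := ⟨b, hb.1⟩)
          (Subtype.ext ha.2) (Subtype.ext hb.2))⟩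
      inv_mem' := fun {a} ha => ⟨Z₂.inv_mem ha.1, by rw [inv_pow, ha.2, inv_one]⟩ }
  refine ⟨W, ?_, fun v hv => hv.2, fun hcyc => ?_⟩
  · rw [Subgroup.characteristic_iff_map_le]
    rintro φ _ ⟨x, hx, rfl⟩
    refine ⟨?_, by
      show (φ x) ^ s = 1
      rw [← map_pow, hx.2, map_one]⟩
    have h := (Subgroup.characteristic_iff_map_eq.mp
      (inferInstance : (Subgroup.upperCentralSeries R 2).Characteristic)) φ
    exact h.le ⟨x, hx.1, rfl⟩
  obtain ⟨U, hUn, hUc, hUp, hU2⟩ := PGroup.exists_normal_elementary_sq hR hs2 hnc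
  obtain ⟨L, hLU, hLn, hLc⟩ := PGroup.exists_normal_le_card hR U 1 hU2 (by norm_num)
  have hUW : U ≤ W := by
    intro x hx
    refine ⟨?_, hUp x hx⟩
    rw [hZ₂, Subgroup.mem_upperCentralSeries_succ_iff]
    intro g
    rw [Subgroup.upperCentralSeries_one]
    haveI := hUn; haveI := hLn
    have h1 : g * x * g⁻¹ * x⁻¹ ∈ L := H40.commutator_mem_of_card_eq_mul hR L U hLU
      (by rw [hU2, hLc]; ring) hx g
    have h2 : L ≤ Subgroup.center R := PGroup.le_center_of_card_eq_prime hR (by rw [hLc, pow_one])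
    have h3 : ⁅x, g⁆ = (g * x * g⁻¹ * x⁻¹)⁻¹ := by rw [commutatorElement_def]; group
    rw [h3]
    exact (Subgroup.center R).inv_mem (h2 h1)
  exact not_isCyclic_of_card_ge (p := s) (E := U) ⟨hUc, hUp⟩ hU2.ge
    (Subgroup.isCyclic_of_le hUW)

variable {G : Type*} [Group G] [Finite G] {s : ℕ} [hs : Fact s.Prime]

theorem exists_exponent_noncyclic {Q : Subgroup G} (hQ : IsPGroup s Q) (hs2 : s ≠ 2)
    (hnc : ¬ IsCyclic Q) :
    ∃ V : Subgroup G, V ≤ Q ∧ (∀ v ∈ V, v ^ s = 1) ∧ ¬ IsCyclic V ∧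
      Subgroup.normalizer (Q : Set G) ≤ Subgroup.normalizer (V : Set G) := by
  obtain ⟨V, hV, hexp, hVnc⟩ := omega_center_two_noncyclic hQ hs2 hnc
  haveI := hV
  refine ⟨V.map Q.subtype, Subgroup.map_subtype_le _, ?_, fun h => hVnc ?_,
    Coprime.normalizer_le_normalizer_map Q V⟩
  · rintro _ ⟨v, hv, rfl⟩
    rw [← map_pow, hexp v hv, map_one]
  · exact (V.equivMapOfInjective _ Q.subtype_injective).isCyclic.mpr h

theorem card_eq_of_isCyclic_exponent {C : Subgroup G} (hC : IsCyclic C)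
    (hexp : ∀ c ∈ C, c ^ s = 1) (hne : C ≠ ⊥) : Nat.card C = s := by
  haveI := hC
  obtain ⟨g, hg⟩ := IsCyclic.exists_generator (α := C)
  rw [← orderOf_eq_card_of_forall_mem_zpowers hg]
  refine orderOf_eq_prime (Subtype.ext (hexp g g.2)) fun h => hne ?_
  rw [Subgroup.eq_bot_iff_forall]
  intro x hx
  obtain ⟨i, hi⟩ := Subgroup.mem_zpowers_iff.mp (hg ⟨x, hx⟩)
  rw [h, one_zpow] at hi
  exact (congrArg Subtype.val hi).symm

/-- An elementary group of order at least `p³` normalizing a noncyclic `s`-group (`s ≠ p`) has a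
nonidentity element with noncyclic fixed points. -/
theorem exists_noncyclic_fixed {p : ℕ} [hp : Fact p.Prime] (hsp : s ≠ p) (hs2 : s ≠ 2)
    {E Q : Subgroup G} (hE : IsElementaryAbelian p E) (hEc : p ^ 3 ≤ Nat.card E)
    (hQ : IsPGroup s Q) (hnc : ¬ IsCyclic Q) (hEQ : E ≤ Subgroup.normalizer (Q : Set G)) :
    ∃ a ∈ E, a ≠ 1 ∧ ¬ IsCyclic ↥(Q ⊓ Subgroup.centralizer ({a} : Set G)) := by
  by_contra hall
  push Not at hall
  obtain ⟨V, hVQ, hexp, hVnc, hNV⟩ := exists_exponent_noncyclic hQ hs2 hnc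
  have hEV : E ≤ Subgroup.normalizer (V : Set G) := hEQ.trans hNV
  have hEcomm : ∀ {F : Subgroup G}, F ≤ E → IsMulCommutative F := fun hF =>
    ⟨⟨fun a b => by
      have := congrArg Subtype.val (hE.1.is_comm.comm (⟨a, hF a.2⟩ : E) ⟨b, hF b.2⟩)
      exact Subtype.ext this⟩⟩
  have hcop : ∀ {F X : Subgroup G}, F ≤ E → X ≤ Q → (Nat.card F).Coprime (Nat.card X) := by
    intro F X hF hX
    obtain ⟨n, hn⟩ := ((isPGroup_of_elementary hE).to_le hF).exists_card_eq
    obtain ⟨m, hm⟩ := (hQ.to_le hX).exists_card_eq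
    rw [hn, hm]
    exact Nat.Coprime.pow n m ((Nat.coprime_primes hp.out hs.out).mpr hsp.symm)
  have hV0 : V ≠ ⊥ := fun h => hVnc (h ▸ (inferInstance : IsCyclic (⊥ : Subgroup G)))
  have hEnc : ¬ IsCyclic E := not_isCyclic_of_card_ge hE
    ((Nat.pow_le_pow_right hp.out.pos (by norm_num)).trans hEc)
  obtain ⟨e, he, he1, heV⟩ :=
    exists_fixed_ne_bot hE.1 hEnc hEV (hcop le_rfl hVQ) hV0
  set C := V ⊓ Subgroup.centralizer ({e} : Set G) with hC
  have hEC : E ≤ Subgroup.normalizer (C : Set G) := by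
    refine Coprime.le_normalizer_inf hEV (le_trans ?_ Subgroup.le_normalizer)
    intro a ha
    exact Subgroup.mem_centralizer_singleton_iff.mpr
      (congrArg Subtype.val (hE.1.is_comm.comm (⟨a, ha⟩ : E) ⟨e, he⟩))
  obtain ⟨g, hg, g', hg', hg1, hgg', heF⟩ := exists_pair_avoiding hE hEc he he1
  have hFE : Subgroup.zpowers g ⊔ Subgroup.zpowers g' ≤ E :=
    sup_le (Subgroup.zpowers_le.mpr hg) (Subgroup.zpowers_le.mpr hg')
  obtain ⟨f, hf, hf1, hfC⟩ := exists_fixed_ne_bot (hEcomm hFE)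
    (not_isCyclic_pair hE hg hg1 hg' hgg') (hFE.trans hEC)
    (hcop hFE (inf_le_left.trans hVQ)) heV
  have hef : f ∉ Subgroup.zpowers e := by
    intro h
    apply heF
    have : Subgroup.zpowers f = Subgroup.zpowers e := by
      refine Subgroup.eq_of_le_of_card_ge (Subgroup.zpowers_le.mpr h) ?_
      rw [Nat.card_zpowers, Nat.card_zpowers, orderOf_eq_of_elementary hE he he1,
        orderOf_eq_of_elementary hE (hFE hf) hf1]
    exact Subgroup.zpowers_le.mpr hf (this.symm ▸ Subgroup.mem_zpowers e)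
  set B := Subgroup.zpowers e ⊔ Subgroup.zpowers f with hB
  have hBE : B ≤ E := sup_le (Subgroup.zpowers_le.mpr he) (Subgroup.zpowers_le.mpr (hFE hf))
  set D := C ⊓ Subgroup.centralizer ({f} : Set G) with hD
  have hDc : ∀ b ∈ B, D ≤ Subgroup.centralizer ({b} : Set G) := by
    intro b hb y hy
    have hBy : B ≤ Subgroup.centralizer ({y} : Set G) := by
      refine sup_le ?_ ?_
      · rw [Subgroup.zpowers_le, Subgroup.mem_centralizer_singleton_iff]
        exact (Subgroup.mem_centralizer_singleton_iff.mp hy.1.2).symm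
      · rw [Subgroup.zpowers_le, Subgroup.mem_centralizer_singleton_iff]
        exact (Subgroup.mem_centralizer_singleton_iff.mp hy.2).symm
    exact Subgroup.mem_centralizer_singleton_iff.mpr
      (Subgroup.mem_centralizer_singleton_iff.mp (hBy hb)).symm
  have hBnc : ¬ IsCyclic B := not_isCyclic_pair hE he he1 (hFE hf) hef
  haveI := hEcomm hBE
  have hle : V ≤ D := by
    refine Coprime.le_of_centralizer_le B V D hBnc (hBE.trans hEV) (hcop hBE hVQ) fun b hb hb1 => ?_
    haveI := hall b (hBE hb) hb1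
    have hcyc : IsCyclic ↥(V ⊓ Subgroup.centralizer ({b} : Set G)) :=
      Subgroup.isCyclic_of_le (inf_le_inf_right _ hVQ)
    have hDb : D ≤ V ⊓ Subgroup.centralizer ({b} : Set G) :=
      le_inf (inf_le_left.trans inf_le_left) (hDc b hb)
    haveI := hcyc
    refine (Subgroup.eq_of_le_of_card_ge hDb ?_).ge
    rw [card_eq_of_isCyclic_exponent hcyc (fun c hc => hexp c hc.1)
        (fun h => hfC (le_bot_iff.mp (h ▸ hDb))),
      card_eq_of_isCyclic_exponent (Subgroup.isCyclic_of_le hDb)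
        (fun c hc => hexp c hc.1.1) hfC]
  refine hVnc ?_
  haveI := hall e he he1
  exact Subgroup.isCyclic_of_le (hle.trans (inf_le_left.trans (inf_le_inf_right _ hVQ)))

/-- In a group of rank at least three every elementary subgroup lies in a maximal one of order at
least `s²`. -/
theorem exists_maximal_elementary {Q W : Subgroup G} (hQ : IsPGroup s Q)
    (hr : ¬ PRankLE s 2 Q) (hWQ : W ≤ Q) (hW : IsElementaryAbelian s W) :
    ∃ E : Subgroup G, W ≤ E ∧ E ≤ Q ∧ IsElementaryAbelian s E ∧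
      (∀ B : Subgroup G, B ≤ Q → IsElementaryAbelian s B → E ≤ B → B = E) ∧
      s ^ 2 ≤ Nat.card E := by
  obtain ⟨E, hWE, hmax⟩ :=
    (Set.toFinite {E : Subgroup G | E ≤ Q ∧ IsElementaryAbelian s E}).exists_le_maximal
      (show W ∈ {E : Subgroup G | E ≤ Q ∧ IsElementaryAbelian s E} from ⟨hWQ, hW⟩)
  have hEQ : E ≤ Q := hmax.1.1
  have hE : IsElementaryAbelian s E := hmax.1.2
  have hmax' : ∀ B : Subgroup G, B ≤ Q → IsElementaryAbelian s B → E ≤ B → B = E :=
    fun B hB1 hB2 hle => le_antisymm (hmax.2 ⟨hB1, hB2⟩ hle) hle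
  refine ⟨E, hWE, hEQ, hE, hmax', ?_⟩
  -- an element of order `s` of `Q` commuting with `E` lies in `E`
  have habs : ∀ x ∈ Q, x ^ s = 1 → (∀ e ∈ E, e * x = x * e) → x ∈ E := by
    intro x hx hxs hxe
    have hcomm : ∀ a ∈ insert x (E : Set G), ∀ b ∈ insert x (E : Set G), a * b = b * a := by
      rintro a (rfl | ha) b (rfl | hb)
      · rfl
      · exact (hxe b hb).symm
      · exact hxe a ha
      · exact congrArg Subtype.val (hE.1.is_comm.comm (⟨a, ha⟩ : E) ⟨b, hb⟩)
    set B := Subgroup.closure (insert x (E : Set G)) with hB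
    haveI hBc : IsMulCommutative B := Subgroup.isMulCommutative_closure hcomm
    have hBexp : ∀ b ∈ B, b ^ s = 1 := by
      intro b hb
      induction hb using Subgroup.closure_induction with
      | mem a ha =>
        rcases ha with rfl | ha
        · exact hxs
        · exact hE.2 a ha
      | one => exact one_pow s
      | mul a b ha hb iha ihb =>
        have hab : Commute a b := congrArg Subtype.val (hBc.is_comm.comm (⟨a, ha⟩ : B) ⟨b, hb⟩)
        rw [hab.mul_pow, iha, ihb, one_mul]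
      | inv a _ iha => rw [inv_pow, iha, inv_one]
    have hBQ : B ≤ Q := (Subgroup.closure_le Q).mpr (Set.insert_subset hx hEQ)
    rw [← hmax' B hBQ ⟨hBc, hBexp⟩
      fun e he => Subgroup.subset_closure (Set.mem_insert_of_mem _ he)]
    exact Subgroup.subset_closure (Set.mem_insert _ _)
  obtain ⟨E₃, hE₃Q, hE₃, hE₃c⟩ := exists_elementary_of_not_pRankLE hr
  haveI : Nontrivial Q := (Subgroup.nontrivial_iff_ne_bot Q).mpr fun h => by
    rw [le_bot_iff.mp (hE₃Q.trans h.le), Subgroup.card_bot] at hE₃c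
    exact absurd hE₃c (not_le.mpr (Nat.one_lt_pow (by norm_num) hs.out.one_lt))
  obtain ⟨z, -, hzc, hzo⟩ := H40.exists_central_orderOf_eq hQ ⊤ top_ne_bot
  have hzE : (z : G) ∈ E := habs z z.2 (by
    rw [← Subgroup.coe_pow, ← hzo, pow_orderOf_eq_one, Subgroup.coe_one]) fun e he =>
      congrArg Subtype.val (Subgroup.mem_center_iff.mp hzc ⟨e, hEQ he⟩)
  obtain ⟨n, hn⟩ := (isPGroup_of_elementary hE).exists_card_eq
  rw [hn]
  refine Nat.pow_le_pow_right hs.out.pos ?_
  by_contra hlt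
  have hEz : Subgroup.zpowers (z : G) = E := by
    refine Subgroup.eq_of_le_of_card_ge (Subgroup.zpowers_le.mpr hzE) ?_
    rw [hn, Nat.card_zpowers, Subgroup.orderOf_coe, hzo]
    exact (Nat.pow_le_pow_right hs.out.pos (show n ≤ 1 by omega)).trans (pow_one s).le
  have hle : E₃ ≤ E := fun x hx => habs x (hE₃Q hx) (hE₃.2 x hx) fun e he => by
    rw [← hEz] at he
    obtain ⟨i, rfl⟩ := Subgroup.mem_zpowers_iff.mp he
    refine (Commute.zpow_left ?_ i).eq
    exact (congrArg Subtype.val (Subgroup.mem_center_iff.mp hzc ⟨x, hE₃Q hx⟩) :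
      x * (z : G) = z * x).symm
  have := hE₃c.trans (Subgroup.card_le_of_le hle)
  rw [hn] at this
  have h3 := (Nat.pow_le_pow_iff_right hs.out.one_lt).mp this
  omega

end Cfsg.Agent.BGUniq
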