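import Cfsg.Agent.BGUniq.FittingHall
import Cfsg.Agent.BGUniq.FittingUniqP
import Cfsg.Agent.BGUniq.Focal
import Cfsg.Agent.BGUniq.PGroupFacts
import Cfsg.Agent.OddLocal43.RankTwo
import Cfsg.Agent.S1451
import Cfsg.Agent.S1453

/-!
Self-centralizing normal subgroups of rank three of Sylow subgroups are uniqueness subgroups, and
the uniqueness theorem.
-/

set_option autoImplicit false

namespace Cfsg.Agent.BGUniq

open Cfsg
open scoped commutatorElement

variable {G : Type*} [Group G] [Finite G] {p : ℕ} [hp : Fact p.Prime]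

omit hp in
theorem not_pRankLE_mono {s k : ℕ} [Fact s.Prime] {X Y : Subgroup G} (h : X ≤ Y)
    (hX : ¬ PRankLE s k X) : ¬ PRankLE s k Y := by
  obtain ⟨E, hEX, hE, hEc⟩ := exists_elementary_of_not_pRankLE hX
  exact not_pRankLE_of_elementary (hEX.trans h) hE hEc

omit hp in
theorem not_pRankLE_of_le_map_conj {s k : ℕ} [Fact s.Prime] {X Y : Subgroup G} {g : G}
    (h : X ≤ Y.map (MulAut.conj g).toMonoidHom) (hX : ¬ PRankLE s k X) : ¬ PRankLE s k Y := by
  obtain ⟨E, hEX, hE, hEc⟩ := exists_elementary_of_not_pRankLE hX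
  refine not_pRankLE_of_elementary (E := E.map (MulAut.conj g⁻¹).toMonoidHom) ?_ ⟨?_, ?_⟩ ?_
  · refine (Subgroup.map_mono (hEX.trans h)).trans ?_
    rw [map_conj_inv]
  · haveI := hE.1
    exact Subgroup.map_isMulCommutative E _
  · rintro _ ⟨e, he, rfl⟩
    rw [← map_pow, hE.2 e he, map_one]
  · rwa [Subgroup.card_map_of_injective (MulAut.conj g⁻¹).injective]

/-- `O_{t'}` absorbs the `t'`-subgroups of the derived group in rank two. -/
theorem le_opp_of_commutator_rank_two {t : ℕ} [Fact t.Prime] {X Y : Subgroup G}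
    (hX : Group.IsSolvable X) (hodd : Odd (Nat.card X)) (ht : t ∣ Nat.card X)
    (hr : PRankLE t 2 X) (hY : Y ≤ ⁅X, X⁆) (hYc : (Nat.card Y).Coprime t) : Y ≤ opp t X := by
  haveI := hX
  obtain ⟨-, -, -, h4, -, -⟩ := S1450.result hodd t ht hr
  have hYX : Y ≤ X := hY.trans (Subgroup.commutator_le_self X)
  refine (le_map_subtype_iff hYX).mpr ?_
  have hYC : Y.subgroupOf X ≤ commutator X := by
    intro y hy
    have h1 := hY hy
    rw [← Subgroup.map_subtype_commutator] at h1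
    obtain ⟨z, hz, hzy⟩ := h1
    rwa [← Subtype.ext hzy]
  have h5 := Subgroup.map_mono (f := (commutator X).subtype)
    (h4 ((Y.subgroupOf X).subgroupOf (commutator X))
      ((card_subgroupOf_coprime X hYc).coprime_dvd_left
        (Subgroup.card_comap_dvd_of_injective _ _ (commutator X).subtype_injective)))
  rw [Subgroup.map_subgroupOf_eq_of_le hYC] at h5
  exact h5.trans (Thompson.map_pPrimeCore_normal_le _)

/-- An `s`-element of `D ⊔ A`, with `D` normalized by `A` and `|A|` prime to `s`, lies in `D`. -/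
theorem mem_of_mem_sup_of_coprime {D A : Subgroup G} (hA : A ≤ Subgroup.normalizer (D : Set G))
    {x : G} (hx : x ∈ D ⊔ A) (hcop : (orderOf x).Coprime (Nat.card A)) : x ∈ D := by
  haveI : (D.subgroupOf (D ⊔ A)).Normal :=
    (Subgroup.normal_subgroupOf_iff_le_normalizer le_sup_left).mpr
      (sup_le Subgroup.le_normalizer hA)
  have hidx : (D.subgroupOf (D ⊔ A)).index ∣ Nat.card A := by
    have h := Thompson.card_sup_mul_card_inf hA
    have h2 := Subgroup.card_mul_index (D.subgroupOf (D ⊔ A))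
    rw [Nat.card_congr (Subgroup.subgroupOfEquivOfLe le_sup_left).toEquiv] at h2
    refine Nat.dvd_of_mul_dvd_mul_left (Nat.card_pos (α := D)) ?_
    rw [h2, ← h]
    exact dvd_mul_right _ _
  have h1 : x ^ (D.subgroupOf (D ⊔ A)).index ∈ D :=
    Subgroup.pow_index_mem (D.subgroupOf (D ⊔ A)) ⟨x, hx⟩
  exact mem_of_pow_mem_of_coprime (n := orderOf x) (by rw [pow_orderOf_eq_one]; exact one_mem D)
    h1 (hcop.coprime_dvd_right hidx)

/-- The data `(s, M, Q)`: a prime `s ≠ p` for which rank three gives uniqueness, a maximal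
`P`-invariant `s`-subgroup `Q` of rank three, and the maximal subgroup containing it. -/
structure IsSpecial (P : Sylow p G) (s : ℕ) (M Q : Subgroup G) : Prop where
  prime : s.Prime
  ne : s ≠ p
  uniq : ∀ X : Subgroup G, X ≠ ⊤ → ¬ PRankLE s 2 X → InUniqueMaximal X
  mem : Q ∈ maxInvSubgroups ⊤ (P : Subgroup G) {s}
  big : ¬ PRankLE s 2 Q
  coatom : IsCoatom M
  le : Q ≤ M

section SCNThree

variable (hG : IsMinSimpleOddOrder G) (P : Sylow p G) {A : Subgroup G}
  (hA : IsSCN (P : Subgroup G) A) (hA3 : ¬ PRankLE p 2 A) (hnU : ¬ InUniqueMaximal A)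
  {T₀ : Subgroup G} (hT₀ : T₀ ≤ (P : Subgroup G)) (hAT : A ≤ T₀)
  (hPT : (P : Subgroup G) ≤ Subgroup.normalizer (T₀ : Set G))
  (hPT' : (P : Subgroup G) ≤
    ⁅Subgroup.normalizer (T₀ : Set G), Subgroup.normalizer (T₀ : Set G)⁆)

include hG hA hA3

omit hG in
theorem scn_three_ne_bot : A ≠ ⊥ := fun h => by
  obtain ⟨E, hEA, -, hEc⟩ := exists_elementary_of_not_pRankLE hA3
  rw [le_bot_iff.mp (hEA.trans h.le), Subgroup.card_bot] at hEc
  exact absurd hEc (not_le.mpr (Nat.one_lt_pow (by norm_num) hp.out.one_lt))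

omit hG in
theorem scn_three_not_rankLE_one : ¬ PRankLE p 1 A := by
  obtain ⟨E, hEA, hE, hEc⟩ := exists_elementary_of_not_pRankLE hA3
  exact not_pRankLE_of_elementary hEA hE ((Nat.pow_le_pow_right hp.out.pos (by norm_num)).trans hEc)

theorem scn_three_TH : TransitivityHypothesis A :=
  S1396.result hG p
    (dvd_card_of_ne_bot hG (P.isPGroup'.to_le hA.1) (scn_three_ne_bot P hA hA3)) A
    (P.isPGroup'.to_le hA.1) (isMulCommutative_of_isSCN hA)
    (Or.inr ⟨P, hA, scn_three_not_rankLE_one P hA hA3⟩)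

omit hG in
theorem scn_three_dvd : p ∣ Nat.card A := by
  obtain ⟨n, hn⟩ := (P.isPGroup'.to_le hA.1).exists_card_eq
  rw [hn]
  exact dvd_pow_self p fun h0 => scn_three_ne_bot P hA hA3
    (Subgroup.eq_bot_of_card_eq _ (by rw [hn, h0, pow_zero]))

omit hG hA3 in
theorem not_dvd_scn {s : ℕ} (hs : s.Prime) (hsp : s ≠ p) : ¬ s ∣ Nat.card A := fun h => hsp (by
  obtain ⟨n, hn⟩ := (P.isPGroup'.to_le hA.1).exists_card_eq
  rw [hn] at h
  exact (Nat.prime_dvd_prime_iff_eq hs hp.out).mp (hs.dvd_of_dvd_pow h))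

include hT₀ hAT hPT hPT'

/-- Transfer and transitivity data of a maximal `P`-invariant `s`-subgroup. -/
theorem transfer_data {s : ℕ} [hs : Fact s.Prime] (hsp : s ≠ p) {Q : Subgroup G}
    (hQ : Q ∈ maxInvSubgroups ⊤ (P : Subgroup G) {s}) :
    (P : Subgroup G) ≤ ⁅Subgroup.normalizer (T₀ : Set G) ⊓ Subgroup.normalizer (Q : Set G),
        Subgroup.normalizer (T₀ : Set G) ⊓ Subgroup.normalizer (Q : Set G)⁆ ∧
      Subgroup.normalizer (T₀ : Set G) ≤
        coreK A ⊔ (Subgroup.normalizer (T₀ : Set G) ⊓ Subgroup.normalizer (Q : Set G)) ∧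
      ∀ S : Subgroup G, IsPGroup s S → A ≤ Subgroup.normalizer (S : Set G) →
        ∃ k ∈ coreK A, S ≤ Q.map (MulAut.conj k).toMonoidHom := by
  have hTH := scn_three_TH hG P hA hA3
  have hsA := not_dvd_scn P hA hs.out hsp
  have hpA := scn_three_dvd P hA hA3
  have hZ : ¬ RankLE 2 ↥(A ⊓ Subgroup.centralizer (A : Set G)) := by
    rw [inf_eq_left.mpr (le_centralizer_of_isSCN hA)]
    exact fun h => hA3 (h p hp.out)
  have htr := transitive_of_center_rank_three hG hTH hsA hZ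
  have hπ : ∀ {T : Subgroup G}, T ≤ (P : Subgroup G) →
      ∀ r : ℕ, r.Prime → r ∣ Nat.card T → r ∣ Nat.card A := by
    intro T hT r hr hd
    obtain ⟨n, hn⟩ := (P.isPGroup'.to_le hT).exists_card_eq
    rw [hn] at hd
    rwa [(Nat.prime_dvd_prime_iff_eq hr hp.out).mp (hr.dvd_of_dvd_pow hd)]
  obtain ⟨hsubP, -⟩ := transitive_of_subnormal hG hTH hsA (P := (P : Subgroup G)) (hπ le_rfl)
    hA.1 ((Subgroup.normal_subgroupOf_iff_le_normalizer hA.1).mpr hA.2.1).isSubnormal htr
  obtain ⟨-, htrT⟩ := transitive_of_subnormal hG hTH hsA (P := T₀) (hπ hT₀) hAT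
    ((Subgroup.normal_subgroupOf_iff_le_normalizer hAT).mpr (hT₀.trans hA.2.1)).isSubnormal htr
  rw [coreK_inf_centralizer hG hTH hAT] at htrT
  have hQA := hsubP hQ
  have hQT : Q ∈ maxInvSubgroups ⊤ T₀ {s} :=
    ⟨⟨le_top, hQ.1.2.1, hT₀.trans hQ.1.2.2⟩,
      fun R hR hle => hQA.2 R ⟨le_top, hR.2.1, hAT.trans hR.2.2⟩ hle⟩
  obtain ⟨-, heq⟩ := normalizer_eq_sup_of_transitive hG hTH hsA (hπ hT₀) htrT hQT
  set K := piCoreOf (primesNotDvd (Nat.card A)) (Subgroup.centralizer (T₀ : Set G)) with hK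
  refine ⟨fun x hx => ?_, ?_, fun S hS hAS => ?_⟩
  · refine mem_commutator_of_sup (K := K)
      ((BGSigma.piCoreOf_le _).trans (Subgroup.centralizer_le_normalizer _)) inf_le_left
      ((Coprime.le_normalizer_centralizer le_rfl).trans (BGSigma.piCoreOf_normalized _))
      heq.le (Subgroup.mem_inf.mpr ⟨hPT hx, hQ.1.2.2 hx⟩) (hPT' hx) ?_
    exact coprime_orderOf_of_isPGroup P.isPGroup' hx
      (coprime_of_isPiSub_of_dvd hp.out hpA (BGSigma.isPiSub_piCoreOf _))
  · refine heq.le.trans (sup_le_sup_right ?_ _)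
    rw [hK, ← coreK_inf_centralizer hG hTH hAT]
    exact inf_le_left
  · obtain ⟨R, hR, hSR⟩ := exists_max_ge (A := A) (π := {s}) (Y := S)
      ⟨le_top, isPiSub_of_isPGroup (Set.mem_singleton s) hS, hAS⟩
    obtain ⟨k, hk, rfl⟩ := htr Q hQA R hR
    exact ⟨k, hk, hSR⟩

omit hAT hPT hPT' in
theorem normalizer_T₀_ne_top (hAT : A ≤ T₀) : Subgroup.normalizer (T₀ : Set G) ≠ ⊤ :=
  BGSigma.normalizer_ne_top hG
    (fun h => scn_three_ne_bot P hA hA3 (le_bot_iff.mp (hAT.trans h.le)))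
    (ne_top_of_isPGroup hG (P.isPGroup'.to_le hT₀))

/-- A group of rank at most two normalized by the transfer group is centralized by `P`. -/
theorem le_centralizer_of_rank_two {s : ℕ} [hs : Fact s.Prime] (hsp : s ≠ p) {Q Y : Subgroup G}
    (hQ : Q ∈ maxInvSubgroups ⊤ (P : Subgroup G) {s}) (hY : IsPGroup s Y)
    (hr : PRankLE s 2 Y)
    (hUY : Subgroup.normalizer (T₀ : Set G) ⊓ Subgroup.normalizer (Q : Set G) ≤
      Subgroup.normalizer (Y : Set G)) :
    Y ≤ Subgroup.centralizer ((P : Subgroup G) : Set G) := by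
  rcases eq_or_ne Y ⊥ with rfl | hY0
  · exact bot_le
  obtain ⟨hPU, -, -⟩ := transfer_data hG P hA hA3 hT₀ hAT hPT hPT' hsp hQ
  refine Subgroup.le_centralizer_iff.mp fun x hx => ?_
  have hs2 : s ≠ 2 := prime_ne_two hG (dvd_card_of_ne_bot hG hY hY0)
  refine OddLocal43.commutator_coprime_le_centralizer hs2 hY hr hUY
    (Coprime.solvable_of_le inf_le_left (BGSigma.isSolvable_of_ne_top hG
      (normalizer_T₀_ne_top hG P hA hA3 hT₀ hAT)))
    (odd_card_subgroup hG _) (hPU hx) ?_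
  exact coprime_orderOf_of_isPGroup P.isPGroup' hx ((Nat.coprime_primes hs.out hp.out).mpr hsp)

/-- A small maximal invariant subgroup lies in `O_{p'}(C(A))`. -/
theorem small_le_coreK {s : ℕ} [hs : Fact s.Prime] (hsp : s ≠ p) {Q : Subgroup G}
    (hQ : Q ∈ maxInvSubgroups ⊤ (P : Subgroup G) {s}) (hr : PRankLE s 2 Q) : Q ≤ coreK A := by
  have hQs := isPGroup_of_isPiSub_singleton hQ.1.2.1
  exact le_coreK hG (scn_three_TH hG P hA hA3)
    ((le_centralizer_of_rank_two hG P hA hA3 hT₀ hAT hPT hPT' hsp hQ hQs hr inf_le_right).trans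
      (Subgroup.centralizer_le hA.1))
    (isPiSub_of_isPGroup (π := primesNotDvd (Nat.card A)) ⟨hs.out, not_dvd_scn P hA hs.out hsp⟩ hQs)

include hnU

theorem special_elementary_card {s : ℕ} {M Q : Subgroup G} (hS : IsSpecial P s M Q)
    {W : Subgroup G} (hWQ : W ≤ Q) (hW : IsElementaryAbelian s W) :
    ∃ E : Subgroup G, W ≤ E ∧ E ≤ Q ∧ IsElementaryAbelian s E ∧ s ^ 3 ≤ Nat.card E := by
  haveI := Fact.mk hS.prime
  have hQs := isPGroup_of_isPiSub_singleton hS.mem.1.2.1
  have hQ0 : Q ≠ ⊥ := fun h => by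
    obtain ⟨E, hEQ, -, hEc⟩ := exists_elementary_of_not_pRankLE hS.big
    rw [le_bot_iff.mp (hEQ.trans h.le), Subgroup.card_bot] at hEc
    exact absurd hEc (not_le.mpr (Nat.one_lt_pow (by norm_num) hS.prime.one_lt))
  have hs2 : s ≠ 2 := prime_ne_two hG (dvd_card_of_ne_bot hG hQs hQ0)
  -- no maximal elementary subgroup of `Q` has order `s²`
  have key : ∀ E : Subgroup G, E ≤ Q → IsElementaryAbelian s E →
      (∀ B : Subgroup G, B ≤ Q → IsElementaryAbelian s B → E ≤ B → B = E) →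
      Nat.card E ≠ s ^ 2 := by
    intro E hEQ hE hmax hEc
    have hrQ : ¬ PRankLE s 2 ↥Q := hS.big
    obtain ⟨-, -, ⟨hW2, hW2c⟩, -, -⟩ := S1453.result (R := ↥Q) s hs2 hQs hrQ (E.subgroupOf Q)
      ⟨by haveI := hE.1; exact Subgroup.subgroupOf_isMulCommutative Q E,
        fun a ha => Subtype.ext (hE.2 a ha)⟩
      (by rw [Nat.card_congr (Subgroup.subgroupOfEquivOfLe hEQ).toEquiv, hEc])
      (fun B hB hle => by
        haveI := hB.1
        have h1 := hmax (B.map Q.subtype) (Subgroup.map_subtype_le _)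
          ⟨Subgroup.map_isMulCommutative B _, by
            rintro _ ⟨b, hb, rfl⟩
            rw [← map_pow, hB.2 b hb, map_one]⟩
          (fun e he => ⟨⟨e, hEQ he⟩, hle he, rfl⟩)
        rw [← h1, Subgroup.subgroupOf,
          Subgroup.comap_map_eq_self_of_injective Q.subtype_injective])
    set W₂ := Subgroup.closure {x : Q | x ∈ Subgroup.upperCentralSeries Q 2 ∧ x ^ s = 1} with hW₂
    haveI hchar : W₂.Characteristic := by
      rw [Subgroup.characteristic_iff_map_le]
      intro φ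
      rw [hW₂, MonoidHom.map_closure]
      refine Subgroup.closure_mono ?_
      rintro _ ⟨x, hx, rfl⟩
      refine ⟨?_, by
        show (φ x) ^ s = 1
        rw [← map_pow, hx.2, map_one]⟩
      have h := (Subgroup.characteristic_iff_map_eq.mp
        (inferInstance : (Subgroup.upperCentralSeries Q 2).Characteristic)) φ
      exact h.le ⟨x, hx.1, rfl⟩
    set V := W₂.map Q.subtype with hV
    have hVe : IsElementaryAbelian s V := by
      haveI := hW2.1
      refine ⟨Subgroup.map_isMulCommutative W₂ _, ?_⟩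
      rintro _ ⟨b, hb, rfl⟩
      rw [← map_pow, hW2.2 b hb, map_one]
    have hVc : Nat.card V = s ^ 2 := by
      rw [hV, Subgroup.card_map_of_injective Q.subtype_injective, hW2c]
    have hVr : PRankLE s 2 V := fun F _ _ => hVc ▸ Subgroup.card_le_card_group F
    have hPV := le_centralizer_of_rank_two hG P hA hA3 hT₀ hAT hPT hPT' hS.ne hS.mem
      (hQs.to_le (Subgroup.map_subtype_le _)) hVr
      (inf_le_right.trans (Coprime.normalizer_le_normalizer_map Q W₂))
    obtain ⟨E', hVE', hE'Q, hE', hE'max, hE'c⟩ :=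
      exists_maximal_elementary hQs hS.big (Subgroup.map_subtype_le _) hVe
    -- `E'` has order at least `s³`
    have hE'3 : s ^ 3 ≤ Nat.card E' := by
      obtain ⟨n, hn⟩ := (isPGroup_of_elementary hE').exists_card_eq
      rw [hn] at hE'c ⊢
      refine Nat.pow_le_pow_right hS.prime.pos ?_
      by_contra hlt
      have hn2 : n = 2 := by
        have := (Nat.pow_le_pow_iff_right hS.prime.one_lt).mp hE'c
        omega
      have hE'V : E' = V := (Subgroup.eq_of_le_of_card_ge hVE' (by rw [hn, hn2, hVc])).symm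
      rw [hE'V] at hE'max
      obtain ⟨hnot, -, -, -, -⟩ := S1453.result (R := ↥Q) s hs2 hQs hrQ W₂ hW2 hW2c
        (fun B hB hle => by
          haveI := hB.1
          have h1 := hE'max (B.map Q.subtype) (Subgroup.map_subtype_le _)
            ⟨Subgroup.map_isMulCommutative B _, by
              rintro _ ⟨b, hb, rfl⟩
              rw [← map_pow, hB.2 b hb, map_one]⟩
            (Subgroup.map_mono hle)
          exact Subgroup.map_injective Q.subtype_injective h1)
      exact hnot (Subgroup.le_centralizer_iff_isMulCommutative.mpr hW2.1)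
    have hE'U : InUniqueMaximal E' :=
      hS.uniq E' (ne_top_of_isPGroup hG (isPGroup_of_elementary hE'))
        (not_pRankLE_of_elementary le_rfl hE' hE'3)
    have hVU : InUniqueMaximal V := inU_elementary_of_centralizes hG hE'U hVe hVc.ge
      (hVE'.trans (Subgroup.le_centralizer_iff_isMulCommutative.mpr hE'.1) |>.trans
        (Subgroup.centralizer_le (fun _ h => h)))
    exact hnU (inU_of_centralizes hG hVU (hA.1.trans (Subgroup.le_centralizer_iff.mp hPV))
      fun h => scn_three_not_rankLE_one P hA hA3 (h p hp.out))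
  obtain ⟨E, hWE, hEQ, hE, hmax, hEc⟩ := exists_maximal_elementary hQs hS.big hWQ hW
  refine ⟨E, hWE, hEQ, hE, ?_⟩
  obtain ⟨n, hn⟩ := (isPGroup_of_elementary hE).exists_card_eq
  have hne := key E hEQ hE hmax
  rw [hn] at hEc hne ⊢
  refine Nat.pow_le_pow_right hS.prime.pos ?_
  have h2 := (Nat.pow_le_pow_iff_right hS.prime.one_lt).mp hEc
  rcases h2.eq_or_lt with rfl | h3
  · exact absurd rfl hne
  · omega

theorem special_centralizer_le {s : ℕ} {M Q : Subgroup G} (hS : IsSpecial P s M Q) :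
    Subgroup.normalizer (Q : Set G) ≤ M ∧
      (∀ v ∈ Q, v ≠ 1 → Subgroup.centralizer ({v} : Set G) ≤ M) ∧ coreK A ≤ M := by
  haveI := Fact.mk hS.prime
  have hQs := isPGroup_of_isPiSub_singleton hS.mem.1.2.1
  have hQtop := ne_top_of_isPGroup hG hQs
  have hQU := hS.uniq Q hQtop hS.big
  have hQ0 := inU_ne_bot hG hQU
  have hs2 : s ≠ 2 := prime_ne_two hG (dvd_card_of_ne_bot hG hQs hQ0)
  refine ⟨le_of_inU hQU hS.coatom hS.le (BGSigma.normalizer_ne_top hG hQ0 hQtop)
    Subgroup.le_normalizer, fun v hv hv1 => ?_, ?_⟩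
  · obtain ⟨n, hn⟩ := hQs ⟨v, hv⟩
    have hvn : v ^ s ^ n = 1 := congrArg Subtype.val hn
    obtain ⟨j, -, hj⟩ := (Nat.dvd_prime_pow hS.prime).mp (orderOf_dvd_of_pow_eq_one hvn)
    have hj0 : j ≠ 0 := fun h0 => hv1 (orderOf_eq_one_iff.mp (by rw [hj, h0, pow_zero]))
    set w := v ^ s ^ (j - 1) with hw
    have hwo : orderOf w = s := by
      rw [hw, orderOf_pow' _ (pow_ne_zero _ hS.prime.ne_zero), hj,
        Nat.gcd_eq_right (pow_dvd_pow s (by omega)), Nat.pow_div (by omega) hS.prime.pos,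
        show j - (j - 1) = 1 by omega, pow_one]
    have hWe : IsElementaryAbelian s (Subgroup.zpowers w) := by
      refine ⟨⟨⟨fun a b => ?_⟩⟩, ?_⟩
      · obtain ⟨i, hi⟩ := Subgroup.mem_zpowers_iff.mp a.2
        obtain ⟨k, hk⟩ := Subgroup.mem_zpowers_iff.mp b.2
        refine Subtype.ext ?_
        show (a : G) * b = b * a
        rw [← hi, ← hk]
        exact (Commute.zpow_zpow_self w i k).eq
      · rintro x ⟨i, rfl⟩
        show (w ^ i) ^ s = 1
        rw [← zpow_natCast, ← zpow_mul, mul_comm, zpow_mul, zpow_natCast, ← hwo,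
          pow_orderOf_eq_one, one_zpow]
    obtain ⟨E, hWE, hEQ, hE, hEc⟩ := special_elementary_card hG P hA hA3 hnU hT₀ hAT hPT hPT' hS
      (Subgroup.zpowers_le.mpr (pow_mem hv _)) hWe
    have hw1 : w ≠ 1 := fun h => by
      rw [h, orderOf_one] at hwo
      exact hS.prime.ne_one hwo.symm
    have hEU := hS.uniq E (ne_top_of_isPGroup hG (isPGroup_of_elementary hE))
      (not_pRankLE_of_elementary le_rfl hE hEc)
    refine le_trans (fun c hc => ?_) (le_of_inU hEU hS.coatom (hEQ.trans hS.le)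
      (centralizer_ne_top hG (S := ({w} : Set G)) rfl hw1) fun x hx => Subgroup.mem_centralizer_singleton_iff.mpr ?_)
    · exact Subgroup.mem_centralizer_singleton_iff.mpr
        ((show Commute c v from Subgroup.mem_centralizer_singleton_iff.mp hc).pow_right _).eq
    · exact congrArg Subtype.val
        (hE.1.is_comm.comm (⟨x, hx⟩ : E) ⟨w, hWE (Subgroup.mem_zpowers w)⟩)
  · obtain ⟨E₀, hE₀A, hE₀, hE₀c⟩ := exists_elementary_of_not_pRankLE hA3
    have hQnc : ¬ IsCyclic Q := fun h => by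
      obtain ⟨E, hEQ, hE, hEc⟩ := exists_elementary_of_not_pRankLE hS.big
      exact not_isCyclic_of_card_ge hE
        ((Nat.pow_le_pow_right hS.prime.pos (by norm_num)).trans hEc) (Subgroup.isCyclic_of_le hEQ)
    obtain ⟨a, ha, ha1, hnc⟩ := exists_noncyclic_fixed hS.ne hs2 hE₀ hE₀c hQs hQnc
      ((hE₀A.trans hA.1).trans hS.mem.1.2.2)
    set C := Q ⊓ Subgroup.centralizer ({a} : Set G) with hCdef
    obtain ⟨W, -, hWc, hWp, hW2⟩ :=
      PGroup.exists_normal_elementary_sq (hQs.to_le inf_le_left : IsPGroup s C) hs2 hnc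
    have hW'e : IsElementaryAbelian s (W.map C.subtype) := by
      haveI := hWc
      refine ⟨Subgroup.map_isMulCommutative W _, ?_⟩
      rintro _ ⟨b, hb, rfl⟩
      rw [← map_pow, hWp b hb, map_one]
    obtain ⟨E, hWE, hEQ, hE, hEc⟩ := special_elementary_card hG P hA hA3 hnU hT₀ hAT hPT hPT' hS
      ((Subgroup.map_subtype_le W).trans inf_le_left) hW'e
    have hEU := hS.uniq E (ne_top_of_isPGroup hG (isPGroup_of_elementary hE))
      (not_pRankLE_of_elementary le_rfl hE hEc)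
    have hWU : InUniqueMaximal (W.map C.subtype) := inU_elementary_of_centralizes hG hEU hW'e
      (by rw [Subgroup.card_map_of_injective C.subtype_injective, hW2])
      (hWE.trans (Subgroup.le_centralizer_iff_isMulCommutative.mpr hE.1))
    refine (BGSigma.piCoreOf_le _).trans ((Subgroup.centralizer_le
      (Set.singleton_subset_iff.mpr (hE₀A ha))).trans ?_)
    exact le_of_inU hWU hS.coatom ((hWE.trans hEQ).trans hS.le) (centralizer_ne_top hG (S := ({a} : Set G)) rfl ha1)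
      ((Subgroup.map_subtype_le W).trans inf_le_right)

/-- `N(T₀)` and `P` lie in the maximal subgroup of a special triple. -/
theorem special_normalizer_le {s : ℕ} {M Q : Subgroup G} (hS : IsSpecial P s M Q) :
    Subgroup.normalizer (T₀ : Set G) ≤ M := by
  haveI := Fact.mk hS.prime
  obtain ⟨hN, -, hK⟩ := special_centralizer_le hG P hA hA3 hnU hT₀ hAT hPT hPT' hS
  obtain ⟨-, hle, -⟩ := transfer_data hG P hA hA3 hT₀ hAT hPT hPT' hS.ne hS.mem
  exact hle.trans (sup_le hK (inf_le_right.trans hN))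

/-- Two special triples with different maximal subgroups: the intersections are centralized by
`A`. -/
theorem special_inf_le {s t : ℕ} {M H Q T : Subgroup G} (hS : IsSpecial P s M Q)
    (hT : IsSpecial P t H T) (hne : M ≠ H) : Q ⊓ H ≤ Subgroup.centralizer (A : Set G) := by
  haveI := Fact.mk hS.prime
  have hQs := isPGroup_of_isPiSub_singleton hS.mem.1.2.1
  have hr : PRankLE s 2 ↥(Q ⊓ H) := by
    by_contra h
    exact hne (inU_eq (hS.uniq _ (ne_top_of_isPGroup hG (hQs.to_le inf_le_left)) h) hT.coatom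
      inf_le_right hS.coatom (inf_le_left.trans hS.le))
  refine (le_centralizer_of_rank_two hG P hA hA3 hT₀ hAT hPT hPT' hS.ne hS.mem
    (hQs.to_le inf_le_left) hr ?_).trans (Subgroup.centralizer_le hA.1)
  exact Coprime.le_normalizer_inf inf_le_right (inf_le_left.trans
    ((special_normalizer_le hG P hA hA3 hnU hT₀ hAT hPT hPT' hT).trans Subgroup.le_normalizer))

/-- A plane of `E` fixing something of `Q` outside `C(A)`. -/
theorem special_plane {s : ℕ} {M Q : Subgroup G} (hS : IsSpecial P s M Q) {E : Subgroup G}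
    (hEA : E ≤ A) (hE : IsElementaryAbelian p E) (hEc : p ^ 3 ≤ Nat.card E) :
    ∃ B : Subgroup G, B ≤ E ∧ Nat.card B = p * p ∧
      ∀ b ∈ B, ¬ Q ⊓ Subgroup.centralizer ({b} : Set G) ≤ Subgroup.centralizer (A : Set G) := by
  haveI := Fact.mk hS.prime
  have hQs := isPGroup_of_isPiSub_singleton hS.mem.1.2.1
  have hQA : ¬ Q ≤ Subgroup.centralizer (A : Set G) := fun h => hnU
    (inU_of_centralizes hG (hS.uniq Q (ne_top_of_isPGroup hG hQs) hS.big)
      (Subgroup.le_centralizer_iff.mp h) fun h1 => scn_three_not_rankLE_one P hA hA3 (h1 p hp.out))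
  have hcop : ∀ {F X : Subgroup G}, F ≤ E → X ≤ Q → (Nat.card F).Coprime (Nat.card X) := by
    intro F X hF hX
    obtain ⟨n, hn⟩ := ((isPGroup_of_elementary hE).to_le hF).exists_card_eq
    obtain ⟨m, hm⟩ := (hQs.to_le hX).exists_card_eq
    rw [hn, hm]
    exact Nat.Coprime.pow n m ((Nat.coprime_primes hp.out hS.prime).mpr hS.ne.symm)
  have hEQ : E ≤ Subgroup.normalizer (Q : Set G) := (hEA.trans hA.1).trans hS.mem.1.2.2
  haveI := hE.1
  obtain ⟨e, he, he1, heQ⟩ : ∃ e ∈ E, e ≠ 1 ∧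
      ¬ Q ⊓ Subgroup.centralizer ({e} : Set G) ≤ Subgroup.centralizer (A : Set G) := by
    by_contra h
    push Not at h
    exact hQA (Coprime.le_of_centralizer_le E Q _ (not_isCyclic_of_card_ge hE
      ((Nat.pow_le_pow_right hp.out.pos (by norm_num)).trans hEc)) hEQ (hcop le_rfl le_rfl) h)
  set C := Q ⊓ Subgroup.centralizer ({e} : Set G) with hC
  have hEC : E ≤ Subgroup.normalizer (C : Set G) := by
    refine Coprime.le_normalizer_inf hEQ (le_trans ?_ Subgroup.le_normalizer)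
    intro a ha
    exact Subgroup.mem_centralizer_singleton_iff.mpr
      (congrArg Subtype.val (hE.1.is_comm.comm (⟨a, ha⟩ : E) ⟨e, he⟩))
  obtain ⟨g, hg, g', hg', hg1, hgg', heF⟩ := exists_pair_avoiding hE hEc he he1
  set F := Subgroup.zpowers g ⊔ Subgroup.zpowers g' with hFdef
  have hFE : F ≤ E := sup_le (Subgroup.zpowers_le.mpr hg) (Subgroup.zpowers_le.mpr hg')
  haveI : IsMulCommutative F := ⟨⟨fun a b => by
    have := congrArg Subtype.val (hE.1.is_comm.comm (⟨a, hFE a.2⟩ : E) ⟨b, hFE b.2⟩)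
    exact Subtype.ext this⟩⟩
  obtain ⟨f, hf, hf1, hfC⟩ : ∃ f ∈ F, f ≠ 1 ∧
      ¬ C ⊓ Subgroup.centralizer ({f} : Set G) ≤ Subgroup.centralizer (A : Set G) := by
    by_contra h
    push Not at h
    exact heQ (Coprime.le_of_centralizer_le F C _ (not_isCyclic_pair hE hg hg1 hg' hgg')
      (hFE.trans hEC) (hcop hFE inf_le_left) h)
  have hef : f ∉ Subgroup.zpowers e := by
    intro h
    apply heF
    have : Subgroup.zpowers f = Subgroup.zpowers e := by
      refine Subgroup.eq_of_le_of_card_ge (Subgroup.zpowers_le.mpr h) ?_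
      rw [Nat.card_zpowers, Nat.card_zpowers, orderOf_eq_of_elementary hE he he1,
        orderOf_eq_of_elementary hE (hFE hf) hf1]
    exact Subgroup.zpowers_le.mpr hf (this.symm ▸ Subgroup.mem_zpowers e)
  refine ⟨Subgroup.zpowers e ⊔ Subgroup.zpowers f,
    sup_le (Subgroup.zpowers_le.mpr he) (Subgroup.zpowers_le.mpr (hFE hf)),
    (card_sup_zpowers_le hE he (hFE hf) he1 hf1).2 hef, fun b hb hle => hfC ?_⟩
  refine le_trans (fun y hy => ?_) hle
  have hBy : Subgroup.zpowers e ⊔ Subgroup.zpowers f ≤ Subgroup.centralizer ({y} : Set G) := by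
    refine sup_le ?_ ?_
    · rw [Subgroup.zpowers_le, Subgroup.mem_centralizer_singleton_iff]
      exact (Subgroup.mem_centralizer_singleton_iff.mp hy.1.2).symm
    · rw [Subgroup.zpowers_le, Subgroup.mem_centralizer_singleton_iff]
      exact (Subgroup.mem_centralizer_singleton_iff.mp hy.2).symm
  exact ⟨hy.1.1, Subgroup.mem_centralizer_singleton_iff.mpr
    (Subgroup.mem_centralizer_singleton_iff.mp (hBy hb)).symm⟩

theorem special_rank_le {s : ℕ} {M Q L : Subgroup G} (hS : IsSpecial P s M Q) (hL : IsCoatom L)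
    (hAL : A ≤ L) (hne : L ≠ M) : PRankLE s 2 ↥(opp p L ⊔ A) := by
  haveI := Fact.mk hS.prime
  by_contra h
  set D := opp p L with hD
  have hAD : A ≤ Subgroup.normalizer (D : Set G) := hAL.trans (le_normalizer_opp p L)
  have hDc : (Nat.card A).Coprime (Nat.card D) := by
    obtain ⟨n, hn⟩ := (P.isPGroup'.to_le hA.1).exists_card_eq
    rw [hn]
    exact Nat.Coprime.pow_left n (opp_coprime p L).symm
  obtain ⟨E, hEX, hE, hEc⟩ := exists_elementary_of_not_pRankLE h
  have hED : E ≤ D := fun x hx => mem_of_mem_sup_of_coprime hAD (hEX hx) (by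
    obtain ⟨n, hn⟩ := (P.isPGroup'.to_le hA.1).exists_card_eq
    rw [hn]
    exact Nat.Coprime.pow_right n (coprime_orderOf_of_isPGroup (isPGroup_of_elementary hE) hx
      ((Nat.coprime_primes hp.out hS.prime).mpr hS.ne.symm)))
  obtain ⟨S, hSA⟩ := Coprime.exists_invariant_sylow A D hAD hDc
    (Or.inr (Coprime.solvable_of_le (opp_le p L) (BGSigma.coatom_isSolvable hG hL))) s
  set S' := (S : Subgroup D).map D.subtype with hS'
  have hS'syl : IsSylowIn s S' D := ⟨Subgroup.map_subtype_le _, S.isPGroup'.map _, by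
    rw [hS', Subgroup.relIndex, Subgroup.subgroupOf,
      Subgroup.comap_map_eq_self_of_injective D.subtype_injective]
    exact S.not_dvd_index⟩
  have hS'r : ¬ PRankLE s 2 S' := fun hr =>
    not_pRankLE_of_elementary hED hE hEc (pRankLE_of_isSylowIn hS'syl hr)
  obtain ⟨-, -, hconj⟩ := transfer_data hG P hA hA3 hT₀ hAT hPT hPT' hS.ne hS.mem
  obtain ⟨k, hk, hle⟩ := hconj S' hS'syl.2.1 hSA
  obtain ⟨-, -, hK⟩ := special_centralizer_le hG P hA hA3 hnU hT₀ hAT hPT hPT' hS
  refine hne (inU_eq (hS.uniq S' (ne_top_of_isPGroup hG hS'syl.2.1) hS'r) hS.coatom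
    (hle.trans ?_) hL (hS'syl.1.trans (opp_le p L)))
  rintro _ ⟨x, hx, rfl⟩
  exact mul_mem (mul_mem (hK hk) (hS.le hx)) (inv_mem (hK hk))

/-- All special triples have the same maximal subgroup. -/
theorem special_eq {s t : ℕ} {M H Q T : Subgroup G} (hS : IsSpecial P s M Q)
    (hT : IsSpecial P t H T) : M = H := by
  by_contra hne
  haveI := Fact.mk hS.prime
  haveI := Fact.mk hT.prime
  have hQs := isPGroup_of_isPiSub_singleton hS.mem.1.2.1
  have hTt := isPGroup_of_isPiSub_singleton hT.mem.1.2.1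
  obtain ⟨-, hCv, hKM⟩ := special_centralizer_le hG P hA hA3 hnU hT₀ hAT hPT hPT' hS
  obtain ⟨-, -, hKH⟩ := special_centralizer_le hG P hA hA3 hnU hT₀ hAT hPT hPT' hT
  have hst : s ≠ t := by
    rintro rfl
    obtain ⟨-, -, hconj⟩ := transfer_data hG P hA hA3 hT₀ hAT hPT hPT' hS.ne hS.mem
    obtain ⟨k, hk, hle⟩ := hconj T hTt (hA.1.trans hT.mem.1.2.2)
    refine hne (inU_eq (hT.uniq T (ne_top_of_isPGroup hG hTt) hT.big) hT.coatom hT.le hS.coatom
      (hle.trans ?_))
    rintro _ ⟨x, hx, rfl⟩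
    exact mul_mem (mul_mem (hKM hk) (hS.le hx)) (inv_mem (hKM hk))
  have hQH := special_inf_le hG P hA hA3 hnU hT₀ hAT hPT hPT' hS hT hne
  have hTM := special_inf_le hG P hA hA3 hnU hT₀ hAT hPT hPT' hT hS (Ne.symm hne)
  -- a common element
  obtain ⟨E₁, hE₁A, hE₁, hE₁c⟩ := exists_elementary_of_not_pRankLE hA3
  obtain ⟨E', hE'c⟩ := Sylow.exists_subgroup_card_pow_prime (G := E₁) p (n := 3) (by
    obtain ⟨n, hn⟩ := (isPGroup_of_elementary hE₁).exists_card_eq
    rw [hn] at hE₁c ⊢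
    exact pow_dvd_pow p ((Nat.pow_le_pow_iff_right hp.out.one_lt).mp hE₁c))
  set E := E'.map E₁.subtype with hEdef
  have hEA : E ≤ A := (Subgroup.map_subtype_le _).trans hE₁A
  have hE : IsElementaryAbelian p E := by
    refine ⟨⟨⟨fun a b => ?_⟩⟩, fun a ha => hE₁.2 a (Subgroup.map_subtype_le _ ha)⟩
    have := congrArg Subtype.val (hE₁.1.is_comm.comm
      (⟨a, Subgroup.map_subtype_le _ a.2⟩ : E₁) ⟨b, Subgroup.map_subtype_le _ b.2⟩)
    exact Subtype.ext this
  have hEc : Nat.card E = p ^ 3 := by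
    rw [hEdef, Subgroup.card_map_of_injective E₁.subtype_injective, hE'c]
  obtain ⟨B, hBE, hBc, hB⟩ :=
    special_plane hG P hA hA3 hnU hT₀ hAT hPT hPT' hS hEA hE hEc.ge
  obtain ⟨B', hB'E, hB'c, hB'⟩ :=
    special_plane hG P hA hA3 hnU hT₀ hAT hPT hPT' hT hEA hE hEc.ge
  obtain ⟨a, haBB, ha1⟩ := exists_mem_ne_one (A := B ⊓ B') (by
    intro h
    have hn : B' ≤ Subgroup.normalizer (B : Set G) := by
      refine le_trans ?_ (Subgroup.centralizer_le_normalizer _)
      intro b hb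
      exact Subgroup.mem_centralizer_iff.mpr fun x hx =>
        congrArg Subtype.val (hE.1.is_comm.comm (⟨x, hBE hx⟩ : E) ⟨b, hB'E hb⟩)
    have h1 := Thompson.card_sup_mul_card_inf hn
    rw [h, Subgroup.card_bot, mul_one, hBc, hB'c] at h1
    have h2 := Subgroup.card_le_of_le (sup_le hBE hB'E)
    rw [h1, hEc] at h2
    nlinarith [hp.out.two_le, Nat.mul_pos (Nat.mul_pos hp.out.pos hp.out.pos) hp.out.pos,
      pow_succ p 2, sq p])
  set X₁ := Subgroup.centralizer ({a} : Set G) with hX₁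
  have haA : a ∈ A := hEA (hBE haBB.1)
  have hAX : A ≤ X₁ := fun b hb => Subgroup.mem_centralizer_singleton_iff.mpr
    (congrArg Subtype.val ((isMulCommutative_of_isSCN hA).is_comm.comm (⟨b, hb⟩ : A) ⟨a, haA⟩))
  obtain ⟨L, hL, hXL⟩ := BGSigma.exists_coatom_ge hG (centralizer_ne_top hG (S := {a}) rfl ha1)
  have hAL : A ≤ L := hAX.trans hXL
  set V := Q ⊓ X₁ with hV
  set W := T ⊓ X₁ with hW
  have hLH : L ≠ H := by
    rintro rfl
    exact hB a haBB.1 (le_trans (le_inf inf_le_left (inf_le_right.trans hXL)) hQH)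
  have hLM : L ≠ M := by
    rintro rfl
    exact hB' a haBB.2 (le_trans (le_inf inf_le_left (inf_le_right.trans hXL)) hTM)
  set D := opp p L with hD
  set X := D ⊔ A with hX
  have hXleL : X ≤ L := sup_le (opp_le p L) hAL
  have hXs : Group.IsSolvable X :=
    Coprime.solvable_of_le hXleL (BGSigma.coatom_isSolvable hG hL)
  have hAAn : ∀ {Y : Subgroup G}, Y ∈ maxInvSubgroups ⊤ (P : Subgroup G) {s} ∨
      Y ∈ maxInvSubgroups ⊤ (P : Subgroup G) {t} →
      A ≤ Subgroup.normalizer ((Y ⊓ X₁ : Subgroup G) : Set G) := by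
    intro Y hY
    refine Coprime.le_normalizer_inf (hA.1.trans ?_) (hAX.trans Subgroup.le_normalizer)
    rcases hY with h | h <;> exact h.1.2.2
  have hcopp : ∀ {r : ℕ}, r.Prime → r ≠ p → ∀ {Y : Subgroup G}, IsPGroup r Y →
      (Nat.card Y).Coprime p := by
    intro r hr hrp Y hY
    haveI := Fact.mk hr
    obtain ⟨n, hn⟩ := hY.exists_card_eq
    rw [hn]
    exact Nat.Coprime.pow_left n ((Nat.coprime_primes hr hp.out).mpr hrp)
  have hVD : V ≤ D := le_opp_of_scn hG P hA (scn_three_not_rankLE_one P hA hA3) hL.1 hAL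
    (inf_le_right.trans hXL) (hcopp hS.prime hS.ne (hQs.to_le inf_le_left)) (hAAn (Or.inl hS.mem))
  have hWD : W ≤ D := le_opp_of_scn hG P hA (scn_three_not_rankLE_one P hA hA3) hL.1 hAL
    (inf_le_right.trans hXL) (hcopp hT.prime hT.ne (hTt.to_le inf_le_left)) (hAAn (Or.inr hT.mem))
  set V₀ := ⁅V, A⁆ with hV₀
  set W₀ := ⁅W, A⁆ with hW₀
  have hV₀V : V₀ ≤ V := Coprime.commutator_le_of_le_normalizer (hAAn (Or.inl hS.mem))
  have hW₀W : W₀ ≤ W := Coprime.commutator_le_of_le_normalizer (hAAn (Or.inr hT.mem))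
  have hV₀ne : V₀ ≠ ⊥ := fun h =>
    hB a haBB.1 (Subgroup.commutator_eq_bot_iff_le_centralizer.mp h)
  have hW₀C : ¬ W₀ ≤ Subgroup.centralizer (A : Set G) := by
    intro h
    haveI := isMulCommutative_of_isSCN hA
    have h1 : ⁅⁅W, A⁆, A⁆ = ⊥ := Subgroup.commutator_eq_bot_iff_le_centralizer.mpr h
    rw [Coprime.commutator_commutator_eq A W (hAAn (Or.inr hT.mem)) (by
      obtain ⟨n, hn⟩ := (P.isPGroup'.to_le hA.1).exists_card_eq
      rw [hn]
      exact Nat.Coprime.pow_left n (hcopp hT.prime hT.ne (hTt.to_le inf_le_left)).symm)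
      (Or.inl (Group.isSolvable_of_comm fun a b => mul_comm' a b))] at h1
    exact hB' a haBB.2 (Subgroup.commutator_eq_bot_iff_le_centralizer.mp h1)
  have hV₀s : IsPGroup s V₀ := hQs.to_le (hV₀V.trans inf_le_left)
  have hW₀t : IsPGroup t W₀ := hTt.to_le (hW₀W.trans inf_le_left)
  have hdvd : ∀ {r : ℕ} [Fact r.Prime] {Y : Subgroup G}, IsPGroup r Y → Y ≠ ⊥ → Y ≤ X →
      r ∣ Nat.card X := by
    intro r _ Y hY hY0 hYX
    obtain ⟨n, hn⟩ := hY.exists_card_eq
    refine dvd_trans ?_ (Subgroup.card_dvd_of_le hYX)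
    rw [hn]
    exact dvd_pow_self r fun h0 => hY0 (Subgroup.eq_bot_of_card_eq _ (by rw [hn, h0, pow_zero]))
  have hW₀ne : W₀ ≠ ⊥ := fun h => hW₀C (h ▸ bot_le)
  have hDX : D ≤ X := le_sup_left
  have hAXle : A ≤ X := le_sup_right
  set Nt := opp t X with hNt
  set Ns := opp s X with hNs
  have hV₀t : V₀ ≤ Nt := by
    refine le_opp_of_commutator_rank_two hXs (odd_card_subgroup hG X)
      (hdvd hW₀t hW₀ne ((hW₀W.trans hWD).trans hDX))
      (special_rank_le hG P hA hA3 hnU hT₀ hAT hPT hPT' hT hL hAL hLH)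
      (Subgroup.commutator_mono (hVD.trans hDX) hAXle) ?_
    obtain ⟨n, hn⟩ := hV₀s.exists_card_eq
    rw [hn]
    exact Nat.Coprime.pow_left n ((Nat.coprime_primes hS.prime hT.prime).mpr hst)
  have hW₀s : W₀ ≤ Ns := by
    refine le_opp_of_commutator_rank_two hXs (odd_card_subgroup hG X)
      (hdvd hV₀s hV₀ne ((hV₀V.trans hVD).trans hDX))
      (special_rank_le hG P hA hA3 hnU hT₀ hAT hPT hPT' hS hL hAL hLM)
      (Subgroup.commutator_mono (hWD.trans hDX) hAXle) ?_
    obtain ⟨n, hn⟩ := hW₀t.exists_card_eq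
    rw [hn]
    exact Nat.Coprime.pow_left n ((Nat.coprime_primes hT.prime hS.prime).mpr hst.symm)
  set N₀ := Nt ⊓ Ns ⊓ D with hN₀
  have hXN₀ : X ≤ Subgroup.normalizer (N₀ : Set G) :=
    Coprime.le_normalizer_inf
      (Coprime.le_normalizer_inf (le_normalizer_opp t X) (le_normalizer_opp s X))
      (hXleL.trans (le_normalizer_opp p L))
  set Y := N₀ ⊔ V₀ with hY
  have hW₀X : W₀ ≤ X := (hW₀W.trans hWD).trans hDX
  have hcomm : ∀ w ∈ W₀, ∀ v ∈ Nt ⊓ D, w * v * w⁻¹ * v⁻¹ ∈ N₀ := by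
    intro w hw v hv
    refine Subgroup.mem_inf.mpr ⟨Subgroup.mem_inf.mpr ⟨?_, ?_⟩, ?_⟩
    · exact mul_mem ((Subgroup.mem_normalizer_iff.mp (le_normalizer_opp t X (hW₀X hw)) v).mp hv.1)
        (inv_mem hv.1)
    · rw [mul_assoc w v, mul_assoc]
      exact mul_mem (hW₀s hw) ((Subgroup.mem_normalizer_iff.mp
        (le_normalizer_opp s X (hDX hv.2)) w⁻¹).mp (inv_mem (hW₀s hw)))
    · exact mul_mem (mul_mem (mul_mem (hWD (hW₀W hw)) hv.2) (inv_mem (hWD (hW₀W hw))))
        (inv_mem hv.2)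
  have hYle : Y ≤ Nt ⊓ D :=
    sup_le (le_inf (inf_le_left.trans inf_le_left) inf_le_right)
      (le_inf hV₀t (hV₀V.trans hVD))
  set AW := W₀ ⊔ A with hAW
  have hAV₀ : A ≤ Subgroup.normalizer (V₀ : Set G) := Coprime.le_normalizer_commutator_right A V
  have hAWY : AW ≤ Subgroup.normalizer (Y : Set G) := by
    refine sup_le ?_ (Coprime.le_normalizer_sup (hAXle.trans hXN₀) hAV₀)
    refine Coprime.le_normalizer_of_conj_mem fun w hw y hy => ?_
    have := mul_mem (Subgroup.mem_sup_left (hcomm w hw y (hYle hy)) :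
      w * y * w⁻¹ * y⁻¹ ∈ Y) hy
    simpa using this
  have hV₀N₀ : V₀ ≤ Subgroup.normalizer (N₀ : Set G) :=
    ((hV₀V.trans hVD).trans hDX).trans hXN₀
  have hcardY := Thompson.card_sup_mul_card_inf hV₀N₀
  have hYsyl : IsSylowIn s V₀ Y := by
    refine ⟨le_sup_right, hV₀s, fun hd => ?_⟩
    have h1 : Nat.card V₀ * V₀.relIndex Y = Nat.card Y := by
      rw [← Subgroup.relIndex_bot_left, ← Subgroup.relIndex_bot_left,
        Subgroup.relIndex_mul_relIndex _ _ _ bot_le le_sup_right]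
    have h2 : V₀.relIndex Y ∣ Nat.card N₀ := by
      refine Nat.dvd_of_mul_dvd_mul_left (Nat.card_pos (α := V₀)) ?_
      rw [h1, mul_comm (Nat.card V₀), ← hcardY]
      exact dvd_mul_right _ _
    exact hS.prime.ne_one (Nat.eq_one_of_dvd_coprimes
      ((opp_coprime s X).coprime_dvd_left
        (Subgroup.card_dvd_of_le (inf_le_left.trans inf_le_right : N₀ ≤ Ns))) (hd.trans h2) dvd_rfl)
  have hcopY : (Nat.card AW).Coprime (Nat.card Y) := by
    have hW₀A : A ≤ Subgroup.normalizer (W₀ : Set G) := Coprime.le_normalizer_commutator_right A W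
    have h1 : Nat.card AW ∣ Nat.card W₀ * Nat.card A :=
      ⟨Nat.card ↥(W₀ ⊓ A), (Thompson.card_sup_mul_card_inf hW₀A).symm⟩
    refine Nat.Coprime.coprime_dvd_left h1 (Nat.Coprime.mul_left ?_ ?_)
    · obtain ⟨n, hn⟩ := hW₀t.exists_card_eq
      rw [hn]
      exact Nat.Coprime.pow_left n ((opp_coprime t X).coprime_dvd_left
        (Subgroup.card_dvd_of_le (hYle.trans inf_le_left))).symm
    · obtain ⟨n, hn⟩ := (P.isPGroup'.to_le hA.1).exists_card_eq
      rw [hn]
      exact Nat.Coprime.pow_left n ((opp_coprime p L).coprime_dvd_left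
        (Subgroup.card_dvd_of_le (hYle.trans inf_le_right))).symm
  have hYs : Group.IsSolvable Y :=
    Coprime.solvable_of_le ((hYle.trans inf_le_right).trans hDX) hXs
  obtain ⟨S, hSn⟩ := Coprime.exists_invariant_sylow AW Y hAWY hcopY (Or.inr hYs) s
  obtain ⟨S₀, hS₀⟩ := map_sylow_of_isSylowIn hYsyl
  obtain ⟨c, hc, hcS⟩ := Coprime.exists_invariant_sylow_conj A Y (le_sup_right.trans hAWY)
    (hcopY.coprime_dvd_left (Subgroup.card_dvd_of_le le_sup_right)) (Or.inr hYs) s S₀ S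
    (by rw [hS₀]; exact hAV₀) (le_sup_right.trans hSn)
  have hcK : (c : G) ∈ coreK A := by
    refine le_coreK hG (scn_three_TH hG P hA hA3) (Y := Y ⊓ Subgroup.centralizer (A : Set G))
      inf_le_right ?_ ⟨c.2, hc⟩
    obtain ⟨k, hk⟩ := (P.isPGroup'.to_le hA.1).exists_card_eq
    have hk0 : k ≠ 0 := fun h => scn_three_ne_bot P hA hA3
      (Subgroup.eq_bot_of_card_eq _ (by rw [hk, h, pow_zero]))
    rw [hk, primesNotDvd_pow hp.out hk0]
    exact isPiSub_coprime ((opp_coprime p L).coprime_dvd_left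
      (Subgroup.card_dvd_of_le (inf_le_left.trans (hYle.trans inf_le_right)))) hp.out
  have hSmap : (S : Subgroup Y).map Y.subtype = V₀.map (MulAut.conj (c : G)).toMonoidHom := by
    have e' : Y.subtype.comp ((MulAut.conj c : Y ≃* Y) : Y →* Y) =
        (MulAut.conj (c : G)).toMonoidHom.comp Y.subtype := by ext x; simp
    rw [← hS₀, ← hcS, Subgroup.map_map, ← e', ← Subgroup.map_map]
    rfl
  obtain ⟨v, hv, hv1⟩ := exists_mem_ne_one hV₀ne
  set v₁ := (c : G) * v * (c : G)⁻¹ with hv₁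
  have hv₁S : v₁ ∈ (S : Subgroup Y).map Y.subtype := hSmap ▸ ⟨v, hv, rfl⟩
  have hW₀M : W₀ ≤ M := by
    intro w hw
    have h1 : w * v₁ * w⁻¹ * v₁⁻¹ ∈ (S : Subgroup Y).map Y.subtype ⊓ N₀ :=
      Subgroup.mem_inf.mpr ⟨mul_mem ((Subgroup.mem_normalizer_iff.mp
        (hSn (Subgroup.mem_sup_left hw)) v₁).mp hv₁S) (inv_mem hv₁S),
        hcomm w hw v₁ (hYle (Subgroup.map_subtype_le _ hv₁S))⟩
    rw [inf_eq_bot_of_pgroup (S.isPGroup'.map _) ((opp_coprime s X).coprime_dvd_left
      (Subgroup.card_dvd_of_le (inf_le_left.trans inf_le_right : N₀ ≤ Ns))), Subgroup.mem_bot,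
      mul_inv_eq_one, mul_inv_eq_iff_eq_mul] at h1
    have h2 : (c : G)⁻¹ * w * (c : G) ∈ M := by
      refine hCv v (hV₀V hv).1 hv1 (Subgroup.mem_centralizer_singleton_iff.mpr ?_)
      calc (c : G)⁻¹ * w * c * v = (c : G)⁻¹ * (w * v₁) * c := by rw [hv₁]; group
        _ = (c : G)⁻¹ * (v₁ * w) * c := by rw [h1]
        _ = v * ((c : G)⁻¹ * w * c) := by rw [hv₁]; group
    have := mul_mem (mul_mem (hKM hcK) h2) (inv_mem (hKM hcK))
    simpa [mul_assoc] using this
  exact hW₀C (le_trans (le_inf (hW₀W.trans inf_le_left) hW₀M) hTM)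

/-- A large maximal invariant subgroup lies in the maximal subgroup of some special triple. -/
theorem exists_special_of_big {r : ℕ} [hr : Fact r.Prime] (hrp : r ≠ p) {R : Subgroup G}
    (hR : R ∈ maxInvSubgroups ⊤ (P : Subgroup G) {r}) (hbig : ¬ PRankLE r 2 R) :
    ∃ s M Q, IsSpecial P s M Q ∧ R ≤ M := by
  have hRr := isPGroup_of_isPiSub_singleton hR.1.2.1
  have hR0 : R ≠ ⊥ := fun h => by
    obtain ⟨E, hER, -, hEc⟩ := exists_elementary_of_not_pRankLE hbig
    rw [le_bot_iff.mp (hER.trans h.le), Subgroup.card_bot] at hEc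
    exact absurd hEc (not_le.mpr (Nat.one_lt_pow (by norm_num) hr.out.one_lt))
  obtain ⟨H, hH, hNH⟩ := BGSigma.exists_coatom_ge hG
    (BGSigma.normalizer_ne_top hG hR0 (ne_top_of_isPGroup hG hRr))
  have hfit : ∀ K : Subgroup G, IsCoatom K → PRankLE p 2 ↥(fittingOf K) := fun K hK => by
    by_contra h
    exact hnU (inU_of_fitting_rank_three hG hK h
      (ne_top_of_isPGroup hG (P.isPGroup'.to_le hA.1)) hA3)
  obtain ⟨hPU, -, -⟩ := transfer_data hG P hA hA3 hT₀ hAT hPT hPT' hrp hR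
  obtain ⟨s, hs, hsF⟩ : ∃ s, s.Prime ∧ ¬ PRankLE s 2 ↥(fittingOf H) := by
    by_contra hno
    push Not at hno
    haveI := BGSigma.coatom_isSolvable hG hH
    obtain ⟨hnil, -, -⟩ := S1451.result (odd_card_subgroup hG H)
      (Or.inr fun q hq => OddLocal43.prankLE_of_injective
        ((fittingSubgroup H).equivMapOfInjective H.subtype H.subtype_injective).toMonoidHom
        ((fittingSubgroup H).equivMapOfInjective H.subtype H.subtype_injective).injective
        (hno q hq))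
    have hle : ⁅H, H⁆ ≤ fittingOf H := by
      rw [← Subgroup.map_subtype_commutator]
      exact Subgroup.map_mono (Fitting.le_fitting inferInstance hnil)
    exact not_pRankLE_mono ((hA.1.trans hPU).trans ((Subgroup.commutator_mono
      (inf_le_right.trans hNH) (inf_le_right.trans hNH)).trans hle)) hA3 (hfit H hH)
  haveI := Fact.mk hs
  have hsp : s ≠ p := fun h => hsF (h ▸ hfit H hH)
  have huniq : ∀ X : Subgroup G, X ≠ ⊤ → ¬ PRankLE s 2 X → InUniqueMaximal X :=
    fun X hX hX3 => inU_of_fitting_rank_three hG hH hsF hX hX3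
  set S := core s H with hSdef
  have hS3 : ¬ PRankLE s 2 S := by
    obtain ⟨E, hEF, hE, hEc⟩ := exists_elementary_of_not_pRankLE hsF
    refine not_pRankLE_of_elementary (fun x hx => ?_) hE hEc
    obtain ⟨j, -, hj⟩ := (Nat.dvd_prime_pow hs).mp
      (show orderOf x ∣ s ^ 1 by rw [pow_one]; exact orderOf_dvd_of_pow_eq_one (hE.2 x hx))
    exact mem_core_of_mem_fittingOf (hEF hx) hj
  obtain ⟨Q, hQ, -⟩ := exists_max_ge (bot_mem_invSubgroups (P : Subgroup G) {s})
  obtain ⟨-, -, hconj⟩ := transfer_data hG P hA hA3 hT₀ hAT hPT hPT' hsp hQ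
  obtain ⟨k, hk, hSQ⟩ := hconj S (isPGroup_core s H)
    ((hA.1.trans hR.1.2.2).trans (hNH.trans (le_normalizer_core s H)))
  obtain ⟨M, hM, hQM⟩ := BGSigma.exists_coatom_ge hG
    (ne_top_of_isPGroup hG (isPGroup_of_isPiSub_singleton hQ.1.2.1))
  have hSp : IsSpecial P s M Q :=
    ⟨hs, hsp, huniq, hQ, not_pRankLE_of_le_map_conj hSQ hS3, hM, hQM⟩
  obtain ⟨-, -, hKM⟩ := special_centralizer_le hG P hA hA3 hnU hT₀ hAT hPT hPT' hSp
  have hHM : H = M := by
    refine inU_eq (huniq S (ne_top_of_isPGroup hG (isPGroup_core s H)) hS3) hM (hSQ.trans ?_) hH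
      (core_le s H)
    rintro _ ⟨x, hx, rfl⟩
    exact mul_mem (mul_mem (hKM hk) (hQM hx)) (inv_mem (hKM hk))
  exact ⟨s, M, Q, hSp, Subgroup.le_normalizer.trans (hNH.trans hHM.le)⟩

theorem false_of_not_inU : False := by
  have hTH := scn_three_TH hG P hA hA3
  have hA0 := scn_three_ne_bot P hA hA3
  have hAp := P.isPGroup'.to_le hA.1
  obtain ⟨a, ha, ha1⟩ := exists_mem_ne_one hA0
  obtain ⟨M, hM, hAM, hKM, hspec⟩ : ∃ M : Subgroup G, IsCoatom M ∧ A ≤ M ∧ coreK A ≤ M ∧
      ∀ s M' Q, IsSpecial P s M' Q → M' = M := by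
    by_cases h : ∃ s M Q, IsSpecial P s M Q
    · obtain ⟨s, M, Q, hS⟩ := h
      obtain ⟨hN, -, hK⟩ := special_centralizer_le hG P hA hA3 hnU hT₀ hAT hPT hPT' hS
      exact ⟨M, hS.coatom, (hA.1.trans hS.mem.1.2.2).trans hN, hK, fun s' M' Q' hS' =>
        special_eq hG P hA hA3 hnU hT₀ hAT hPT hPT' hS' hS⟩
    · obtain ⟨M, hM, hCM⟩ := BGSigma.exists_coatom_ge hG
        (centralizer_ne_top hG (S := (A : Set G)) ha ha1)
      exact ⟨M, hM, (le_centralizer_of_isSCN hA).trans hCM, (BGSigma.piCoreOf_le _).trans hCM,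
        fun s M' Q' hS' => absurd ⟨s, M', Q', hS'⟩ h⟩
  refine hnU (inU_of_inv_le hG hM hAp hA0 hAM fun Y hY hAY => ?_)
  haveI := isMulCommutative_of_isSCN hA
  obtain ⟨k, hk⟩ := hAp.exists_card_eq
  refine le_of_invariant_sylows hAY (hk ▸ Nat.Coprime.pow_left k hY.symm)
    (Group.isSolvable_of_comm fun a b => mul_comm' a b) fun q hq S hSY hSq hAS => ?_
  haveI := Fact.mk hq
  rcases eq_or_ne S ⊥ with rfl | hS0
  · exact bot_le
  have hqp : q ≠ p := by
    rintro rfl
    obtain ⟨n, hn⟩ := hSq.exists_card_eq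
    have h' : (Nat.card S).Coprime q := hY.coprime_dvd_left (Subgroup.card_dvd_of_le hSY)
    exact hS0 (Subgroup.eq_bot_of_card_eq _
      (Nat.eq_one_of_dvd_coprimes (h'.pow_right n) dvd_rfl (dvd_of_eq hn)))
  obtain ⟨R, hR, -⟩ := exists_max_ge (bot_mem_invSubgroups (P : Subgroup G) {q})
  obtain ⟨-, -, hconj⟩ := transfer_data hG P hA hA3 hT₀ hAT hPT hPT' hqp hR
  obtain ⟨c, hc, hSR⟩ := hconj S hSq hAS
  have hRM : R ≤ M := by
    by_cases hr : PRankLE q 2 R
    · exact (small_le_coreK hG P hA hA3 hT₀ hAT hPT hPT' hqp hR hr).trans hKM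
    · obtain ⟨s, M', Q, hS', hRM'⟩ :=
        exists_special_of_big hG P hA hA3 hnU hT₀ hAT hPT hPT' hqp hR hr
      rwa [hspec s M' Q hS'] at hRM'
  refine hSR.trans ?_
  rintro _ ⟨x, hx, rfl⟩
  exact mul_mem (mul_mem (hKM hc) (hRM hx)) (inv_mem (hKM hc))

end SCNThree

variable (hG : IsMinSimpleOddOrder G)
include hG

/-- A self-centralizing normal subgroup of rank three of a Sylow subgroup is a uniqueness
subgroup. -/
theorem inU_of_scn_three (P : Sylow p G) {A : Subgroup G} (hA : IsSCN (P : Subgroup G) A)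
    (hA3 : ¬ PRankLE p 2 A) : InUniqueMaximal A := by
  by_contra hnU
  obtain ⟨T₀, hT₀, hPT, hPT', hmem⟩ := exists_transfer_subgroup hG P
    (fun h => scn_three_ne_bot P hA hA3 (le_bot_iff.mp (hA.1.trans h.le)))
  exact false_of_not_inU hG P hA hA3 hnU hT₀
    (hmem A hA.1 (isMulCommutative_of_isSCN hA) hA.2.1) hPT hPT'

omit hp in
/-- **The uniqueness theorem**, first half: proper subgroups of rank at least three. -/
theorem inU_of_not_rankLE_two {K : Subgroup G} (hK : K ≠ ⊤) (hK3 : ¬ RankLE 2 K) :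
    InUniqueMaximal K := by
  simp only [RankLE, not_forall, exists_prop] at hK3
  obtain ⟨q, hq, hKq⟩ := hK3
  haveI := Fact.mk hq
  obtain ⟨E, hEK, hE, hEc⟩ := exists_elementary_of_not_pRankLE hKq
  have hEp := isPGroup_of_elementary hE
  obtain ⟨P, hEP⟩ := hEp.exists_le_sylow
  have hE0 : E ≠ ⊥ := fun h => by
    rw [h, Subgroup.card_bot] at hEc
    exact absurd hEc (not_le.mpr (Nat.one_lt_pow (by norm_num) hq.one_lt))
  obtain ⟨A, hA, hA3⟩ := exists_scn_three P (prime_ne_two hG (dvd_card_of_ne_bot hG hEp hE0))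
    (not_pRankLE_of_elementary hEP hE hEc)
  exact inU_of_rank_three hG (P.isPGroup'.to_le hA.1) (isMulCommutative_of_isSCN hA) hA3
    (inU_of_scn_three hG P hA hA3) hK hKq

omit hp in
/-- **The uniqueness theorem.** -/
theorem inU_of_rank {K : Subgroup G} (hK : K ≠ ⊤) (hK2 : ¬ RankLE 1 K)
    (hK3 : ¬ RankLE 2 K ∨ ¬ RankLE 2 (Subgroup.centralizer (K : Set G))) :
    InUniqueMaximal K := by
  rcases hK3 with h | h
  · exact inU_of_not_rankLE_two hG hK h
  have hK0 : K ≠ ⊥ := fun h0 => hK2 fun r hr E _ _ => by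
    refine (Subgroup.card_le_card_group E).trans ?_
    rw [h0, Subgroup.card_bot]
    exact Nat.one_le_pow _ _ hr.pos
  obtain ⟨k, hk, hk1⟩ := exists_mem_ne_one hK0
  exact inU_of_centralizes hG
    (inU_of_not_rankLE_two hG (centralizer_ne_top hG (S := (K : Set G)) hk hk1) h)
    (Subgroup.le_centralizer_iff.mp le_rfl) hK2

end Cfsg.Agent.BGUniq
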