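import Cfsg.Prelude.Def_OddOrderLocal
import Mathlib.GroupTheory.NoncommCoprod
import Mathlib.GroupTheory.Complement

/-!
Basic facts on `M_F` (the largest normal nilpotent Hall subgroup) and on commuting factors.
-/

set_option autoImplicit false

namespace Cfsg.Agent.BGUniq

open Cfsg

section

variable {G : Type*} [Group G]

lemma mem_of_pow_mem_of_coprime {K : Subgroup G} {x : G} {n m : ℕ} (hn : x ^ n ∈ K)
    (hm : x ^ m ∈ K) (hco : n.Coprime m) : x ∈ K := by
  have h := Nat.gcd_eq_gcd_ab n m
  rw [hco.gcd_eq_one, Nat.cast_one] at h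
  have hx : x = (x ^ n) ^ (n.gcdA m) * (x ^ m) ^ (n.gcdB m) := by
    rw [← zpow_natCast x n, ← zpow_natCast x m, ← zpow_mul, ← zpow_mul, ← zpow_add, ← h, zpow_one]
  rw [hx]
  exact K.mul_mem (K.zpow_mem hn _) (K.zpow_mem hm _)

lemma sup_factors (H K : Subgroup G) (h : ∀ a ∈ H, ∀ b ∈ K, a * b = b * a) :
    (∀ x ∈ H ⊔ K, ∃ a ∈ H, ∃ b ∈ K, x = a * b) ∧
      (H ⊓ K = ⊥ → Nat.card ↥(H ⊔ K) = Nat.card H * Nat.card K) := by
  have comm : ∀ (a : H) (b : K), Commute (H.subtype a) (K.subtype b) := fun a b => h a a.2 b b.2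
  have hr : (MonoidHom.noncommCoprod H.subtype K.subtype comm).range = H ⊔ K := by
    rw [MonoidHom.noncommCoprod_range, Subgroup.range_subtype, Subgroup.range_subtype]
  constructor
  · intro x hx
    rw [← hr] at hx
    obtain ⟨⟨a, b⟩, rfl⟩ := hx
    exact ⟨a, a.2, b, b.2, rfl⟩
  · intro hd
    have hinj : Function.Injective (MonoidHom.noncommCoprod H.subtype K.subtype comm) := by
      rw [MonoidHom.noncommCoprod_injective]
      refine ⟨H.subtype_injective, K.subtype_injective, ?_⟩
      rw [Subgroup.range_subtype, Subgroup.range_subtype, disjoint_iff]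
      exact hd
    rw [← hr, ← Nat.card_prod]
    exact (Nat.card_congr (MonoidHom.ofInjective hinj).toEquiv).symm

lemma isNilpotent_sup_of_commute (H K : Subgroup G) [Group.IsNilpotent H] [Group.IsNilpotent K]
    (h : ∀ a ∈ H, ∀ b ∈ K, a * b = b * a) : Group.IsNilpotent ↥(H ⊔ K) := by
  have comm : ∀ (a : H) (b : K), Commute (H.subtype a) (K.subtype b) := fun a b => h a a.2 b b.2
  have hr : (MonoidHom.noncommCoprod H.subtype K.subtype comm).range = H ⊔ K := by
    rw [MonoidHom.noncommCoprod_range, Subgroup.range_subtype, Subgroup.range_subtype]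
  rw [← hr]
  exact Group.nilpotent_of_surjective _ (MonoidHom.rangeRestrict_surjective _)

end

/-- The join of normal Hall subgroups is a Hall subgroup. -/
lemma sSup_normal_hall_coprime (M : Type*) [Group M] [Finite M] (S : Set (Subgroup M))
    (hS : ∀ N ∈ S, N.Normal ∧ (Nat.card N).Coprime N.index) :
    (Nat.card ↥(sSup S)).Coprime (sSup S).index := by
  suffices h : (sSup S).Normal ∧ (Nat.card ↥(sSup S)).Coprime (sSup S).index from h.2
  induction S, S.toFinite using Set.Finite.induction_on with
  | empty =>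
    rw [sSup_empty]
    exact ⟨inferInstance, by rw [Subgroup.card_bot]; exact Nat.coprime_one_left _⟩
  | @insert N S _ _ ih =>
    rw [sSup_insert]
    obtain ⟨hN, hNc⟩ := hS N (Set.mem_insert _ _)
    obtain ⟨hT, hTc⟩ := ih (fun K hK => hS K (Set.mem_insert_of_mem _ hK))
    set T := sSup S
    refine ⟨inferInstance, ?_⟩
    have h1 : (Nat.card N).Coprime (N ⊔ T).index :=
      hNc.coprime_dvd_right (Subgroup.index_dvd_of_le le_sup_left)
    have h2 : (Nat.card T).Coprime (N ⊔ T).index :=
      hTc.coprime_dvd_right (Subgroup.index_dvd_of_le le_sup_right)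
    have h3 : Nat.card ↥(N ⊔ T) ∣ Nat.card N * Nat.card T := by
      have e : N.relIndex (N ⊔ T) = N.relIndex T := Subgroup.relIndex_sup_left (K := N) (H := T)
      have e2 := Subgroup.relIndex_mul_relIndex ⊥ N (N ⊔ T) bot_le le_sup_left
      rw [Subgroup.relIndex_bot_left, Subgroup.relIndex_bot_left, e] at e2
      rw [← e2]
      exact mul_dvd_mul_left _ (Subgroup.relIndex_dvd_card (H := N) (K := T))
    exact (h1.mul_left h2).coprime_dvd_left h3

theorem fittingHall_coprime (M : Type*) [Group M] [Finite M] :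
    (Nat.card ↥(fittingHall M)).Coprime (fittingHall M).index :=
  sSup_normal_hall_coprime M _ (fun _ h => ⟨h.1, h.2.2⟩)

theorem le_fittingHall {M : Type*} [Group M] {N : Subgroup M} (h1 : N.Normal)
    (h2 : Group.IsNilpotent N) (h3 : (Nat.card N).Coprime N.index) : N ≤ fittingHall M :=
  le_sSup ⟨h1, h2, h3⟩

theorem pow_index_fittingHallOf {G : Type*} [Group G] {M : Subgroup G} {x : G} (hx : x ∈ M) :
    x ^ (fittingHall M).index ∈ fittingHallOf M :=
  ⟨⟨x, hx⟩ ^ (fittingHall M).index, (fittingHall M).pow_index_mem _, rfl⟩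

theorem fittingHallOf_le {G : Type*} [Group G] (M : Subgroup G) : fittingHallOf M ≤ M :=
  Subgroup.map_subtype_le _

theorem card_fittingHallOf {G : Type*} [Group G] (M : Subgroup G) :
    Nat.card (fittingHallOf M) = Nat.card (fittingHall M) :=
  (Nat.card_congr ((fittingHall M).equivMapOfInjective M.subtype M.subtype_injective).toEquiv).symm

/-- A group all of whose Sylow subgroups lie in normal nilpotent Hall subgroups is nilpotent. -/
theorem fittingHall_isNilpotent (M : Type*) [Group M] [Finite M] :
    Group.IsNilpotent (fittingHall M) := by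
  refine (Group.isNilpotent_of_finite_tfae.out 0 3 rfl rfl).mpr ?_
  intro p hp P
  by_cases hPb : (P : Subgroup (fittingHall M)) = ⊥
  · rw [hPb]; infer_instance
  have hpH : p ∣ Nat.card (fittingHall M) := by
    obtain ⟨n, hn⟩ := P.isPGroup'.exists_card_eq
    rcases Nat.eq_zero_or_pos n with h0 | h0
    · exact absurd (Subgroup.card_eq_one.mp (by rw [hn, h0, pow_zero])) hPb
    · exact dvd_trans (hn ▸ dvd_pow_self p h0.ne') (Subgroup.card_subgroup_dvd_card _)
  -- some generating subgroup has order divisible by `p`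
  have hex : ∃ N : Subgroup M, N.Normal ∧ Group.IsNilpotent N ∧ (Nat.card N).Coprime N.index ∧
      p ∣ Nat.card N := by
    by_contra hne
    push Not at hne
    have key : ∀ S : Set (Subgroup M), (∀ N ∈ S, N.Normal ∧ ¬ p ∣ Nat.card N) →
        (sSup S).Normal ∧ ¬ p ∣ Nat.card ↥(sSup S) := by
      intro S hS
      induction S, S.toFinite using Set.Finite.induction_on with
      | empty =>
        rw [sSup_empty]
        exact ⟨inferInstance, by rw [Subgroup.card_bot]; exact hp.out.not_dvd_one⟩
      | @insert N S _ _ ih =>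
        rw [sSup_insert]
        obtain ⟨hN, hNc⟩ := hS N (Set.mem_insert _ _)
        obtain ⟨hT, hTc⟩ := ih (fun K hK => hS K (Set.mem_insert_of_mem _ hK))
        set T := sSup S
        refine ⟨inferInstance, fun hd => ?_⟩
        have e : N.relIndex (N ⊔ T) = N.relIndex T := Subgroup.relIndex_sup_left (K := N) (H := T)
        have e2 := Subgroup.relIndex_mul_relIndex ⊥ N (N ⊔ T) bot_le le_sup_left
        rw [Subgroup.relIndex_bot_left, Subgroup.relIndex_bot_left, e] at e2
        rw [← e2] at hd
        rcases hp.out.dvd_mul.mp hd with h | h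
        · exact hNc h
        · exact hTc (h.trans (Subgroup.relIndex_dvd_card (H := N) (K := T)))
    exact (key _ (fun N hN => ⟨hN.1, hne N hN.1 hN.2.1 hN.2.2⟩)).2 hpH
  obtain ⟨N, hN, hNn, hNc, hpN⟩ := hex
  let Q : Sylow p N := default
  haveI : (Q : Subgroup N).Characteristic := Q.characteristic_of_normal inferInstance
  haveI : N.Normal := hN
  have hQn : ((Q : Subgroup N).map N.subtype).Normal := inferInstance
  set R := (Q : Subgroup N).map N.subtype with hR
  have hRle : R ≤ fittingHall M :=
    (Subgroup.map_subtype_le _).trans (le_fittingHall hN hNn hNc)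
  have hRp : IsPGroup p R := Q.isPGroup'.map _
  have hRi : ¬ p ∣ (R.subgroupOf (fittingHall M)).index := by
    intro hd
    have h1 : p ∣ R.index := hd.trans (Subgroup.relIndex_dvd_index_of_le hRle)
    rw [hR, Subgroup.index_map_subtype] at h1
    rcases hp.out.dvd_mul.mp h1 with h | h
    · exact Q.not_dvd_index h
    · exact hp.out.ne_one (Nat.eq_one_of_dvd_coprimes hNc hpN h)
  have hRp' : IsPGroup p (R.subgroupOf (fittingHall M)) :=
    hRp.comap_subtype
  let R' : Sylow p (fittingHall M) := hRp'.toSylow hRi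
  have hR'n : (R' : Subgroup (fittingHall M)).Normal := by
    change (R.subgroupOf (fittingHall M)).Normal
    infer_instance
  haveI := Sylow.unique_of_normal R' hR'n
  rw [Subsingleton.elim P R']
  exact hR'n

end Cfsg.Agent.BGUniq
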