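import Cfsg.Agent.BGUniq.Uniqueness
import Cfsg.Agent.Lib.PGroup.NormalRankTwo

/-!
One rank-three abelian uniqueness `p`-subgroup makes every rank-three abelian `p`-subgroup a
uniqueness subgroup.
-/

set_option autoImplicit false

namespace Cfsg.Agent.BGUniq

open Cfsg

variable {G : Type*} [Group G] [Finite G] {p : ℕ} [hp : Fact p.Prime]

theorem exists_inf_centralizer_elementary (P : Sylow p G) {W E : Subgroup G}
    (hWP : W ≤ (P : Subgroup G)) (hPW : (P : Subgroup G) ≤ Subgroup.normalizer (W : Set G))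
    (hWc : Nat.card W = p ^ 2) (hEP : E ≤ (P : Subgroup G)) (hE : IsElementaryAbelian p E)
    (hEc : p ^ 3 ≤ Nat.card E) :
    ∃ F : Subgroup G, F ≤ E ∧ F ≤ Subgroup.centralizer (W : Set G) ∧
      IsElementaryAbelian p F ∧ p ^ 2 ≤ Nat.card F := by
  haveI : (W.subgroupOf (P : Subgroup G)).Normal :=
    (Subgroup.normal_subgroupOf_iff_le_normalizer hWP).mpr hPW
  have h1 := OddLocal44.card_le_mul_inf (H := E.subgroupOf (P : Subgroup G))
    (OddLocal44.index_centralizer_le_of_card_le P.isPGroup' (W.subgroupOf (P : Subgroup G))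
      (by rw [Nat.card_congr (Subgroup.subgroupOfEquivOfLe hWP).toEquiv, hWc]))
  rw [Nat.card_congr (Subgroup.subgroupOfEquivOfLe hEP).toEquiv] at h1
  refine ⟨E ⊓ Subgroup.centralizer (W : Set G), inf_le_left, inf_le_right, ⟨?_, ?_⟩, ?_⟩
  · refine ⟨⟨fun a b => ?_⟩⟩
    have := congrArg Subtype.val (hE.1.is_comm.comm (⟨a, a.2.1⟩ : E) ⟨b, b.2.1⟩)
    exact Subtype.ext this
  · exact fun a ha => hE.2 a ha.1
  · have h2 : Nat.card ↥(E.subgroupOf (P : Subgroup G) ⊓
        Subgroup.centralizer (W.subgroupOf (P : Subgroup G) : Set (P : Subgroup G))) ≤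
        Nat.card ↥(E ⊓ Subgroup.centralizer (W : Set G)) := by
      rw [← Subgroup.card_map_of_injective (Subgroup.subtype_injective (P : Subgroup G))]
      refine Subgroup.card_le_of_le ?_
      rintro _ ⟨x, ⟨hxE, hxC⟩, rfl⟩
      refine ⟨hxE, Subgroup.mem_centralizer_iff.mpr fun w hw => ?_⟩
      exact congrArg Subtype.val (Subgroup.mem_centralizer_iff.mp hxC ⟨w, hWP hw⟩ hw)
    refine Nat.le_of_mul_le_mul_left ?_ hp.out.pos
    calc p * p ^ 2 = p ^ 3 := by ring
      _ ≤ _ := hEc.trans h1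
      _ ≤ _ := Nat.mul_le_mul_left _ h2

theorem inU_of_rank_three (hG : IsMinSimpleOddOrder G) {A X : Subgroup G} (hAp : IsPGroup p A)
    (hAc : IsMulCommutative A) (hA3 : ¬ PRankLE p 2 A) (hAU : InUniqueMaximal A)
    (hX : X ≠ ⊤) (hX3 : ¬ PRankLE p 2 X) : InUniqueMaximal X := by
  haveI := hAc
  obtain ⟨P, hAP⟩ := hAp.exists_le_sylow
  obtain ⟨E, hEA, hE, hEc⟩ := exists_elementary_of_not_pRankLE hA3
  have hp2 : p ≠ 2 := prime_ne_two hG (dvd_card_of_ne_bot hG hAp (inU_ne_bot hG hAU))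
  obtain ⟨A₁, hA₁, hA₁3⟩ := exists_scn_three P hp2
    (not_pRankLE_of_elementary (hEA.trans hAP) hE hEc)
  obtain ⟨E₁, hE₁A, hE₁, hE₁c⟩ := exists_elementary_of_not_pRankLE hA₁3
  obtain ⟨W, hWA, hW, hWc, hPW, -⟩ := exists_normal_pair P hA₁
    (not_pRankLE_of_elementary hE₁A hE₁
      ((Nat.pow_le_pow_right hp.out.pos (by norm_num)).trans hE₁c))
  have hWP : W ≤ (P : Subgroup G) := hWA.trans hA₁.1
  obtain ⟨F, hFE, hFW, hF, hFc⟩ :=
    exists_inf_centralizer_elementary P hWP hPW hWc (hEA.trans hAP) hE hEc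
  have hFU : InUniqueMaximal F := inU_elementary_of_centralizes hG hAU hF hFc
    ((hFE.trans hEA).trans (Subgroup.le_centralizer_iff_isMulCommutative.mpr hAc))
  have hWU : InUniqueMaximal W := inU_elementary_of_centralizes hG hFU hW hWc.ge
    (Subgroup.le_centralizer_iff.mp hFW)
  obtain ⟨E', hE'X, hE', hE'c⟩ := exists_elementary_of_not_pRankLE hX3
  obtain ⟨Q, hQ⟩ := (isPGroup_of_elementary hE').exists_le_sylow
  obtain ⟨g, hg⟩ := MulAction.exists_smul_eq G Q P
  have hgP : E'.map (MulAut.conj g).toMonoidHom ≤ (P : Subgroup G) := by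
    rw [← hg]
    exact Subgroup.map_mono hQ
  have hE'g : IsElementaryAbelian p (E'.map (MulAut.conj g).toMonoidHom) := by
    haveI := hE'.1
    refine ⟨Subgroup.map_isMulCommutative E' _, ?_⟩
    rintro _ ⟨e, he, rfl⟩
    rw [← map_pow, hE'.2 e he, map_one]
  obtain ⟨F', hF'E, hF'W, hF', hF'c⟩ := exists_inf_centralizer_elementary P hWP hPW hWc hgP hE'g
    (by rwa [Subgroup.card_map_of_injective (MulAut.conj g).injective])
  have hF'U := inU_map_conj (inU_elementary_of_centralizes hG hWU hF' hF'c hF'W) g⁻¹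
  refine inU_mono hF'U ((Subgroup.map_mono hF'E).trans ?_) hX
  rw [map_conj_inv]
  exact hE'X

end Cfsg.Agent.BGUniq
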