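import Cfsg.Agent.BGUniq.FittingOf
import Cfsg.Agent.BGUniq.RankThreeU
import Cfsg.Agent.Lib.Subnormal.Zipper

/-!
Uniqueness subgroups inside a Fitting subgroup of rank at least three: the case where `F(M)` is
not of prime power order (Bender's method) and the case where it is.
-/

set_option autoImplicit false

namespace Cfsg.Agent.BGUniq

open Cfsg

variable {G : Type*} [Group G] [Finite G]

/-- The primes not dividing `|F(M)|`. -/
abbrev fitPi (M : Subgroup G) : Set ℕ := primesNotDvd (Nat.card (fittingOf M))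

theorem coprime_of_isPiSub_of_dvd {n t : ℕ} (ht : t.Prime) (hd : t ∣ n) {Y : Subgroup G}
    (hY : BGSigma.IsPiSub (primesNotDvd n) Y) : (Nat.card Y).Coprime t :=
  Nat.Coprime.symm (ht.coprime_iff_not_dvd.mpr fun h => (hY t ht h).2 hd)

section NonP

variable (hG : IsMinSimpleOddOrder G) {M : Subgroup G} (hM : IsCoatom M) {A : Subgroup G}
  (hAF : A ≤ fittingOf M)
  (hCA : fittingOf M ⊓ Subgroup.centralizer (A : Set G) ≤ A)
  (hzA : ∀ r : ℕ, r.Prime → zCore r M ≤ A)

include hG hM in
theorem centralizer_zCore_le {r : ℕ} [Fact r.Prime] (h : r ∣ Nat.card (fittingOf M)) :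
    Subgroup.centralizer (zCore r M : Set G) ≤ M :=
  (Subgroup.centralizer_le_normalizer _).trans_eq
    (BGSigma.normalizer_eq_coatom hG hM ((zCore_le_core r M).trans (core_le r M))
      (zCore_ne_bot (core_ne_bot_of_dvd h)) (le_normalizer_zCore r M))

include hG hM hAF hCA

/-- An invariant `π'`-subgroup centralizing some `Z(O_r(F))` is trivial. -/
theorem eq_bot_of_le_centralizer_zCore {W : Subgroup G} (hW : BGSigma.IsPiSub (fitPi M) W)
    (hAW : A ≤ Subgroup.normalizer (W : Set G)) {r : ℕ} [Fact r.Prime]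
    (hr : r ∣ Nat.card (fittingOf M))
    (hWr : W ≤ Subgroup.centralizer (zCore r M : Set G)) : W = ⊥ := by
  have hWM : W ≤ M := hWr.trans (centralizer_zCore_le hG hM hr)
  have hcop := coprime_of_isPiSub_notDvd hW
  have hinf : fittingOf M ⊓ W = ⊥ := Subgroup.inf_eq_bot_of_coprime hcop
  have hWA : W ≤ Subgroup.centralizer (A : Set G) := by
    intro w hw
    refine Subgroup.mem_centralizer_iff.mpr fun a ha => ?_
    have h : w * a * w⁻¹ * a⁻¹ ∈ fittingOf M ⊓ W := by
      refine Subgroup.mem_inf.mpr ⟨mul_mem ((Subgroup.mem_normalizer_iff.mp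
        (le_normalizer_fittingOf M (hWM hw)) a).mp (hAF ha)) (inv_mem (hAF ha)), ?_⟩
      rw [mul_assoc w a, mul_assoc w (a * w⁻¹)]
      exact mul_mem hw ((Subgroup.mem_normalizer_iff.mp (hAW ha) w⁻¹).mp (inv_mem hw))
    rw [hinf, Subgroup.mem_bot, mul_inv_eq_one, mul_inv_eq_iff_eq_mul] at h
    exact h.symm
  have hC := le_centralizer_of_selfCentralizing (isNilpotent_fittingOf M) hAF hCA
    (hWM.trans (le_normalizer_fittingOf M)) hcop.symm hWA
  have hle : W ≤ fittingOf M := (le_inf hWM hC).trans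
    (inf_centralizer_fittingOf_le (BGSigma.coatom_isSolvable hG hM))
  exact le_bot_iff.mp (hinf ▸ le_inf hle le_rfl)

include hzA

/-- In `X/O_{π'}(X)`, the `t'`-part of `A` centralizes `O_t`. -/
theorem tPrime_centralizes_pCore {X : Subgroup G} (hX : X ≠ ⊤) (hAX : A ≤ X) {t : ℕ}
    [ht : Fact t.Prime] (htd : t ∣ Nat.card (fittingOf M)) :
    pCore t (X ⧸ piCore (fitPi M) X) ≤ Subgroup.centralizer
      ((((A ⊓ opp t M).subgroupOf X).map (QuotientGroup.mk' (piCore (fitPi M) X)) :
        Subgroup (X ⧸ piCore (fitPi M) X)) : Set (X ⧸ piCore (fitPi M) X)) := by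
  have hXs := BGSigma.isSolvable_of_ne_top hG hX
  set D := piCore (fitPi M) X with hD
  set f := QuotientGroup.mk' D with hf
  set Q := pCore t (X ⧸ D) with hQ
  have hQn : ∀ Y : Subgroup (X ⧸ D), Y ≤ Subgroup.normalizer (Q : Set (X ⧸ D)) := fun Y =>
    le_top.trans_eq (Subgroup.normalizer_eq_top _).symm
  have hzX : zCore t M ≤ X := (hzA t ht.out).trans hAX
  have hAtop : (Nat.card ↥((A ⊓ opp t M).subgroupOf X)).Coprime t :=
    card_subgroupOf_coprime X
      ((opp_coprime t M).coprime_dvd_left (Subgroup.card_dvd_of_le inf_le_right))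
  refine le_centralizer_of_pq (p := t) (A := ((zCore t M).subgroupOf X).map f)
    Thompson.isPGroup_pCore (((isPGroup_zCore t M).comap_subtype (K := X)).map f)
    (card_map_coprime f hAtop) (hQn _) (hQn _) ?_ ?_
  · rintro _ ⟨a, ha, rfl⟩
    refine Subgroup.mem_centralizer_iff.mpr ?_
    rintro _ ⟨z, hz, rfl⟩
    rw [← map_mul, ← map_mul]
    refine congrArg f (Subtype.ext ?_)
    exact (Subgroup.mem_centralizer_iff.mp (zCore_le_centralizer_fittingOf t M hz)
      (a : G) (hAF ha.1)).symm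
  · rintro u ⟨huQ, huC⟩
    obtain ⟨g, rfl⟩ := QuotientGroup.mk'_surjective D u
    obtain ⟨d, hd, hdg⟩ := exists_mul_mem_centralizer (p := t)
      (A := (zCore t M).subgroupOf X) (D := D) (isPGroup_zCore t M).comap_subtype
      (coprime_of_isPiSub_of_dvd ht.out htd BGSigma.isPiSub_piCore)
      (le_top.trans_eq (Subgroup.normalizer_eq_top _).symm) (g := g)
      (by rw [Subgroup.normalizer_eq_top]; trivial)
      (fun z hz => by
        rw [← QuotientGroup.eq_one_iff, ← QuotientGroup.mk'_apply]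
        simp only [map_mul, map_inv]
        rw [← Subgroup.mem_centralizer_iff.mp huC (f z) ⟨z, hz, rfl⟩, mul_inv_cancel_right,
          mul_inv_cancel])
    have hfd : f (d * g) = f g := by
      rw [map_mul, show f d = 1 from (QuotientGroup.eq_one_iff d).mpr hd, one_mul]
    set h := d * g with hh
    have hhM : (h : G) ∈ M :=
      centralizer_zCore_le hG hM htd (Subgroup.mem_centralizer_iff.mpr fun z hz =>
        congrArg Subtype.val (Subgroup.mem_centralizer_iff.mp hdg ⟨z, hzX hz⟩ hz))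
    rw [← hfd] at huQ ⊢
    refine Subgroup.mem_centralizer_iff.mpr ?_
    rintro _ ⟨a, ha, rfl⟩
    set c := h * a * h⁻¹ * a⁻¹ with hc
    have hco : (c : G) ∈ opp t M :=
      mul_mem ((Subgroup.mem_normalizer_iff.mp (le_normalizer_opp t M hhM) (a : G)).mp ha.2)
        (inv_mem ha.2)
    have hcQ : f c ∈ Q := by
      rw [hc, mul_assoc h a, mul_assoc, map_mul]
      refine mul_mem huQ ?_
      rw [map_mul, map_mul, map_inv, map_inv]
      exact Thompson.instPCoreNormal.conj_mem _ (inv_mem huQ) (f a)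
    obtain ⟨n, hn⟩ := (Thompson.isPGroup_pCore (p := t) (G := X ⧸ D)).exists_card_eq
    have h1 : orderOf (f c) ∣ t ^ n := by
      rw [← hn, ← Subgroup.orderOf_mk (f c) hcQ]
      exact orderOf_dvd_natCard _
    have h2 : orderOf (f c) ∣ Nat.card (opp t M) :=
      (orderOf_map_dvd f c).trans (by
        rw [← Subgroup.orderOf_coe, ← Subgroup.orderOf_mk (c : G) hco]
        exact orderOf_dvd_natCard _)
    have h3 : f c = 1 := orderOf_eq_one_iff.mp
      (Nat.eq_one_of_dvd_coprimes ((opp_coprime t M).pow_right n) h2 h1)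
    rw [hc, map_mul, map_mul, map_mul, map_inv, map_inv, mul_inv_eq_one, mul_inv_eq_iff_eq_mul]
      at h3
    exact h3.symm

/-- The transitivity-hypothesis containment. -/
theorem le_piCoreOf_of_inv (hnp : ∀ t : ℕ, ∃ r : ℕ, r.Prime ∧ r ≠ t ∧
      r ∣ Nat.card (fittingOf M))
    {X : Subgroup G} (hX : X ≠ ⊤) (hAX : A ≤ X) {W : Subgroup G} (hWX : W ≤ X)
    (hW : BGSigma.IsPiSub (fitPi M) W) (hAW : A ≤ Subgroup.normalizer (W : Set G)) :
    W ≤ piCoreOf (fitPi M) X := by
  haveI := BGSigma.isSolvable_of_ne_top hG hX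
  set D := piCore (fitPi M) X with hD
  set f := QuotientGroup.mk' D with hf
  haveI : Group.IsSolvable (X ⧸ D) :=
    Group.isSolvable_of_surjective (QuotientGroup.mk'_surjective D)
  set W' := (W.subgroupOf X).map f with hW'
  have hW'π : BGSigma.IsPiSub (fitPi M) W' := hW.subgroupOf.map f
  have hcore : ∀ s : ℕ, s.Prime → ¬ s ∣ Nat.card (fittingOf M) → pCore s (X ⧸ D) = ⊥ := by
    intro s hs hnd
    haveI := Fact.mk hs
    refine le_bot_iff.mp ?_
    rw [← piCore_quotient_piCore (H := X) (fitPi M)]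
    exact BGSigma.le_piCore inferInstance
      (isPiSub_of_isPGroup (π := fitPi M) ⟨hs, hnd⟩ Thompson.isPGroup_pCore)
  have hcent : ∀ t : ℕ, t.Prime → pCore t (X ⧸ D) ≤ Subgroup.centralizer (W' : Set (X ⧸ D)) := by
    intro t ht
    haveI := Fact.mk ht
    by_cases htd : t ∣ Nat.card (fittingOf M)
    swap
    · rw [hcore t ht htd]; exact bot_le
    obtain ⟨r, hr, hrt, hrd⟩ := hnp t
    haveI := Fact.mk hr
    set Z := zCore r M with hZ
    have hZA : Z ≤ A := hzA r hr
    have hZW : Z ≤ Subgroup.normalizer (W : Set G) := hZA.trans hAW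
    haveI := zCore_isMulCommutative r M
    have hcop : (Nat.card Z).Coprime (Nat.card W) :=
      (coprime_of_isPiSub_notDvd hW).coprime_dvd_left
        (Subgroup.card_dvd_of_le (hZA.trans hAF))
    have hfix : W ⊓ Subgroup.centralizer (Z : Set G) = ⊥ :=
      eq_bot_of_le_centralizer_zCore hG hM hAF hCA (hW.mono_le inf_le_left)
        (Coprime.le_normalizer_inf hAW (Coprime.le_normalizer_centralizer
          (le_normalizer_zCore r M |> (hAF.trans (fittingOf_le M)).trans)))
        hrd inf_le_right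
    have hWZ := Coprime.commutator_sup_centralizer Z W hZW hcop
      (Or.inl (Group.isSolvable_of_comm fun a b => mul_comm' a b))
    rw [hfix, sup_bot_eq] at hWZ
    set C := (Subgroup.centralizer (pCore t (X ⧸ D) : Set (X ⧸ D))).comap f with hC
    haveI : C.Normal := Subgroup.Normal.comap inferInstance f
    have hZC : Z.subgroupOf X ≤ C := by
      intro z hz
      refine Subgroup.mem_centralizer_iff.mpr fun u hu => ?_
      refine (Subgroup.mem_centralizer_iff.mp
        (tPrime_centralizes_pCore hG hM hAF hCA hzA hX hAX htd hu) (f z) ⟨z, ?_, rfl⟩).symm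
      exact ⟨hZA hz, core_le_opp hrt M (zCore_le_core r M hz)⟩
    have hWC : W ≤ C.map X.subtype := by
      rw [← hWZ, Subgroup.commutator_le]
      intro w hw z hz
      have hzX : z ∈ X := hAX (hZA hz)
      refine ⟨⟨w, hWX hw⟩ * ⟨z, hzX⟩ * ⟨w, hWX hw⟩⁻¹ * ⟨z, hzX⟩⁻¹, ?_, rfl⟩
      exact mul_mem (Subgroup.Normal.conj_mem inferInstance _
        (hZC (show (⟨z, hzX⟩ : X) ∈ Z.subgroupOf X from hz)) _)
        (inv_mem (hZC (show (⟨z, hzX⟩ : X) ∈ Z.subgroupOf X from hz)))
    refine Subgroup.le_centralizer_iff.mp ?_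
    rintro _ ⟨w, hw, rfl⟩
    exact (le_map_subtype_iff hWX).mp hWC hw
  have hWF : W' ≤ fittingSubgroup (X ⧸ D) := by
    refine le_trans ?_ Fitting.centralizer_fitting_le
    rw [Subgroup.le_centralizer_iff, Fitting.fitting_eq_iSup_pCore]
    exact iSup_le fun t => hcent t t.2
  have hW0 : W' = ⊥ := by
    refine Subgroup.eq_bot_of_card_eq _ (Nat.eq_one_iff_not_exists_prime_dvd.mpr fun s hs hd => ?_)
    haveI := Fact.mk hs
    obtain ⟨y, hy⟩ := exists_prime_orderOf_dvd_card' s hd
    have hm := FG72.mem_pCore_of_fitting (r := s) (hWF y.2) (j := 1)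
      (by rw [Subgroup.orderOf_coe, hy, pow_one])
    rw [hcore s hs (hW'π s hs hd).2, Subgroup.mem_bot] at hm
    rw [← Subgroup.orderOf_coe, hm, orderOf_one] at hy
    exact hs.ne_one hy.symm
  refine (le_map_subtype_iff hWX).mpr ?_
  rwa [hW', Subgroup.map_eq_bot_iff, QuotientGroup.ker_mk'] at hW0

omit hG hM hCA in
theorem fitPi_eq : primesNotDvd (Nat.card A) = fitPi M := by
  ext s
  simp only [fitPi, primesNotDvd, Set.mem_ofPred_eq, and_congr_right_iff]
  intro hs
  rw [not_iff_not]
  refine ⟨fun h => h.trans (Subgroup.card_dvd_of_le hAF), fun h => ?_⟩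
  haveI := Fact.mk hs
  obtain ⟨n, hn⟩ := (isPGroup_zCore s M).exists_card_eq
  refine dvd_trans ?_ (Subgroup.card_dvd_of_le (hzA s hs))
  rw [hn]
  exact dvd_pow_self s fun h0 => zCore_ne_bot (core_ne_bot_of_dvd h)
    (Subgroup.eq_bot_of_card_eq _ (by rw [hn, h0, pow_zero]))

theorem transitivityHypothesis (hnp : ∀ t : ℕ, ∃ r : ℕ, r.Prime ∧ r ≠ t ∧
      r ∣ Nat.card (fittingOf M)) : TransitivityHypothesis A := by
  obtain ⟨r, hr, -, hrd⟩ := hnp 0
  haveI := Fact.mk hr
  refine ⟨fun h => zCore_ne_bot (core_ne_bot_of_dvd hrd) (le_bot_iff.mp (h ▸ hzA r hr)),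
    fun h => hM.1 (top_le_iff.mp (h.symm.le.trans (hAF.trans (fittingOf_le M)))),
    fun X hX hAX => ?_⟩
  rw [fitPi_eq hAF hzA]
  refine le_antisymm (sSup_le ?_) (le_sSup ⟨BGSigma.piCoreOf_le X, BGSigma.isPiSub_piCoreOf X,
    hAX.trans (Subgroup.le_normalizer.trans (BGSigma.piCoreOf_normalized X))⟩)
  rintro W ⟨hWX, hW, hAW⟩
  exact le_piCoreOf_of_inv hG hM hAF hCA hzA hnp hX hAX hWX hW hAW

variable (hZ3 : ¬ RankLE 2 ↥(A ⊓ Subgroup.centralizer (A : Set G)))
  (hnp : ∀ t : ℕ, ∃ r : ℕ, r.Prime ∧ r ≠ t ∧ r ∣ Nat.card (fittingOf M))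
include hZ3 hnp

/-- Every `A`-invariant `π'`-subgroup is trivial. -/
theorem inv_eq_bot {W : Subgroup G} (hW : BGSigma.IsPiSub (fitPi M) W)
    (hAW : A ≤ Subgroup.normalizer (W : Set G)) : W = ⊥ := by
  have hTH := transitivityHypothesis hG hM hAF hCA hzA hnp
  have hπ := fitPi_eq hAF hzA
  obtain ⟨r, hr, -, hrd⟩ := hnp 0
  haveI := Fact.mk hr
  have hK : coreK A = ⊥ := by
    refine eq_bot_of_le_centralizer_zCore hG hM hAF hCA ?_ ?_ hrd
      ((BGSigma.piCoreOf_le _).trans (Subgroup.centralizer_le (hzA r hr)))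
    · rw [← hπ]; exact BGSigma.isPiSub_piCoreOf _
    · exact (Subgroup.le_centralizer_iff.mp (BGSigma.piCoreOf_le _)).trans
        (Subgroup.centralizer_le_normalizer _)
  refine le_bot_iff.mp (le_of_invariant_sylows hAW ?_
    (Coprime.solvable_of_le (hAF.trans (fittingOf_le M)) (BGSigma.coatom_isSolvable hG hM))
    fun q hq S hSW hSq hAS => ?_)
  · exact (coprime_of_isPiSub_notDvd hW).coprime_dvd_left (Subgroup.card_dvd_of_le hAF)
  haveI := Fact.mk hq
  rcases eq_or_ne S ⊥ with rfl | hS0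
  · exact le_rfl
  have hqπ : q ∈ fitPi M := by
    obtain ⟨n, hn⟩ := hSq.exists_card_eq
    refine hW q hq (dvd_trans ?_ (Subgroup.card_dvd_of_le hSW))
    rw [hn]
    exact dvd_pow_self q fun h0 => hS0 (Subgroup.eq_bot_of_card_eq _ (by rw [hn, h0, pow_zero]))
  have hqA : ¬ q ∣ Nat.card A := by
    rw [← hπ] at hqπ
    exact hqπ.2
  obtain ⟨R, hR, hSR⟩ := exists_max_ge (A := A) (π := {q}) (Y := S)
    ⟨le_top, isPiSub_of_isPGroup (Set.mem_singleton q) hSq, hAS⟩
  have htr := transitive_of_center_rank_three hG hTH hqA hZ3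
  haveI := isNilpotent_fittingOf M
  obtain ⟨hsub, htrF⟩ := transitive_of_subnormal hG hTH hqA (P := fittingOf M)
    (fun s hs hd => by
      by_contra hn
      have : s ∈ primesNotDvd (Nat.card A) := ⟨hs, hn⟩
      rw [hπ] at this
      exact this.2 hd)
    hAF (Subnormal.isSubnormal_of_isNilpotent _) htr
  obtain ⟨Q, hQ, -⟩ := exists_max_ge (bot_mem_invSubgroups (fittingOf M) {q})
  have hQ0 : Q = ⊥ := by
    by_contra hne
    have hMQ : M ≤ Subgroup.normalizer (Q : Set G) := by
      intro g hg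
      obtain ⟨k, hk, hkQ⟩ := htrF Q hQ _ (map_conj_mem_max (le_normalizer_fittingOf M hg) hQ)
      have hk1 : k = 1 := Subgroup.mem_bot.mp (hK ▸ hk.1)
      rw [hk1, map_conj_one] at hkQ
      rw [map_conj_eq_self_iff, hkQ]
    have hQq := isPGroup_of_isPiSub_singleton hQ.1.2.1
    have hQM : Q ≤ M := by
      have := BGSigma.normalizer_ne_top hG hne (ne_top_of_isPGroup hG hQq)
      rw [← (hM.le_iff.mp hMQ).resolve_left this]
      exact Subgroup.le_normalizer
    have hQc : Q ≤ core q M := (le_map_subtype_iff hQM).mpr (Thompson.le_pCore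
      ((Subgroup.normal_subgroupOf_iff_le_normalizer hQM).mpr hMQ) hQq.comap_subtype)
    exact hqπ.2 (dvd_card_fittingOf_of_core_ne_bot fun h => hne (le_bot_iff.mp (h ▸ hQc)))
  obtain ⟨k, -, rfl⟩ := htr Q (hsub hQ) R hR
  rw [hQ0, Subgroup.map_bot] at hSR
  exact hSR

/-- The `p'`-cores for all the primes of `F(M)` meet trivially in a group containing `A`. -/
theorem eq_one_of_forall_mem_opp {K : Subgroup G} (hAK : A ≤ K) {t : ℕ} (ht : t.Prime)
    {c : G} (hc : c ∈ opp t K)
    (h : ∀ r : ℕ, r.Prime → r ∣ Nat.card (fittingOf M) → r ≠ t → c ∈ opp r K) : c = 1 := by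
  set Y := opp t K ⊓
    ⨅ r : {r : ℕ // r.Prime ∧ r ∣ Nat.card (fittingOf M) ∧ r ≠ t}, opp (r : ℕ) K with hY
  have hcY : c ∈ Y := ⟨hc, Subgroup.mem_iInf.mpr fun r => h r r.2.1 r.2.2.1 r.2.2.2⟩
  have hYπ : BGSigma.IsPiSub (fitPi M) Y := by
    intro s hs hd
    refine ⟨hs, fun hsF => ?_⟩
    have key : ∀ Y' : Subgroup G, Y ≤ Y' → ¬ (Nat.card Y').Coprime s := fun Y' hle hco =>
      hs.ne_one (Nat.eq_one_of_dvd_coprimes hco (hd.trans (Subgroup.card_dvd_of_le hle)) dvd_rfl)
    rcases eq_or_ne s t with rfl | hst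
    · exact key (opp s K) inf_le_left (opp_coprime s K)
    · exact key (opp s K) (inf_le_right.trans (iInf_le (fun r :
        {r : ℕ // r.Prime ∧ r ∣ Nat.card (fittingOf M) ∧ r ≠ t} => opp (r : ℕ) K)
          ⟨s, hs, hsF, hst⟩)) (opp_coprime s K)
  have hAY : A ≤ Subgroup.normalizer (Y : Set G) := by
    refine Coprime.le_normalizer_inf (hAK.trans (le_normalizer_opp t K))
      (Coprime.le_normalizer_of_conj_mem fun a ha x hx => Subgroup.mem_iInf.mpr fun r => ?_)
    exact (Subgroup.mem_normalizer_iff.mp (le_normalizer_opp (r : ℕ) K (hAK ha)) x).mp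
      (Subgroup.mem_iInf.mp hx r)
  rw [inv_eq_bot hG hM hAF hCA hzA hZ3 hnp hYπ hAY] at hcY
  exact Subgroup.mem_bot.mp hcY

/-- **Bender's method**: `M` is the only maximal subgroup containing `A`. -/
theorem eq_of_le_of_nonP {L : Subgroup G} (hL : IsCoatom L) (hAL : A ≤ L) : L = M := by
  have hAM : A ≤ M := hAF.trans (fittingOf_le M)
  haveI hLs := BGSigma.coatom_isSolvable hG hL
  haveI hMs := BGSigma.coatom_isSolvable hG hM
  set F := fittingOf M with hFdef
  -- `O_{π'}(L) = 1`
  have hLbot : piCore (fitPi M) L = ⊥ := by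
    have h := inv_eq_bot hG hM hAF hCA hzA hZ3 hnp (BGSigma.isPiSub_piCoreOf L)
      (hAL.trans (Subgroup.le_normalizer.trans (BGSigma.piCoreOf_normalized L)))
    rw [piCoreOf, Subgroup.map_eq_bot_iff_of_injective _ L.subtype_injective] at h
    exact h
  have hdvdL : ∀ t : ℕ, t.Prime → core t L ≠ ⊥ → t ∣ Nat.card F := by
    intro t ht hne
    by_contra hnd
    haveI := Fact.mk ht
    refine hne ?_
    rw [core, Subgroup.map_eq_bot_iff_of_injective _ L.subtype_injective, ← le_bot_iff, ← hLbot]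
    exact BGSigma.le_piCore inferInstance
      (isPiSub_of_isPGroup (π := fitPi M) ⟨ht, hnd⟩ Thompson.isPGroup_pCore)
  -- the `t'`-part of `A` centralizes `O_t(L)`
  have hAt : ∀ t : ℕ, t.Prime → t ∣ Nat.card F →
      core t L ≤ Subgroup.centralizer ((A ⊓ opp t M : Subgroup G) : Set G) := by
    intro t ht htd x hx
    haveI := Fact.mk ht
    obtain ⟨y, hy, rfl⟩ := hx
    refine Subgroup.mem_centralizer_iff.mpr fun a ha => ?_
    have h1 := Subgroup.mem_centralizer_iff.mp
      (tPrime_centralizes_pCore hG hM hAF hCA hzA hL.1 hAL htd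
        (Thompson.map_pCore_le_of_surjective _ (QuotientGroup.mk'_surjective _) ⟨y, hy, rfl⟩))
      _ ⟨⟨a, hAL ha.1⟩, ha, rfl⟩
    rw [← map_mul, ← map_mul] at h1
    have hinj : Function.Injective (QuotientGroup.mk' (piCore (fitPi M) L)) := by
      rw [← MonoidHom.ker_eq_bot_iff, QuotientGroup.ker_mk', hLbot]
    exact congrArg Subtype.val (hinj h1)
  have hcoreM : ∀ t : ℕ, t.Prime → core t L ≤ M := by
    intro t ht
    rcases eq_or_ne (core t L) ⊥ with h | h
    · rw [h]; exact bot_le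
    obtain ⟨r, hr, hrt, hrd⟩ := hnp t
    haveI := Fact.mk hr; haveI := Fact.mk ht
    refine ((hAt t ht (hdvdL t ht h)).trans (Subgroup.centralizer_le fun z hz => ?_)).trans
      (centralizer_zCore_le hG hM hrd)
    exact ⟨hzA r hr hz, core_le_opp hrt M (zCore_le_core r M hz)⟩
  -- `O_t(L)` centralizes the `t'`-part of `F`
  have hFt : ∀ t : ℕ, t.Prime → t ∣ Nat.card F →
      core t L ≤ Subgroup.centralizer ((F ⊓ opp t M : Subgroup G) : Set G) := by
    intro t ht htd
    haveI := Fact.mk ht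
    refine le_centralizer_of_selfCentralizing
      (Fitting.isNilpotent_of_le (isNilpotent_fittingOf M) inf_le_left)
      (A := A ⊓ opp t M) (inf_le_inf_right _ hAF) ?_
      ((hcoreM t ht).trans (Coprime.le_normalizer_inf (le_normalizer_fittingOf M)
        (le_normalizer_opp t M))) ?_ (hAt t ht htd)
    · rintro x ⟨⟨hxF, hxo⟩, hxC⟩
      refine ⟨hCA ⟨hxF, Subgroup.mem_centralizer_iff.mpr fun a ha => ?_⟩, hxo⟩
      refine Subgroup.mem_centralizer_singleton_iff.mp
        (FG72.mem_of_forall_primePow (Subgroup.centralizer ({x} : Set G)) a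
          fun r hr j _ i hj => Subgroup.mem_centralizer_singleton_iff.mpr ?_)
      haveI := Fact.mk hr
      have hb : a ^ i ∈ core r M := mem_core_of_mem_fittingOf (hAF (pow_mem ha i)) hj
      rcases eq_or_ne r t with rfl | hrt
      · refine mul_comm_of_normalized_coprime (core_le r M) (opp_le r M)
          (le_normalizer_core r M) (le_normalizer_opp r M) ?_ hb hxo
        obtain ⟨n, hn⟩ := (isPGroup_core r M).exists_card_eq
        rw [hn]
        exact Nat.Coprime.pow_left n (opp_coprime r M).symm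
      · exact Subgroup.mem_centralizer_iff.mp hxC _ ⟨pow_mem ha i, core_le_opp hrt M hb⟩
    · obtain ⟨n, hn⟩ := (isPGroup_core t L).exists_card_eq
      rw [hn]
      exact Nat.Coprime.pow_left n ((opp_coprime t M).coprime_dvd_left
        (Subgroup.card_dvd_of_le inf_le_right)).symm
  have hFL : ∀ t : ℕ, t.Prime → core t L ≠ ⊥ → F ⊓ opp t M ≤ L := by
    intro t ht hne
    refine (Subgroup.le_centralizer_iff.mp (hFt t ht (hdvdL t ht hne))).trans ?_
    exact (Subgroup.centralizer_le_normalizer _).trans_eq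
      (BGSigma.normalizer_eq_coatom hG hL (core_le t L) hne (le_normalizer_core t L))
  have hcomm : ∀ t s : ℕ, t.Prime → s.Prime → s ≠ t →
      core t M ≤ Subgroup.centralizer (core s L : Set G) := by
    intro t s ht hs hst
    rcases eq_or_ne (core s L) ⊥ with h | h
    · rw [h]; exact Subgroup.le_centralizer_iff.mp bot_le
    haveI := Fact.mk ht; haveI := Fact.mk hs
    exact (le_inf (core_le_fittingOf t M) (core_le_opp hst.symm M)).trans
      (Subgroup.le_centralizer_iff.mp (hFt s hs (hdvdL s hs h)))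
  -- `F(L)` has the same primes as `F`
  obtain ⟨s₀, hs₀, hs₀ne⟩ : ∃ s : ℕ, s.Prime ∧ core s L ≠ ⊥ := by
    by_contra hno
    push Not at hno
    have hF0 : fittingOf L ≤ ⊥ := fittingOf_le_of_core_le fun s hs => (hno s hs).le
    refine BGSigma.coatom_ne_bot hG hL (le_bot_iff.mp (le_trans ?_ hF0))
    exact le_trans (le_inf le_rfl (Subgroup.le_centralizer_iff.mp (hF0.trans bot_le)))
      (inf_centralizer_fittingOf_le hLs)
  have hLne : ∀ t : ℕ, t.Prime → t ∣ Nat.card F → core t L ≠ ⊥ := by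
    intro t ht htd h0
    haveI := Fact.mk ht; haveI := Fact.mk hs₀
    have hts : t ≠ s₀ := by rintro rfl; exact hs₀ne h0
    have h1 : core t M ≤ L :=
      (le_inf (core_le_fittingOf t M) (core_le_opp hts M)).trans (hFL s₀ hs₀ hs₀ne)
    have h2 : core t M ≤ fittingOf L := by
      refine le_trans (le_inf h1 (Subgroup.le_centralizer_iff.mp
        (fittingOf_le_of_core_le fun s hs => ?_))) (inf_centralizer_fittingOf_le hLs)
      rcases eq_or_ne s t with rfl | hst
      · rw [h0]; exact bot_le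
      · exact Subgroup.le_centralizer_iff.mp (hcomm t s ht hs hst)
    refine core_ne_bot_of_dvd htd (le_bot_iff.mp fun x hx => ?_)
    obtain ⟨n, hn⟩ := isPGroup_core t M ⟨x, hx⟩
    obtain ⟨j, -, hj⟩ := (Nat.dvd_prime_pow ht).mp
      (orderOf_dvd_of_pow_eq_one (congrArg Subtype.val hn : x ^ t ^ n = 1))
    exact h0 ▸ mem_core_of_mem_fittingOf (h2 hx) hj
  have hML : ∀ t : ℕ, t.Prime → core t M ≤ L := by
    intro t ht
    rcases eq_or_ne (core t M) ⊥ with h | h
    · rw [h]; exact bot_le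
    obtain ⟨s, hs, hst, hsd⟩ := hnp t
    haveI := Fact.mk ht; haveI := Fact.mk hs
    exact (le_inf (core_le_fittingOf t M) (core_le_opp hst.symm M)).trans
      (hFL s hs (hLne s hs hsd))
  -- balance
  have hbal₁ : ∀ t r : ℕ, t.Prime → r.Prime → r ∣ Nat.card F → r ≠ t →
      core t M ≤ opp r L := by
    intro t r ht hr hrd hrt
    haveI := Fact.mk ht; haveI := Fact.mk hr
    refine le_opp_of_centralizing hLs ((hzA r hr).trans hAL) (isPGroup_zCore r M) (hML t ht) ?_
      ((core_le_fittingOf t M).trans (fittingOf_le_centralizer_zCore r M))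
      (inf_le_right.trans ((centralizer_zCore_le hG hM hrd).trans (le_normalizer_core t M)))
    obtain ⟨n, hn⟩ := (isPGroup_core t M).exists_card_eq
    rw [hn]
    exact Nat.Coprime.pow_left n ((Nat.coprime_primes ht hr).mpr hrt.symm)
  have hbal₂ : ∀ t r : ℕ, t.Prime → r.Prime → r ∣ Nat.card F → r ≠ t →
      core t L ≤ opp r M := by
    intro t r ht hr hrd hrt
    haveI := Fact.mk ht; haveI := Fact.mk hr
    refine le_opp_of_centralizing hMs ((zCore_le_core r L).trans (hcoreM r hr))
      (isPGroup_zCore r L) (hcoreM t ht) ?_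
      ((core_le_fittingOf t L).trans (fittingOf_le_centralizer_zCore r L))
      (inf_le_right.trans (((Subgroup.centralizer_le_normalizer _).trans_eq
        (BGSigma.normalizer_eq_coatom hG hL ((zCore_le_core r L).trans (core_le r L))
          (zCore_ne_bot (hLne r hr hrd)) (le_normalizer_zCore r L))).trans
            (le_normalizer_core t L)))
    obtain ⟨n, hn⟩ := (isPGroup_core t L).exists_card_eq
    rw [hn]
    exact Nat.Coprime.pow_left n ((Nat.coprime_primes ht hr).mpr hrt.symm)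
  obtain ⟨t, ht, -, htd⟩ := hnp 0
  haveI := Fact.mk ht
  obtain ⟨r, hr, hrt, hrd⟩ := hnp t
  haveI := Fact.mk hr
  set X := opp t L with hX
  set X' := opp t M with hX'
  -- `O_{t'}` of one centralizes `O_t` of the other
  have hcent : ∀ {K K' : Subgroup G}, A ≤ K → core t K' ≤ K →
      (∀ s : ℕ, s.Prime → s ∣ Nat.card F → s ≠ t → core t K' ≤ opp s K) →
      opp t K ≤ Subgroup.centralizer (core t K' : Set G) := by
    intro K K' hAK hK' hb x hx
    refine Subgroup.mem_centralizer_iff.mpr fun y hy => ?_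
    have h1 : x * y * x⁻¹ * y⁻¹ = 1 := by
      refine eq_one_of_forall_mem_opp hG hM hAF hCA hzA hZ3 hnp hAK ht ?_ ?_
      · rw [mul_assoc x y, mul_assoc]
        exact mul_mem hx ((Subgroup.mem_normalizer_iff.mp
          (le_normalizer_opp t K (hK' hy)) x⁻¹).mp (inv_mem hx))
      · intro s hs hsd hst
        exact mul_mem ((Subgroup.mem_normalizer_iff.mp
          (le_normalizer_opp s K (opp_le t K hx)) y).mp (hb s hs hsd hst hy))
          (inv_mem (hb s hs hsd hst hy))
    rw [mul_inv_eq_one, mul_inv_eq_iff_eq_mul] at h1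
    exact h1.symm
  have hXc : X ≤ Subgroup.centralizer (core t M : Set G) :=
    hcent hAL (hML t ht) fun s hs hsd hst => hbal₁ t s ht hs hsd hst
  have hX'c : X' ≤ Subgroup.centralizer (core t L : Set G) :=
    hcent hAM (hcoreM t ht) fun s hs hsd hst => hbal₂ t s ht hs hsd hst
  have hMne : core t M ≠ ⊥ := core_ne_bot_of_dvd htd
  have hCM : Subgroup.centralizer (core t M : Set G) ≤ M :=
    (Subgroup.centralizer_le_normalizer _).trans_eq
      (BGSigma.normalizer_eq_coatom hG hM (core_le t M) hMne (le_normalizer_core t M))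
  have hCL : Subgroup.centralizer (core t L : Set G) ≤ L :=
    (Subgroup.centralizer_le_normalizer _).trans_eq
      (BGSigma.normalizer_eq_coatom hG hL (core_le t L) (hLne t ht htd) (le_normalizer_core t L))
  have hself : ∀ K : Subgroup G, opp t K ≤ Subgroup.centralizer (core t K : Set G) := by
    intro K x hx
    refine Subgroup.mem_centralizer_iff.mpr fun y hy => ?_
    refine mul_comm_of_normalized_coprime (core_le t K) (opp_le t K) (le_normalizer_core t K)
      (le_normalizer_opp t K) ?_ hy hx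
    obtain ⟨n, hn⟩ := (isPGroup_core t K).exists_card_eq
    rw [hn]
    exact Nat.Coprime.pow_left n (opp_coprime t K).symm
  set Z := core t L ⊔ core t M with hZdef
  have hZp : IsPGroup t Z := IsPGroup.to_sup_of_normal_right' (isPGroup_core t L)
    (isPGroup_core t M) ((hcoreM t ht).trans (le_normalizer_core t M))
  have hZC : ∀ {Y : Subgroup G}, Y ≤ Subgroup.centralizer (core t L : Set G) →
      Y ≤ Subgroup.centralizer (core t M : Set G) → Y ≤ Subgroup.centralizer (Z : Set G) :=
    fun h1 h2 => Subgroup.le_centralizer_iff.mp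
      (sup_le (Subgroup.le_centralizer_iff.mp h1) (Subgroup.le_centralizer_iff.mp h2))
  have hle₁ : X ≤ X' :=
    le_opp_of_centralizing hMs (sup_le (hcoreM t ht) (core_le t M)) hZp (hXc.trans hCM)
      (opp_coprime t L) (hZC (hself L) hXc)
      (inf_le_right.trans (((Subgroup.centralizer_le (SetLike.coe_subset_coe.mpr le_sup_left)).trans hCL).trans
        (le_normalizer_opp t L)))
  have hle₂ : X' ≤ X :=
    le_opp_of_centralizing hLs (sup_le (core_le t L) (hML t ht)) hZp (hX'c.trans hCL)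
      (opp_coprime t M) (hZC hX'c (hself M))
      (inf_le_right.trans (((Subgroup.centralizer_le (SetLike.coe_subset_coe.mpr le_sup_right)).trans hCM).trans
        (le_normalizer_opp t M)))
  have hXX' : X = X' := le_antisymm hle₁ hle₂
  have hX'ne : X' ≠ ⊥ := fun h =>
    core_ne_bot_of_dvd hrd (le_bot_iff.mp (h ▸ core_le_opp hrt M))
  rw [← BGSigma.normalizer_eq_coatom hG hM (opp_le t M) hX'ne (le_normalizer_opp t M), ← hX',
    ← hXX', BGSigma.normalizer_eq_coatom hG hL (opp_le t L) (show X ≠ ⊥ from hXX'.symm ▸ hX'ne) (le_normalizer_opp t L)]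

end NonP

end Cfsg.Agent.BGUniq
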