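import Cfsg.Agent.BGUniq.MinSimple
import Cfsg.Agent.OddLocal44.Stability

/-!
Consequences of odd-order `p`-stability in the ambient-subgroup language used here.
-/

set_option autoImplicit false

namespace Cfsg.Agent.BGUniq

open Cfsg

variable {G : Type*} [Group G] [Finite G] {p : ℕ} [hp : Fact p.Prime]

/-- An abelian normal subgroup of a Sylow `p`-subgroup of a solvable subgroup `X` of odd order
lies in `O_{p',p}(X)`. -/
theorem abelian_normal_le_oppP {X R A : Subgroup G} (hX : Group.IsSolvable X)
    (hodd : Odd (Nat.card X)) (hR : IsSylowIn p R X) (hAR : A ≤ R) (hAc : IsMulCommutative A)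
    (hAn : R ≤ Subgroup.normalizer (A : Set G)) : A ≤ oppP p X := by
  haveI := hX
  obtain ⟨S, hS⟩ := subgroupOf_le_sylow hR
  have hAX : A ≤ X := hAR.trans hR.1
  refine (le_map_subtype_iff hAX).mpr
    (OddLocal44.abelian_normal_of_sylow_le_pPrimePCore hodd S _ ?_ ?_ ?_)
  · rw [hS]; exact Subgroup.comap_mono hAR
  · haveI := hAc
    exact Subgroup.subgroupOf_isMulCommutative X A
  · rw [hS]
    intro x hx
    have h1 := Subgroup.mem_normalizer_iff.mp (hAn (show (x : G) ∈ R from hx))
    rw [Subgroup.mem_normalizer_iff]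
    intro y
    exact h1 y

end Cfsg.Agent.BGUniq
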