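import Cfsg.Agent.BGUniq.FittingUniq
import Cfsg.Agent.BGSummary.FittingHallTheorems
import Cfsg.Agent.FGS77.SolvSup

/-!
The unique invariant Sylow subgroup of a solvable group normalized by a self-centralizing subgroup
of the Fitting subgroup of a maximal local subgroup.
-/

set_option autoImplicit false
set_option linter.unusedSectionVars false

namespace Cfsg.Agent.BGUniq.InvariantUnique

open Cfsg Cfsg.Agent.BGUniq

variable {G : Type*} [Group G] [Finite G]

section Core

variable {M : Subgroup G} {A : Subgroup G} (hAF : A ≤ fittingOf M)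
  (hCA : fittingOf M ⊓ Subgroup.centralizer (A : Set G) ≤ A)
  (hzA : ∀ r : ℕ, r.Prime → zCore r M ≤ A)
  {X : Subgroup G} (hXs : Group.IsSolvable X) (hAX : A ≤ X)
  (hCZ : ∀ r : ℕ, ∀ [Fact r.Prime], r ∣ Nat.card (fittingOf M) →
    Subgroup.centralizer (zCore r M : Set G) ≤ M)
  (hXF : X ⊓ (M ⊓ Subgroup.centralizer (fittingOf M : Set G)) ≤ fittingOf M)

include hAF hCA hCZ hXF in
/-- An invariant `π'`-subgroup centralizing some `Z(O_r(F))` is trivial. -/
theorem eq_bot_of_le_centralizer_zCore {W : Subgroup G} (hW : BGSigma.IsPiSub (fitPi M) W)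
    (hAW : A ≤ Subgroup.normalizer (W : Set G)) {r : ℕ} [Fact r.Prime]
    (hr : r ∣ Nat.card (fittingOf M))
    (hWX : W ≤ X) (hWr : W ≤ Subgroup.centralizer (zCore r M : Set G)) : W = ⊥ := by
  have hWM : W ≤ M := hWr.trans (hCZ r hr)
  have hcop := coprime_of_isPiSub_notDvd hW
  have hinf : fittingOf M ⊓ W = ⊥ := Subgroup.inf_eq_bot_of_coprime hcop
  have hWA : W ≤ Subgroup.centralizer (A : Set G) := by
    intro w hw
    refine Subgroup.mem_centralizer_iff.mpr fun a ha => ?_
    have h : w * a * w⁻¹ * a⁻¹ ∈ fittingOf M ⊓ W := by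
      refine Subgroup.mem_inf.mpr ⟨mul_mem ((Subgroup.mem_normalizer_iff.mp
        (le_normalizer_fittingOf M (hWM hw)) a).mp (hAF ha)) (inv_mem (hAF ha)), ?_⟩
      rw [mul_assoc w a, mul_assoc w (a * w⁻¹)]
      exact mul_mem hw ((Subgroup.mem_normalizer_iff.mp (hAW ha) w⁻¹).mp (inv_mem hw))
    rw [hinf, Subgroup.mem_bot, mul_inv_eq_one, mul_inv_eq_iff_eq_mul] at h
    exact h.symm
  have hC := le_centralizer_of_selfCentralizing (isNilpotent_fittingOf M) hAF hCA
    (hWM.trans (le_normalizer_fittingOf M)) hcop.symm hWA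
  have hle : W ≤ fittingOf M := (le_inf hWX (le_inf hWM hC)).trans hXF
  exact le_bot_iff.mp (hinf ▸ le_inf hle le_rfl)

include hAF hzA hAX hCZ in
/-- In `X/O_{π'}(X)`, the `t'`-part of `A` centralizes `O_t`. -/
theorem tPrime_centralizes_pCore {t : ℕ}
    [ht : Fact t.Prime] (htd : t ∣ Nat.card (fittingOf M)) :
    pCore t (X ⧸ piCore (fitPi M) X) ≤ Subgroup.centralizer
      ((((A ⊓ opp t M).subgroupOf X).map (QuotientGroup.mk' (piCore (fitPi M) X)) :
        Subgroup (X ⧸ piCore (fitPi M) X)) : Set (X ⧸ piCore (fitPi M) X)) := by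
  set D := piCore (fitPi M) X with hD
  set f := QuotientGroup.mk' D with hf
  set Q := pCore t (X ⧸ D) with hQ
  have hQn : ∀ Y : Subgroup (X ⧸ D), Y ≤ Subgroup.normalizer (Q : Set (X ⧸ D)) := fun Y =>
    le_top.trans_eq (Subgroup.normalizer_eq_top _).symm
  have hzX : zCore t M ≤ X := (hzA t ht.out).trans hAX
  have hAtop : (Nat.card ↥((A ⊓ opp t M).subgroupOf X)).Coprime t :=
    card_subgroupOf_coprime X
      ((opp_coprime t M).coprime_dvd_left (Subgroup.card_dvd_of_le inf_le_right))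
  refine le_centralizer_of_pq (p := t) (A := ((zCore t M).subgroupOf X).map f)
    Thompson.isPGroup_pCore (((isPGroup_zCore t M).comap_subtype (K := X)).map f)
    (card_map_coprime f hAtop) (hQn _) (hQn _) ?_ ?_
  · rintro _ ⟨a, ha, rfl⟩
    refine Subgroup.mem_centralizer_iff.mpr ?_
    rintro _ ⟨z, hz, rfl⟩
    rw [← map_mul, ← map_mul]
    refine congrArg f (Subtype.ext ?_)
    exact (Subgroup.mem_centralizer_iff.mp (zCore_le_centralizer_fittingOf t M hz)
      (a : G) (hAF ha.1)).symm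
  · rintro u ⟨huQ, huC⟩
    obtain ⟨g, rfl⟩ := QuotientGroup.mk'_surjective D u
    obtain ⟨d, hd, hdg⟩ := exists_mul_mem_centralizer (p := t)
      (A := (zCore t M).subgroupOf X) (D := D) (isPGroup_zCore t M).comap_subtype
      (coprime_of_isPiSub_of_dvd ht.out htd BGSigma.isPiSub_piCore)
      (le_top.trans_eq (Subgroup.normalizer_eq_top _).symm) (g := g)
      (by rw [Subgroup.normalizer_eq_top]; trivial)
      (fun z hz => by
        rw [← QuotientGroup.eq_one_iff, ← QuotientGroup.mk'_apply]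
        simp only [map_mul, map_inv]
        rw [← Subgroup.mem_centralizer_iff.mp huC (f z) ⟨z, hz, rfl⟩, mul_inv_cancel_right,
          mul_inv_cancel])
    have hfd : f (d * g) = f g := by
      rw [map_mul, show f d = 1 from (QuotientGroup.eq_one_iff d).mpr hd, one_mul]
    set h := d * g with hh
    have hhM : (h : G) ∈ M :=
      hCZ t htd (Subgroup.mem_centralizer_iff.mpr fun z hz =>
        congrArg Subtype.val (Subgroup.mem_centralizer_iff.mp hdg ⟨z, hzX hz⟩ hz))
    rw [← hfd] at huQ ⊢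
    refine Subgroup.mem_centralizer_iff.mpr ?_
    rintro _ ⟨a, ha, rfl⟩
    set c := h * a * h⁻¹ * a⁻¹ with hc
    have hco : (c : G) ∈ opp t M :=
      mul_mem ((Subgroup.mem_normalizer_iff.mp (le_normalizer_opp t M hhM) (a : G)).mp ha.2)
        (inv_mem ha.2)
    have hcQ : f c ∈ Q := by
      rw [hc, mul_assoc h a, mul_assoc, map_mul]
      refine mul_mem huQ ?_
      rw [map_mul, map_mul, map_inv, map_inv]
      exact Thompson.instPCoreNormal.conj_mem _ (inv_mem huQ) (f a)
    obtain ⟨n, hn⟩ := (Thompson.isPGroup_pCore (p := t) (G := X ⧸ D)).exists_card_eq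
    have h1 : orderOf (f c) ∣ t ^ n := by
      rw [← hn, ← Subgroup.orderOf_mk (f c) hcQ]
      exact orderOf_dvd_natCard _
    have h2 : orderOf (f c) ∣ Nat.card (opp t M) :=
      (orderOf_map_dvd f c).trans (by
        rw [← Subgroup.orderOf_coe, ← Subgroup.orderOf_mk (c : G) hco]
        exact orderOf_dvd_natCard _)
    have h3 : f c = 1 := orderOf_eq_one_iff.mp
      (Nat.eq_one_of_dvd_coprimes ((opp_coprime t M).pow_right n) h2 h1)
    rw [hc, map_mul, map_mul, map_mul, map_inv, map_inv, mul_inv_eq_one, mul_inv_eq_iff_eq_mul]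
      at h3
    exact h3.symm

include hAF hCA hzA hXs hAX hCZ hXF in
/-- The transitivity-hypothesis containment. -/
theorem le_piCoreOf_of_inv (hnp : ∀ t : ℕ, ∃ r : ℕ, r.Prime ∧ r ≠ t ∧
      r ∣ Nat.card (fittingOf M))
    {W : Subgroup G} (hWX : W ≤ X)
    (hW : BGSigma.IsPiSub (fitPi M) W) (hAW : A ≤ Subgroup.normalizer (W : Set G)) :
    W ≤ piCoreOf (fitPi M) X := by
  haveI := hXs
  set D := piCore (fitPi M) X with hD
  set f := QuotientGroup.mk' D with hf
  haveI : Group.IsSolvable (X ⧸ D) :=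
    Group.isSolvable_of_surjective (QuotientGroup.mk'_surjective D)
  set W' := (W.subgroupOf X).map f with hW'
  have hW'π : BGSigma.IsPiSub (fitPi M) W' := hW.subgroupOf.map f
  have hcore : ∀ s : ℕ, s.Prime → ¬ s ∣ Nat.card (fittingOf M) → pCore s (X ⧸ D) = ⊥ := by
    intro s hs hnd
    haveI := Fact.mk hs
    refine le_bot_iff.mp ?_
    rw [← piCore_quotient_piCore (H := X) (fitPi M)]
    exact BGSigma.le_piCore inferInstance
      (isPiSub_of_isPGroup (π := fitPi M) ⟨hs, hnd⟩ Thompson.isPGroup_pCore)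
  have hcent : ∀ t : ℕ, t.Prime → pCore t (X ⧸ D) ≤ Subgroup.centralizer (W' : Set (X ⧸ D)) := by
    intro t ht
    haveI := Fact.mk ht
    by_cases htd : t ∣ Nat.card (fittingOf M)
    swap
    · rw [hcore t ht htd]; exact bot_le
    obtain ⟨r, hr, hrt, hrd⟩ := hnp t
    haveI := Fact.mk hr
    set Z := zCore r M with hZ
    have hZA : Z ≤ A := hzA r hr
    have hZW : Z ≤ Subgroup.normalizer (W : Set G) := hZA.trans hAW
    haveI := zCore_isMulCommutative r M
    have hcop : (Nat.card Z).Coprime (Nat.card W) :=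
      (coprime_of_isPiSub_notDvd hW).coprime_dvd_left
        (Subgroup.card_dvd_of_le (hZA.trans hAF))
    have hfix : W ⊓ Subgroup.centralizer (Z : Set G) = ⊥ :=
      eq_bot_of_le_centralizer_zCore hAF hCA hCZ hXF (hW.mono_le inf_le_left)
        (Coprime.le_normalizer_inf hAW (Coprime.le_normalizer_centralizer
          (le_normalizer_zCore r M |> (hAF.trans (fittingOf_le M)).trans)))
        hrd (inf_le_left.trans hWX) inf_le_right
    have hWZ := Coprime.commutator_sup_centralizer Z W hZW hcop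
      (Or.inl (Group.isSolvable_of_comm fun a b => mul_comm' a b))
    rw [hfix, sup_bot_eq] at hWZ
    set C := (Subgroup.centralizer (pCore t (X ⧸ D) : Set (X ⧸ D))).comap f with hC
    haveI : C.Normal := Subgroup.Normal.comap inferInstance f
    have hZC : Z.subgroupOf X ≤ C := by
      intro z hz
      refine Subgroup.mem_centralizer_iff.mpr fun u hu => ?_
      refine (Subgroup.mem_centralizer_iff.mp
        (tPrime_centralizes_pCore hAF hzA hAX hCZ htd hu) (f z) ⟨z, ?_, rfl⟩).symm
      exact ⟨hZA hz, core_le_opp hrt M (zCore_le_core r M hz)⟩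
    have hWC : W ≤ C.map X.subtype := by
      rw [← hWZ, Subgroup.commutator_le]
      intro w hw z hz
      have hzX : z ∈ X := hAX (hZA hz)
      refine ⟨⟨w, hWX hw⟩ * ⟨z, hzX⟩ * ⟨w, hWX hw⟩⁻¹ * ⟨z, hzX⟩⁻¹, ?_, rfl⟩
      exact mul_mem (Subgroup.Normal.conj_mem inferInstance _
        (hZC (show (⟨z, hzX⟩ : X) ∈ Z.subgroupOf X from hz)) _)
        (inv_mem (hZC (show (⟨z, hzX⟩ : X) ∈ Z.subgroupOf X from hz)))
    refine Subgroup.le_centralizer_iff.mp ?_
    rintro _ ⟨w, hw, rfl⟩
    exact (le_map_subtype_iff hWX).mp hWC hw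
  have hWF : W' ≤ fittingSubgroup (X ⧸ D) := by
    refine le_trans ?_ Fitting.centralizer_fitting_le
    rw [Subgroup.le_centralizer_iff, Fitting.fitting_eq_iSup_pCore]
    exact iSup_le fun t => hcent t t.2
  have hW0 : W' = ⊥ := by
    refine Subgroup.eq_bot_of_card_eq _ (Nat.eq_one_iff_not_exists_prime_dvd.mpr fun s hs hd => ?_)
    haveI := Fact.mk hs
    obtain ⟨y, hy⟩ := exists_prime_orderOf_dvd_card' s hd
    have hm := FG72.mem_pCore_of_fitting (r := s) (hWF y.2) (j := 1)
      (by rw [Subgroup.orderOf_coe, hy, pow_one])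
    rw [hcore s hs (hW'π s hs hd).2, Subgroup.mem_bot] at hm
    rw [← Subgroup.orderOf_coe, hm, orderOf_one] at hy
    exact hs.ne_one hy.symm
  refine (le_map_subtype_iff hWX).mpr ?_
  rwa [hW', Subgroup.map_eq_bot_iff, QuotientGroup.ker_mk'] at hW0

end Core

/-- A solvable subgroup normalized by `H ∩ C(F(H))` meets it inside `F(H)`. -/
theorem inf_le_fittingOf {H R : Subgroup G} (hR : Group.IsSolvable R)
    (hXR : H ⊓ Subgroup.centralizer (fittingOf H : Set G) ≤ Subgroup.normalizer (R : Set G)) :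
    R ⊓ (H ⊓ Subgroup.centralizer (fittingOf H : Set G)) ≤ fittingOf H := by
  set X := H ⊓ Subgroup.centralizer (fittingOf H : Set G) with hX
  set N := R ⊓ X with hN
  have hXn : H ≤ Subgroup.normalizer (X : Set G) :=
    Coprime.le_normalizer_inf Subgroup.le_normalizer
      (Coprime.le_normalizer_centralizer (le_normalizer_fittingOf H))
  have hNn : X ≤ Subgroup.normalizer (N : Set G) :=
    Coprime.le_normalizer_inf hXR Subgroup.le_normalizer
  have hFN : fittingOf N ≤ fittingOf H := by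
    have h1 : fittingOf N ≤ fittingOf X := BGSummary.Loc.le_fittingOf
      ((fittingOf_le N).trans inf_le_right)
      (hNn.trans (Coprime.normalizer_le_normalizer_map N (fittingSubgroup N)))
      (isNilpotent_fittingOf N)
    exact h1.trans (BGSummary.Loc.le_fittingOf ((fittingOf_le X).trans inf_le_left)
      (hXn.trans (Coprime.normalizer_le_normalizer_map X (fittingSubgroup X)))
      (isNilpotent_fittingOf X))
  intro x hx
  refine hFN (inf_centralizer_fittingOf_le (Coprime.solvable_of_le inf_le_left hR) ⟨hx, ?_⟩)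
  refine Subgroup.mem_centralizer_iff.mpr fun y hy => ?_
  exact Subgroup.mem_centralizer_iff.mp hx.2.2 y (hFN hy)

theorem unique_stmt (H : Subgroup G) (hH : IsLocalSubgroup H)
    (hHmax : ∀ L : Subgroup G, IsLocalSubgroup L → H ≤ L → L = H)
    (hF2 : 2 ≤ (Nat.card (fittingOf H)).primeFactors.card)
    (A : Subgroup G) (hAF : A ≤ fittingOf H)
    (hCA : fittingOf H ⊓ Subgroup.centralizer (A : Set G) ≤ A)
    (R : Subgroup G) (hR : Group.IsSolvable R) (hAR : A ≤ Subgroup.normalizer (R : Set G))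
    (hXR : H ⊓ Subgroup.centralizer (fittingOf H : Set G) ≤ Subgroup.normalizer (R : Set G))
    (q : ℕ) [Fact q.Prime] (hq : ¬ q ∣ Nat.card (fittingOf H)) :
    ∃! Q : Subgroup G, Q ∈ maxInvSubgroups R A {q} ∧
      (∀ Q' : Subgroup G, Q' ∈ maxInvSubgroups R A {q} →
        Q' ≤ piCoreOf (fitPi H) R ∧ ¬ q ∣ Q'.relIndex (piCoreOf (fitPi H) R)) := by
  have hCZ : ∀ r : ℕ, ∀ [Fact r.Prime], r ∣ Nat.card (fittingOf H) →
      Subgroup.centralizer (zCore r H : Set G) ≤ H := by
    intro r hr hd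
    refine (Subgroup.centralizer_le_normalizer _).trans (hHmax _
      ⟨r, zCore r H, hr.out, isPGroup_zCore r H, zCore_ne_bot (core_ne_bot_of_dvd hd), rfl⟩
      (le_normalizer_zCore r H)).le
  have hzA : ∀ r : ℕ, r.Prime → zCore r H ≤ A := by
    intro r hr
    haveI := Fact.mk hr
    exact fun z hz => hCA ⟨core_le_fittingOf r H (zCore_le_core r H hz),
      Subgroup.centralizer_le hAF (zCore_le_centralizer_fittingOf r H hz)⟩
  have hnp : ∀ t : ℕ, ∃ r : ℕ, r.Prime ∧ r ≠ t ∧ r ∣ Nat.card (fittingOf H) := by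
    intro t
    obtain ⟨r, hr, hrt⟩ := Finset.exists_mem_ne hF2 t
    exact ⟨r, Nat.prime_of_mem_primeFactors hr, hrt, Nat.dvd_of_mem_primeFactors hr⟩
  have hAs : Group.IsSolvable A := Coprime.solvable_of_le hAF
    (Coprime.isSolvable_of_isNilpotent' (isNilpotent_fittingOf H))
  set R' := R ⊔ A with hR'
  have hR's : Group.IsSolvable R' := FGS77.isSolvable_sup_of_normalizes hR hAs hAR
  set X := H ⊓ Subgroup.centralizer (fittingOf H : Set G) with hX
  have hXA : X ≤ Subgroup.normalizer (A : Set G) :=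
    (inf_le_right.trans (Subgroup.centralizer_le hAF)).trans (Subgroup.centralizer_le_normalizer _)
  have hXF := inf_le_fittingOf (R := R') hR's (Coprime.le_normalizer_sup hXR hXA)
  have hR'n : R' ≤ Subgroup.normalizer (R : Set G) := sup_le Subgroup.le_normalizer hAR
  have hcopA : ∀ W : Subgroup G, BGSigma.IsPiSub (fitPi H) W → (Nat.card A).Coprime (Nat.card W) :=
    fun W hW => (coprime_of_isPiSub_notDvd hW).coprime_dvd_left (Subgroup.card_dvd_of_le hAF)
  have hle : ∀ W : Subgroup G, BGSigma.IsPiSub (fitPi H) W → W ≤ R' → W ≤ R := by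
    intro W hW hWR w hw
    haveI : (R.subgroupOf R').Normal :=
      (Subgroup.normal_subgroupOf_iff_le_normalizer le_sup_left).mpr hR'n
    have h1 : w ^ R.relIndex A ∈ R := by
      have h := (R.subgroupOf R').pow_index_mem ⟨w, hWR hw⟩
      rw [show (R.subgroupOf R').index = R.relIndex A by
        rw [← Coprime.relIndex_sup_of_le_normalizer hAR, sup_comm]; rfl] at h
      exact h
    have h2 : (orderOf w).Coprime (R.relIndex A) :=
      (((hcopA W hW).symm.coprime_dvd_left (Subgroup.orderOf_mk w hw ▸ orderOf_dvd_natCard _)).coprime_dvd_right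
        (Subgroup.relIndex_dvd_card _ _))
    obtain ⟨m, hm⟩ := exists_pow_eq_self_of_coprime h2.symm
    rw [← hm]
    exact pow_mem h1 m
  set D := piCoreOf (fitPi H) R with hD
  have hDR' : piCoreOf (fitPi H) R' ≤ D := by
    have h := hle _ (BGSigma.isPiSub_piCoreOf R') (BGSigma.piCoreOf_le R')
    refine BGSigma.le_piCoreOf h ?_ (BGSigma.isPiSub_piCoreOf R')
    exact (le_sup_left.trans Subgroup.le_normalizer).trans (BGSigma.piCoreOf_normalized R')
  have hinD : ∀ W ∈ invSubgroups R A {q}, W ≤ D := by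
    rintro W ⟨hWR, hWq, hAW⟩
    refine le_trans ?_ hDR'
    exact le_piCoreOf_of_inv hAF hCA hzA hR's le_sup_right hCZ hXF hnp (hWR.trans le_sup_left)
      (fun r hr hd => by
        obtain rfl : r = q := hWq r hr hd
        exact ⟨hr, hq⟩) hAW
  have hAD : A ≤ Subgroup.normalizer (D : Set G) := hAR.trans (BGSigma.piCoreOf_normalized R)
  have hcop := hcopA D (BGSigma.isPiSub_piCoreOf R)
  have hfix : D ⊓ Subgroup.centralizer (A : Set G) = ⊥ := by
    obtain ⟨r, hr, -, hrd⟩ := hnp 0
    haveI := Fact.mk hr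
    exact eq_bot_of_le_centralizer_zCore hAF hCA hCZ hXF
      ((BGSigma.isPiSub_piCoreOf R).mono_le inf_le_left)
      (Coprime.le_normalizer_inf hAD (Coprime.le_normalizer_centralizer Subgroup.le_normalizer))
      hrd (inf_le_left.trans ((BGSigma.piCoreOf_le R).trans le_sup_left))
      (inf_le_right.trans (Subgroup.centralizer_le (hzA r hr)))
  obtain ⟨P, hP⟩ := Coprime.exists_invariant_sylow A D hAD hcop (Or.inl hAs) q
  set Q := (P : Subgroup D).map D.subtype with hQ
  have hQD : Q ≤ D := Subgroup.map_subtype_le _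
  have hge : ∀ W ∈ invSubgroups R A {q}, W ≤ Q := by
    intro W hW
    obtain ⟨P', hWP', hP'⟩ := Coprime.exists_invariant_sylow_ge A D hAD hcop (Or.inl hAs) q W
      (hinD W hW) (isPGroup_of_isPiSub_singleton hW.2.1) hW.2.2
    obtain ⟨c, hc, hcP⟩ := Coprime.exists_invariant_sylow_conj A D hAD hcop (Or.inl hAs) q P P' hP hP'
    have hc1 : (c : G) ∈ D ⊓ Subgroup.centralizer (A : Set G) := ⟨c.2, hc⟩
    rw [hfix, Subgroup.mem_bot] at hc1
    obtain rfl : c = 1 := Subtype.ext hc1
    rw [one_smul] at hcP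
    subst hcP
    exact hWP'
  have hQi : Q ∈ invSubgroups R A {q} :=
    ⟨hQD.trans (BGSigma.piCoreOf_le R),
      isPiSub_of_isPGroup (Set.mem_singleton q) (P.isPGroup'.map _), hP⟩
  have hQmax : Q ∈ maxInvSubgroups R A {q} :=
    ⟨hQi, fun W hW hle => le_antisymm (hge W hW) hle⟩
  have huniq : ∀ Q' ∈ maxInvSubgroups R A {q}, Q' = Q :=
    fun Q' hQ' => (hQ'.2 Q hQi (hge Q' hQ'.1)).symm
  refine ⟨Q, ⟨hQmax, fun Q' hQ' => ?_⟩, fun Q' hQ' => huniq Q' hQ'.1⟩
  rw [huniq Q' hQ']
  refine ⟨hQD, ?_⟩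
  rw [Subgroup.relIndex, Subgroup.subgroupOf, hQ,
    Subgroup.comap_map_eq_self_of_injective D.subtype_injective]
  exact P.not_dvd_index

end Cfsg.Agent.BGUniq.InvariantUnique
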