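import Cfsg.Agent.BGUniq.Ambient
import Cfsg.Agent.OddLocal44.Puig

/-!
Frattini factorizations of solvable subgroups through the Sylow intersection with `O_{p',p}` and
through `Z(L(P))`.
-/

set_option autoImplicit false

namespace Cfsg.Agent.BGUniq

open Cfsg

section TypeLevel

variable {H : Type*} [Group H] [Finite H] {p : ℕ} [hp : Fact p.Prime]

theorem exists_sylow_mem_of_pPrimePCore (S : Sylow p H) {x : H} (hx : x ∈ pPrimePCore p H) :
    ∃ u ∈ (S : Subgroup H) ⊓ pPrimePCore p H,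
      QuotientGroup.mk' (pPrimeCore p H) u = QuotientGroup.mk' (pPrimeCore p H) x := by
  have h := Thompson.pCore_le_sylow
    (S.mapSurjective (QuotientGroup.mk'_surjective (pPrimeCore p H))) hx
  rw [Sylow.coe_mapSurjective] at h
  obtain ⟨u, hu, he⟩ := h
  refine ⟨u, ⟨hu, ?_⟩, he⟩
  show QuotientGroup.mk' (pPrimeCore p H) u ∈ pCore p _
  rw [he]
  exact hx

theorem sylow_inf_centralizer_le [Group.IsSolvable H] (S : Sylow p H) {x : H}
    (hxS : x ∈ (S : Subgroup H))
    (hxC : x ∈ Subgroup.centralizer (((S : Subgroup H) ⊓ pPrimePCore p H : Subgroup H) : Set H)) :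
    x ∈ pPrimePCore p H := by
  show QuotientGroup.mk' (pPrimeCore p H) x ∈ pCore p _
  refine Thompson.centralizer_pCore_le
    (Thompson.isPSolvable_quotient _ (isPSolvable_of_isSolvable' p H))
    Thompson.pPrimeCore_quotient_pPrimeCore (Subgroup.mem_centralizer_iff.mpr fun y hy => ?_)
  obtain ⟨x', rfl⟩ := QuotientGroup.mk'_surjective _ y
  obtain ⟨u, hu, he⟩ := exists_sylow_mem_of_pPrimePCore S (x := x') hy
  rw [← he, ← map_mul, ← map_mul, Subgroup.mem_centralizer_iff.mp hxC u hu]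

theorem pPrimeCore_sup_normalizer_inf_pPrimePCore (S : Sylow p H) :
    pPrimeCore p H ⊔ Subgroup.normalizer
      (((S : Subgroup H) ⊓ pPrimePCore p H : Subgroup H) : Set H) = ⊤ := by
  set D := pPrimeCore p H with hD
  set N := pPrimePCore p H with hN
  set T := (S : Subgroup H) ⊓ N with hT
  haveI : N.Normal := Subgroup.Normal.comap (Thompson.instPCoreNormal) _
  have hNeq : N = T ⊔ D := by
    refine le_antisymm (fun x hx => ?_) (sup_le inf_le_right Thompson.pPrimeCore_le_pPrimePCore)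
    obtain ⟨u, hu, he⟩ := exists_sylow_mem_of_pPrimePCore S hx
    have hd : u⁻¹ * x ∈ D := QuotientGroup.eq.mp he
    simpa using mul_mem (Subgroup.mem_sup_left hu) (Subgroup.mem_sup_right hd : _ ∈ T ⊔ D)
  have hidx : ¬ p ∣ (T.subgroupOf N).index := by
    intro hd
    have h1 : Nat.card N ∣ Nat.card T * Nat.card D := by
      have := Thompson.card_sup_dvd_mul T D
      rwa [← hNeq] at this
    rw [← Subgroup.card_mul_index (T.subgroupOf N),
      Nat.card_congr (Subgroup.subgroupOfEquivOfLe (inf_le_right : T ≤ N)).toEquiv] at h1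
    exact Thompson.not_dvd_card_pPrimeCore
      (hd.trans ((mul_dvd_mul_iff_left Nat.card_pos.ne').mp h1))
  let Q : Sylow p N :=
    ((S.isPGroup'.to_le inf_le_left : IsPGroup p T).comap_subtype (K := N)).toSylow hidx
  have hQ : ((Q : Subgroup N)).map N.subtype = T :=
    Subgroup.map_subgroupOf_eq_of_le inf_le_right
  have h := Sylow.normalizer_sup_eq_top Q
  rw [hQ] at h
  rw [eq_top_iff, ← h]
  exact sup_le le_sup_right (hNeq ▸ sup_le (Subgroup.le_normalizer.trans le_sup_right) le_sup_left)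

end TypeLevel

variable {G : Type*} [Group G] [Finite G] {p : ℕ} [hp : Fact p.Prime]

theorem map_sylow_of_isSylowIn {P X : Subgroup G} (hP : IsSylowIn p P X) :
    ∃ S : Sylow p X, (S : Subgroup X).map X.subtype = P := by
  obtain ⟨S, hS⟩ := subgroupOf_le_sylow hP
  exact ⟨S, by rw [hS, Subgroup.map_subgroupOf_eq_of_le hP.1]⟩

omit [Finite G] hp in
theorem map_sup_normalizer_eq {X T : Subgroup G} {D : Subgroup X} {U : Subgroup X}
    (h : D ⊔ Subgroup.normalizer (U : Set X) = ⊤) (hU : U.map X.subtype = T) :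
    X ≤ D.map X.subtype ⊔ (X ⊓ Subgroup.normalizer (T : Set G)) := by
  have h1 := congrArg (Subgroup.map X.subtype) h
  rw [Subgroup.map_sup, ← MonoidHom.range_eq_map, Subgroup.range_subtype] at h1
  refine h1.symm.le.trans (sup_le_sup_left (le_inf (Subgroup.map_subtype_le _) ?_) _)
  rw [← hU]
  exact U.le_normalizer_map _

/-- `C_P(P ∩ O_{p',p}(X))` lies in `P ∩ O_{p',p}(X)`. -/
theorem inf_centralizer_inf_oppP_le {P X : Subgroup G} (hX : Group.IsSolvable X)
    (hP : IsSylowIn p P X) :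
    P ⊓ Subgroup.centralizer ((P ⊓ oppP p X : Subgroup G) : Set G) ≤ P ⊓ oppP p X := by
  haveI := hX
  obtain ⟨S, hS⟩ := subgroupOf_le_sylow hP
  rintro x ⟨hxP, hxC⟩
  refine ⟨hxP, ⟨x, hP.1 hxP⟩, sylow_inf_centralizer_le S ?_ ?_, rfl⟩
  · rw [hS]; exact hxP
  · refine Subgroup.mem_centralizer_iff.mpr fun u hu => Subtype.ext ?_
    refine Subgroup.mem_centralizer_iff.mp hxC (u : G) ⟨?_, u, hu.2, rfl⟩
    exact (hS ▸ hu.1 : u ∈ P.subgroupOf X)

/-- A `p'`-subgroup normalized by a Sylow `p`-subgroup lies in `O_{p'}`. -/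
theorem le_opp_of_sylow_normalized {P X W : Subgroup G} (hX : Group.IsSolvable X)
    (hP : IsSylowIn p P X) (hWX : W ≤ X) (hW : (Nat.card W).Coprime p)
    (hPW : P ≤ Subgroup.normalizer (W : Set G)) : W ≤ opp p X :=
  le_opp_of_normalized hX hP (inf_le_left : P ⊓ oppP p X ≤ P) inf_le_right
    (inf_centralizer_inf_oppP_le hX hP) hWX hW (inf_le_left.trans hPW)

theorem frattini_oppP {P X : Subgroup G} (hP : IsSylowIn p P X) :
    X ≤ opp p X ⊔ (X ⊓ Subgroup.normalizer ((P ⊓ oppP p X : Subgroup G) : Set G)) := by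
  obtain ⟨S, hS⟩ := map_sylow_of_isSylowIn hP
  refine map_sup_normalizer_eq (pPrimeCore_sup_normalizer_inf_pPrimePCore S) ?_
  rw [Subgroup.map_inf _ _ _ X.subtype_injective, hS]
  rfl

theorem frattini_puig {P X : Subgroup G} (hX : Group.IsSolvable X) (hodd : Odd (Nat.card X))
    (hp2 : p ≠ 2) (hP : IsSylowIn p P X) :
    X ≤ opp p X ⊔ (X ⊓ Subgroup.normalizer (OddLocal44.centerPuig P : Set G)) := by
  haveI := hX
  obtain ⟨S, hS⟩ := map_sylow_of_isSylowIn hP
  refine map_sup_normalizer_eq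
    (OddLocal44.pPrimeCore_sup_normalizer_centerPuig hp2 hodd S) ?_
  rw [OddLocal44.map_centerPuig X.subtype fun x _ hx => Subtype.ext hx, hS]

omit [Finite G] hp in
theorem centerPuig_le (P : Subgroup G) : OddLocal44.centerPuig P ≤ P :=
  inf_le_left.trans (OddLocal44.relUpper_le P)

theorem centerPuig_ne_bot {P : Subgroup G} (hP : IsPGroup p P) (hne : P ≠ ⊥) :
    OddLocal44.centerPuig P ≠ ⊥ := by
  obtain ⟨k, hk⟩ := OddLocal44.stabilize P
  set U := OddLocal44.relUpper P with hU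
  have hU0 : U ≠ ⊥ := by
    intro h
    have h' := OddLocal44.inf_centralizer_relSeq_le hP (2 * k)
    rw [(hk k le_rfl).2, h] at h'
    exact hne (le_bot_iff.mp ((le_inf le_rfl
      (Subgroup.le_centralizer_iff.mp bot_le)).trans h'))
  haveI : Nontrivial U := (Subgroup.nontrivial_iff_ne_bot U).mpr hU0
  haveI := (hP.to_le (OddLocal44.relUpper_le P)).center_nontrivial
  obtain ⟨z, hz1⟩ := exists_ne (1 : Subgroup.center U)
  intro h
  refine hz1 (Subtype.ext (Subtype.ext ?_))
  have hm : ((z : U) : G) ∈ OddLocal44.centerPuig P :=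
    ⟨(z : U).2, Subgroup.mem_centralizer_iff.mpr fun u hu =>
      congrArg Subtype.val (Subgroup.mem_center_iff.mp z.2 ⟨u, hu⟩)⟩
  rw [h] at hm
  exact Subgroup.mem_bot.mp hm

end Cfsg.Agent.BGUniq
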