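import Cfsg.Agent.BGUniq.Ambient
import Cfsg.Agent.BGSigma.Basic

/-!
Standing facts in a minimal simple group of odd order used for the uniqueness theorem.
-/

set_option autoImplicit false

namespace Cfsg.Agent.BGUniq

open Cfsg

variable {G : Type*} [Group G]

theorem centralizer_zpowers (z : G) :
    Subgroup.centralizer (Subgroup.zpowers z : Set G) = Subgroup.centralizer ({z} : Set G) := by
  rw [Subgroup.zpowers_eq_closure, Subgroup.centralizer_closure]

theorem exists_mem_ne_one {A : Subgroup G} (h : A ≠ ⊥) : ∃ x ∈ A, x ≠ 1 := by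
  by_contra hne
  push Not at hne
  exact h ((Subgroup.eq_bot_iff_forall _).mpr hne)

theorem isPGroup_zpowers {p : ℕ} {A : Subgroup G} (hA : IsPGroup p A) {z : G} (hz : z ∈ A) :
    IsPGroup p (Subgroup.zpowers z) :=
  hA.to_le ((Subgroup.zpowers_le).mpr hz)

/-- An elementary abelian group's `¬ RankLE k` in subgroup form. -/
theorem exists_elementary_of_not_pRankLE {p k : ℕ} [hp : Fact p.Prime] [Finite G] {X : Subgroup G}
    (h : ¬ PRankLE p k X) :
    ∃ E : Subgroup G, E ≤ X ∧ IsElementaryAbelian p E ∧ p ^ (k + 1) ≤ Nat.card E := by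
  simp only [PRankLE, not_forall, not_le, exists_prop] at h
  obtain ⟨E, hEc, hEp, hcard⟩ := h
  refine ⟨E.map X.subtype, Subgroup.map_subtype_le _, ⟨?_, ?_⟩, ?_⟩
  · exact Subgroup.map_isMulCommutative E X.subtype
  · rintro _ ⟨a, ha, rfl⟩
    exact congrArg Subtype.val (hEp a ha)
  · rw [Nat.card_congr (E.equivMapOfInjective X.subtype X.subtype_injective).toEquiv.symm]
    have hpE : IsPGroup p E := fun a => ⟨1, by
      rw [pow_one]; exact Subtype.ext (hEp a a.2)⟩
    obtain ⟨n, hn⟩ := hpE.exists_card_eq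
    rw [hn] at hcard ⊢
    exact Nat.pow_le_pow_right hp.out.pos ((Nat.pow_lt_pow_iff_right hp.out.one_lt).mp hcard)

theorem not_pRankLE_of_elementary {p k : ℕ} [hp : Fact p.Prime] [Finite G] {X E : Subgroup G}
    (hEX : E ≤ X) (hE : IsElementaryAbelian p E) (hc : p ^ (k + 1) ≤ Nat.card E) :
    ¬ PRankLE p k X := by
  intro h
  have h1 := h (E.subgroupOf X) ?_ (fun a ha => Subtype.ext (hE.2 a ha))
  · rw [Nat.card_congr (Subgroup.subgroupOfEquivOfLe hEX).toEquiv] at h1
    exact absurd (hc.trans h1) (not_le.mpr (Nat.pow_lt_pow_right hp.out.one_lt k.lt_succ_self))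
  · haveI := hE.1
    exact Subgroup.subgroupOf_isMulCommutative X E

section MinSimple

variable (hG : IsMinSimpleOddOrder G)
include hG

theorem centralizer_ne_top {S : Set G} {z : G} (hz : z ∈ S) (hz1 : z ≠ 1) :
    Subgroup.centralizer S ≠ ⊤ := by
  intro h
  have hzc : z ∈ Subgroup.center G := Subgroup.mem_center_iff.mpr fun g =>
    ((h ▸ Subgroup.mem_top g : g ∈ Subgroup.centralizer S) z hz).symm
  rcases BGSigma.normal_eq_bot_or_top hG (N := Subgroup.center G) inferInstance with h1 | h1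
  · rw [h1, Subgroup.mem_bot] at hzc; exact hz1 hzc
  · exact hG.2.2.1 ⟨⟨fun a b => (Subgroup.mem_center_iff.mp (h1 ▸ Subgroup.mem_top b) a)⟩⟩

theorem centralizer_isSolvable {z : G} (hz1 : z ≠ 1) :
    Group.IsSolvable (Subgroup.centralizer ({z} : Set G)) :=
  BGSigma.isSolvable_of_ne_top hG (centralizer_ne_top hG rfl hz1)

theorem odd_card_subgroup (X : Subgroup G) : Odd (Nat.card X) :=
  hG.1.of_dvd_nat (Subgroup.card_subgroup_dvd_card X)

theorem prime_ne_two {p : ℕ} [hp : Fact p.Prime] (h : p ∣ Nat.card G) : p ≠ 2 := by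
  rintro rfl
  exact (Nat.not_even_iff_odd.mpr hG.1) (even_iff_two_dvd.mpr h)

end MinSimple

end Cfsg.Agent.BGUniq
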