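import Cfsg.Agent.BGUniq.InvariantUnique

/-!
A subgroup of the Fitting subgroup of a maximal subgroup with no nontrivial invariant subgroups of
coprime order lies in no other maximal subgroup.
-/

set_option autoImplicit false
set_option linter.unusedSectionVars false

namespace Cfsg.Agent.BGUniq.OvergroupUnique

open Cfsg Cfsg.Agent.BGUniq

variable {G : Type*} [Group G] [Finite G]

section Bender

variable (hG : IsMinSimpleOddOrder G) {M : Subgroup G} (hM : IsCoatom M) {A : Subgroup G}
  (hAF : A ≤ fittingOf M)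
  (hCA : fittingOf M ⊓ Subgroup.centralizer (A : Set G) ≤ A)
  (hzA : ∀ r : ℕ, r.Prime → zCore r M ≤ A)
  (hnp : ∀ t : ℕ, ∃ r : ℕ, r.Prime ∧ r ≠ t ∧ r ∣ Nat.card (fittingOf M))
  (hinv : ∀ W : Subgroup G, BGSigma.IsPiSub (fitPi M) W →
    A ≤ Subgroup.normalizer (W : Set G) → W = ⊥)

include hG hM hAF hCA hzA hnp hinv

/-- The `p'`-cores for all the primes of `F(M)` meet trivially in a group containing `A`. -/
theorem eq_one_of_forall_mem_opp {K : Subgroup G} (hAK : A ≤ K) {t : ℕ} (ht : t.Prime)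
    {c : G} (hc : c ∈ opp t K)
    (h : ∀ r : ℕ, r.Prime → r ∣ Nat.card (fittingOf M) → r ≠ t → c ∈ opp r K) : c = 1 := by
  set Y := opp t K ⊓
    ⨅ r : {r : ℕ // r.Prime ∧ r ∣ Nat.card (fittingOf M) ∧ r ≠ t}, opp (r : ℕ) K with hY
  have hcY : c ∈ Y := ⟨hc, Subgroup.mem_iInf.mpr fun r => h r r.2.1 r.2.2.1 r.2.2.2⟩
  have hYπ : BGSigma.IsPiSub (fitPi M) Y := by
    intro s hs hd
    refine ⟨hs, fun hsF => ?_⟩
    have key : ∀ Y' : Subgroup G, Y ≤ Y' → ¬ (Nat.card Y').Coprime s := fun Y' hle hco =>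
      hs.ne_one (Nat.eq_one_of_dvd_coprimes hco (hd.trans (Subgroup.card_dvd_of_le hle)) dvd_rfl)
    rcases eq_or_ne s t with rfl | hst
    · exact key (opp s K) inf_le_left (opp_coprime s K)
    · exact key (opp s K) (inf_le_right.trans (iInf_le (fun r :
        {r : ℕ // r.Prime ∧ r ∣ Nat.card (fittingOf M) ∧ r ≠ t} => opp (r : ℕ) K)
          ⟨s, hs, hsF, hst⟩)) (opp_coprime s K)
  have hAY : A ≤ Subgroup.normalizer (Y : Set G) := by
    refine Coprime.le_normalizer_inf (hAK.trans (le_normalizer_opp t K))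
      (Coprime.le_normalizer_of_conj_mem fun a ha x hx => Subgroup.mem_iInf.mpr fun r => ?_)
    exact (Subgroup.mem_normalizer_iff.mp (le_normalizer_opp (r : ℕ) K (hAK ha)) x).mp
      (Subgroup.mem_iInf.mp hx r)
  rw [hinv _ hYπ hAY] at hcY
  exact Subgroup.mem_bot.mp hcY

/-- **Bender's method**: `M` is the only maximal subgroup containing `A`. -/
theorem eq_of_le_of_nonP {L : Subgroup G} (hL : IsCoatom L) (hAL : A ≤ L) : L = M := by
  have hAM : A ≤ M := hAF.trans (fittingOf_le M)
  haveI hLs := BGSigma.coatom_isSolvable hG hL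
  haveI hMs := BGSigma.coatom_isSolvable hG hM
  set F := fittingOf M with hFdef
  -- `O_{π'}(L) = 1`
  have hLbot : piCore (fitPi M) L = ⊥ := by
    have h := hinv _ (BGSigma.isPiSub_piCoreOf L)
      (hAL.trans (Subgroup.le_normalizer.trans (BGSigma.piCoreOf_normalized L)))
    rw [piCoreOf, Subgroup.map_eq_bot_iff_of_injective _ L.subtype_injective] at h
    exact h
  have hdvdL : ∀ t : ℕ, t.Prime → core t L ≠ ⊥ → t ∣ Nat.card F := by
    intro t ht hne
    by_contra hnd
    haveI := Fact.mk ht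
    refine hne ?_
    rw [core, Subgroup.map_eq_bot_iff_of_injective _ L.subtype_injective, ← le_bot_iff, ← hLbot]
    exact BGSigma.le_piCore inferInstance
      (isPiSub_of_isPGroup (π := fitPi M) ⟨ht, hnd⟩ Thompson.isPGroup_pCore)
  -- the `t'`-part of `A` centralizes `O_t(L)`
  have hAt : ∀ t : ℕ, t.Prime → t ∣ Nat.card F →
      core t L ≤ Subgroup.centralizer ((A ⊓ opp t M : Subgroup G) : Set G) := by
    intro t ht htd x hx
    haveI := Fact.mk ht
    obtain ⟨y, hy, rfl⟩ := hx
    refine Subgroup.mem_centralizer_iff.mpr fun a ha => ?_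
    have h1 := Subgroup.mem_centralizer_iff.mp
      (BGUniq.tPrime_centralizes_pCore hG hM hAF hCA hzA hL.1 hAL htd
        (Thompson.map_pCore_le_of_surjective _ (QuotientGroup.mk'_surjective _) ⟨y, hy, rfl⟩))
      _ ⟨⟨a, hAL ha.1⟩, ha, rfl⟩
    rw [← map_mul, ← map_mul] at h1
    have hinj : Function.Injective (QuotientGroup.mk' (piCore (fitPi M) L)) := by
      rw [← MonoidHom.ker_eq_bot_iff, QuotientGroup.ker_mk', hLbot]
    exact congrArg Subtype.val (hinj h1)
  have hcoreM : ∀ t : ℕ, t.Prime → core t L ≤ M := by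
    intro t ht
    rcases eq_or_ne (core t L) ⊥ with h | h
    · rw [h]; exact bot_le
    obtain ⟨r, hr, hrt, hrd⟩ := hnp t
    haveI := Fact.mk hr; haveI := Fact.mk ht
    refine ((hAt t ht (hdvdL t ht h)).trans (Subgroup.centralizer_le fun z hz => ?_)).trans
      (BGUniq.centralizer_zCore_le hG hM hrd)
    exact ⟨hzA r hr hz, core_le_opp hrt M (zCore_le_core r M hz)⟩
  -- `O_t(L)` centralizes the `t'`-part of `F`
  have hFt : ∀ t : ℕ, t.Prime → t ∣ Nat.card F →
      core t L ≤ Subgroup.centralizer ((F ⊓ opp t M : Subgroup G) : Set G) := by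
    intro t ht htd
    haveI := Fact.mk ht
    refine le_centralizer_of_selfCentralizing
      (Fitting.isNilpotent_of_le (isNilpotent_fittingOf M) inf_le_left)
      (A := A ⊓ opp t M) (inf_le_inf_right _ hAF) ?_
      ((hcoreM t ht).trans (Coprime.le_normalizer_inf (le_normalizer_fittingOf M)
        (le_normalizer_opp t M))) ?_ (hAt t ht htd)
    · rintro x ⟨⟨hxF, hxo⟩, hxC⟩
      refine ⟨hCA ⟨hxF, Subgroup.mem_centralizer_iff.mpr fun a ha => ?_⟩, hxo⟩
      refine Subgroup.mem_centralizer_singleton_iff.mp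
        (FG72.mem_of_forall_primePow (Subgroup.centralizer ({x} : Set G)) a
          fun r hr j _ i hj => Subgroup.mem_centralizer_singleton_iff.mpr ?_)
      haveI := Fact.mk hr
      have hb : a ^ i ∈ core r M := mem_core_of_mem_fittingOf (hAF (pow_mem ha i)) hj
      rcases eq_or_ne r t with rfl | hrt
      · refine mul_comm_of_normalized_coprime (core_le r M) (opp_le r M)
          (le_normalizer_core r M) (le_normalizer_opp r M) ?_ hb hxo
        obtain ⟨n, hn⟩ := (isPGroup_core r M).exists_card_eq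
        rw [hn]
        exact Nat.Coprime.pow_left n (opp_coprime r M).symm
      · exact Subgroup.mem_centralizer_iff.mp hxC _ ⟨pow_mem ha i, core_le_opp hrt M hb⟩
    · obtain ⟨n, hn⟩ := (isPGroup_core t L).exists_card_eq
      rw [hn]
      exact Nat.Coprime.pow_left n ((opp_coprime t M).coprime_dvd_left
        (Subgroup.card_dvd_of_le inf_le_right)).symm
  have hFL : ∀ t : ℕ, t.Prime → core t L ≠ ⊥ → F ⊓ opp t M ≤ L := by
    intro t ht hne
    refine (Subgroup.le_centralizer_iff.mp (hFt t ht (hdvdL t ht hne))).trans ?_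
    exact (Subgroup.centralizer_le_normalizer _).trans_eq
      (BGSigma.normalizer_eq_coatom hG hL (core_le t L) hne (le_normalizer_core t L))
  have hcomm : ∀ t s : ℕ, t.Prime → s.Prime → s ≠ t →
      core t M ≤ Subgroup.centralizer (core s L : Set G) := by
    intro t s ht hs hst
    rcases eq_or_ne (core s L) ⊥ with h | h
    · rw [h]; exact Subgroup.le_centralizer_iff.mp bot_le
    haveI := Fact.mk ht; haveI := Fact.mk hs
    exact (le_inf (core_le_fittingOf t M) (core_le_opp hst.symm M)).trans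
      (Subgroup.le_centralizer_iff.mp (hFt s hs (hdvdL s hs h)))
  -- `F(L)` has the same primes as `F`
  obtain ⟨s₀, hs₀, hs₀ne⟩ : ∃ s : ℕ, s.Prime ∧ core s L ≠ ⊥ := by
    by_contra hno
    push Not at hno
    have hF0 : fittingOf L ≤ ⊥ := fittingOf_le_of_core_le fun s hs => (hno s hs).le
    refine BGSigma.coatom_ne_bot hG hL (le_bot_iff.mp (le_trans ?_ hF0))
    exact le_trans (le_inf le_rfl (Subgroup.le_centralizer_iff.mp (hF0.trans bot_le)))
      (inf_centralizer_fittingOf_le hLs)
  have hLne : ∀ t : ℕ, t.Prime → t ∣ Nat.card F → core t L ≠ ⊥ := by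
    intro t ht htd h0
    haveI := Fact.mk ht; haveI := Fact.mk hs₀
    have hts : t ≠ s₀ := by rintro rfl; exact hs₀ne h0
    have h1 : core t M ≤ L :=
      (le_inf (core_le_fittingOf t M) (core_le_opp hts M)).trans (hFL s₀ hs₀ hs₀ne)
    have h2 : core t M ≤ fittingOf L := by
      refine le_trans (le_inf h1 (Subgroup.le_centralizer_iff.mp
        (fittingOf_le_of_core_le fun s hs => ?_))) (inf_centralizer_fittingOf_le hLs)
      rcases eq_or_ne s t with rfl | hst
      · rw [h0]; exact bot_le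
      · exact Subgroup.le_centralizer_iff.mp (hcomm t s ht hs hst)
    refine core_ne_bot_of_dvd htd (le_bot_iff.mp fun x hx => ?_)
    obtain ⟨n, hn⟩ := isPGroup_core t M ⟨x, hx⟩
    obtain ⟨j, -, hj⟩ := (Nat.dvd_prime_pow ht).mp
      (orderOf_dvd_of_pow_eq_one (congrArg Subtype.val hn : x ^ t ^ n = 1))
    exact h0 ▸ mem_core_of_mem_fittingOf (h2 hx) hj
  have hML : ∀ t : ℕ, t.Prime → core t M ≤ L := by
    intro t ht
    rcases eq_or_ne (core t M) ⊥ with h | h
    · rw [h]; exact bot_le
    obtain ⟨s, hs, hst, hsd⟩ := hnp t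
    haveI := Fact.mk ht; haveI := Fact.mk hs
    exact (le_inf (core_le_fittingOf t M) (core_le_opp hst.symm M)).trans
      (hFL s hs (hLne s hs hsd))
  -- balance
  have hbal₁ : ∀ t r : ℕ, t.Prime → r.Prime → r ∣ Nat.card F → r ≠ t →
      core t M ≤ opp r L := by
    intro t r ht hr hrd hrt
    haveI := Fact.mk ht; haveI := Fact.mk hr
    refine le_opp_of_centralizing hLs ((hzA r hr).trans hAL) (isPGroup_zCore r M) (hML t ht) ?_
      ((core_le_fittingOf t M).trans (fittingOf_le_centralizer_zCore r M))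
      (inf_le_right.trans ((BGUniq.centralizer_zCore_le hG hM hrd).trans (le_normalizer_core t M)))
    obtain ⟨n, hn⟩ := (isPGroup_core t M).exists_card_eq
    rw [hn]
    exact Nat.Coprime.pow_left n ((Nat.coprime_primes ht hr).mpr hrt.symm)
  have hbal₂ : ∀ t r : ℕ, t.Prime → r.Prime → r ∣ Nat.card F → r ≠ t →
      core t L ≤ opp r M := by
    intro t r ht hr hrd hrt
    haveI := Fact.mk ht; haveI := Fact.mk hr
    refine le_opp_of_centralizing hMs ((zCore_le_core r L).trans (hcoreM r hr))
      (isPGroup_zCore r L) (hcoreM t ht) ?_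
      ((core_le_fittingOf t L).trans (fittingOf_le_centralizer_zCore r L))
      (inf_le_right.trans (((Subgroup.centralizer_le_normalizer _).trans_eq
        (BGSigma.normalizer_eq_coatom hG hL ((zCore_le_core r L).trans (core_le r L))
          (zCore_ne_bot (hLne r hr hrd)) (le_normalizer_zCore r L))).trans
            (le_normalizer_core t L)))
    obtain ⟨n, hn⟩ := (isPGroup_core t L).exists_card_eq
    rw [hn]
    exact Nat.Coprime.pow_left n ((Nat.coprime_primes ht hr).mpr hrt.symm)
  obtain ⟨t, ht, -, htd⟩ := hnp 0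
  haveI := Fact.mk ht
  obtain ⟨r, hr, hrt, hrd⟩ := hnp t
  haveI := Fact.mk hr
  set X := opp t L with hX
  set X' := opp t M with hX'
  -- `O_{t'}` of one centralizes `O_t` of the other
  have hcent : ∀ {K K' : Subgroup G}, A ≤ K → core t K' ≤ K →
      (∀ s : ℕ, s.Prime → s ∣ Nat.card F → s ≠ t → core t K' ≤ opp s K) →
      opp t K ≤ Subgroup.centralizer (core t K' : Set G) := by
    intro K K' hAK hK' hb x hx
    refine Subgroup.mem_centralizer_iff.mpr fun y hy => ?_
    have h1 : x * y * x⁻¹ * y⁻¹ = 1 := by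
      refine eq_one_of_forall_mem_opp hG hM hAF hCA hzA hnp hinv hAK ht ?_ ?_
      · rw [mul_assoc x y, mul_assoc]
        exact mul_mem hx ((Subgroup.mem_normalizer_iff.mp
          (le_normalizer_opp t K (hK' hy)) x⁻¹).mp (inv_mem hx))
      · intro s hs hsd hst
        exact mul_mem ((Subgroup.mem_normalizer_iff.mp
          (le_normalizer_opp s K (opp_le t K hx)) y).mp (hb s hs hsd hst hy))
          (inv_mem (hb s hs hsd hst hy))
    rw [mul_inv_eq_one, mul_inv_eq_iff_eq_mul] at h1
    exact h1.symm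
  have hXc : X ≤ Subgroup.centralizer (core t M : Set G) :=
    hcent hAL (hML t ht) fun s hs hsd hst => hbal₁ t s ht hs hsd hst
  have hX'c : X' ≤ Subgroup.centralizer (core t L : Set G) :=
    hcent hAM (hcoreM t ht) fun s hs hsd hst => hbal₂ t s ht hs hsd hst
  have hMne : core t M ≠ ⊥ := core_ne_bot_of_dvd htd
  have hCM : Subgroup.centralizer (core t M : Set G) ≤ M :=
    (Subgroup.centralizer_le_normalizer _).trans_eq
      (BGSigma.normalizer_eq_coatom hG hM (core_le t M) hMne (le_normalizer_core t M))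
  have hCL : Subgroup.centralizer (core t L : Set G) ≤ L :=
    (Subgroup.centralizer_le_normalizer _).trans_eq
      (BGSigma.normalizer_eq_coatom hG hL (core_le t L) (hLne t ht htd) (le_normalizer_core t L))
  have hself : ∀ K : Subgroup G, opp t K ≤ Subgroup.centralizer (core t K : Set G) := by
    intro K x hx
    refine Subgroup.mem_centralizer_iff.mpr fun y hy => ?_
    refine mul_comm_of_normalized_coprime (core_le t K) (opp_le t K) (le_normalizer_core t K)
      (le_normalizer_opp t K) ?_ hy hx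
    obtain ⟨n, hn⟩ := (isPGroup_core t K).exists_card_eq
    rw [hn]
    exact Nat.Coprime.pow_left n (opp_coprime t K).symm
  set Z := core t L ⊔ core t M with hZdef
  have hZp : IsPGroup t Z := IsPGroup.to_sup_of_normal_right' (isPGroup_core t L)
    (isPGroup_core t M) ((hcoreM t ht).trans (le_normalizer_core t M))
  have hZC : ∀ {Y : Subgroup G}, Y ≤ Subgroup.centralizer (core t L : Set G) →
      Y ≤ Subgroup.centralizer (core t M : Set G) → Y ≤ Subgroup.centralizer (Z : Set G) :=
    fun h1 h2 => Subgroup.le_centralizer_iff.mp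
      (sup_le (Subgroup.le_centralizer_iff.mp h1) (Subgroup.le_centralizer_iff.mp h2))
  have hle₁ : X ≤ X' :=
    le_opp_of_centralizing hMs (sup_le (hcoreM t ht) (core_le t M)) hZp (hXc.trans hCM)
      (opp_coprime t L) (hZC (hself L) hXc)
      (inf_le_right.trans (((Subgroup.centralizer_le (SetLike.coe_subset_coe.mpr le_sup_left)).trans hCL).trans
        (le_normalizer_opp t L)))
  have hle₂ : X' ≤ X :=
    le_opp_of_centralizing hLs (sup_le (core_le t L) (hML t ht)) hZp (hX'c.trans hCL)
      (opp_coprime t M) (hZC hX'c (hself M))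
      (inf_le_right.trans (((Subgroup.centralizer_le (SetLike.coe_subset_coe.mpr le_sup_right)).trans hCM).trans
        (le_normalizer_opp t M)))
  have hXX' : X = X' := le_antisymm hle₁ hle₂
  have hX'ne : X' ≠ ⊥ := fun h =>
    core_ne_bot_of_dvd hrd (le_bot_iff.mp (h ▸ core_le_opp hrt M))
  rw [← BGSigma.normalizer_eq_coatom hG hM (opp_le t M) hX'ne (le_normalizer_opp t M), ← hX',
    ← hXX', BGSigma.normalizer_eq_coatom hG hL (opp_le t L) (show X ≠ ⊥ from hXX'.symm ▸ hX'ne) (le_normalizer_opp t L)]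

end Bender

theorem fittingOf_le_of_inv (hG : IsMinSimpleOddOrder G) {M : Subgroup G} (hM : IsCoatom M)
    {A : Subgroup G} (hAF : A ≤ fittingOf M) (hzA : ∀ r : ℕ, r.Prime → zCore r M ≤ A)
    (hnp : ∀ t : ℕ, ∃ r : ℕ, r.Prime ∧ r ≠ t ∧ r ∣ Nat.card (fittingOf M))
    (hinv : ∀ W : Subgroup G, BGSigma.IsPiSub (fitPi M) W →
      A ≤ Subgroup.normalizer (W : Set G) → W = ⊥)
    {L : Subgroup G} (hL : IsCoatom L) (hAL : A ≤ L) : fittingOf M ≤ L := by
  haveI hLs := BGSigma.coatom_isSolvable hG hL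
  haveI hMs := BGSigma.coatom_isSolvable hG hM
  have hLbot : piCore (fitPi M) L = ⊥ := by
    have h := hinv _ (BGSigma.isPiSub_piCoreOf L)
      (hAL.trans (Subgroup.le_normalizer.trans (BGSigma.piCoreOf_normalized L)))
    rw [piCoreOf, Subgroup.map_eq_bot_iff_of_injective _ L.subtype_injective] at h
    exact h
  have hcz : ∀ r : ℕ, ∀ [Fact r.Prime], r ∣ Nat.card (fittingOf M) →
      Subgroup.centralizer (zCore r M : Set G) ≤ M :=
    fun r _ h => BGUniq.centralizer_zCore_le hG hM h
  -- `O_s(L)` centralizes `Z(O_r(M))` for `r ≠ s`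
  have hsz : ∀ s r : ℕ, s.Prime → r.Prime → r ≠ s → core s L ≤ Subgroup.centralizer
      (zCore r M : Set G) := by
    intro s r hs hr hrs x hx
    haveI := Fact.mk hs; haveI := Fact.mk hr
    by_cases hsd : s ∣ Nat.card (fittingOf M)
    · obtain ⟨y, hy, rfl⟩ := hx
      refine Subgroup.mem_centralizer_iff.mpr fun a ha => ?_
      have h1 := Subgroup.mem_centralizer_iff.mp
        (InvariantUnique.tPrime_centralizes_pCore hAF hzA hAL hcz hsd
          (Thompson.map_pCore_le_of_surjective _ (QuotientGroup.mk'_surjective _) ⟨y, hy, rfl⟩))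
        _ ⟨⟨a, hAL (hzA r hr ha)⟩,
          ⟨hzA r hr ha, core_le_opp hrs M (zCore_le_core r M ha)⟩, rfl⟩
      rw [← map_mul, ← map_mul] at h1
      have hinj : Function.Injective (QuotientGroup.mk' (piCore (fitPi M) L)) := by
        rw [← MonoidHom.ker_eq_bot_iff, QuotientGroup.ker_mk', hLbot]
      exact congrArg Subtype.val (hinj h1)
    · have h0 : core s L = ⊥ := by
        rw [core, Subgroup.map_eq_bot_iff_of_injective _ L.subtype_injective, ← le_bot_iff, ← hLbot]
        exact BGSigma.le_piCore inferInstance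
          (isPiSub_of_isPGroup (π := fitPi M) ⟨hs, hsd⟩ Thompson.isPGroup_pCore)
      rw [h0, Subgroup.mem_bot] at hx
      rw [hx]; exact one_mem _
  have hLne : ∀ t : ℕ, t.Prime → t ∣ Nat.card (fittingOf M) → core t L ≠ ⊥ := by
    intro t ht htd h0
    haveI := Fact.mk ht
    have h1 : zCore t M ≤ fittingOf L := by
      refine le_trans (le_inf ((hzA t ht).trans hAL) (Subgroup.le_centralizer_iff.mp
        (fittingOf_le_of_core_le fun s hs => ?_))) (inf_centralizer_fittingOf_le hLs)
      rcases eq_or_ne s t with rfl | hst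
      · rw [h0]; exact bot_le
      · exact hsz s t hs ht (Ne.symm hst)
    refine zCore_ne_bot (core_ne_bot_of_dvd htd) (le_bot_iff.mp fun x hx => ?_)
    obtain ⟨n, hn⟩ := isPGroup_zCore t M ⟨x, hx⟩
    obtain ⟨j, -, hj⟩ := (Nat.dvd_prime_pow ht).mp
      (orderOf_dvd_of_pow_eq_one (congrArg Subtype.val hn : x ^ t ^ n = 1))
    exact h0 ▸ mem_core_of_mem_fittingOf (h1 hx) hj
  have hcoreM : ∀ t : ℕ, t.Prime → core t L ≤ M := by
    intro t ht
    obtain ⟨r, hr, hrt, hrd⟩ := hnp t
    haveI := Fact.mk hr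
    exact (hsz t r ht hr hrt).trans (BGUniq.centralizer_zCore_le hG hM hrd)
  refine fittingOf_le_of_core_le fun t ht => ?_
  by_cases htd : t ∣ Nat.card (fittingOf M)
  swap
  · haveI := Fact.mk ht
    have h0 : core t M = ⊥ := by
      by_contra h
      exact htd (dvd_card_fittingOf_of_core_ne_bot h)
    rw [h0]; exact bot_le
  obtain ⟨s, hs, hst, hsd⟩ := hnp t
  haveI := Fact.mk ht; haveI := Fact.mk hs
  have hP : core s L ≤ opp t M := by
    refine le_opp_of_centralizing hMs ((zCore_le_core t L).trans (hcoreM t ht))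
      (isPGroup_zCore t L) (hcoreM s hs) ?_
      ((core_le_fittingOf s L).trans (fittingOf_le_centralizer_zCore t L))
      (inf_le_right.trans (((Subgroup.centralizer_le_normalizer _).trans_eq
        (BGSigma.normalizer_eq_coatom hG hL ((zCore_le_core t L).trans (core_le t L))
          (zCore_ne_bot (hLne t ht htd)) (le_normalizer_zCore t L))).trans
            (le_normalizer_core s L)))
    obtain ⟨n, hn⟩ := (isPGroup_core s L).exists_card_eq
    rw [hn]
    exact Nat.Coprime.pow_left n ((Nat.coprime_primes hs ht).mpr hst)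
  refine le_trans (Subgroup.le_centralizer_iff.mp (fun x hx => ?_))
    ((Subgroup.centralizer_le_normalizer _).trans_eq
      (BGSigma.normalizer_eq_coatom hG hL (core_le s L) (hLne s hs hsd) (le_normalizer_core s L)))
  refine Subgroup.mem_centralizer_iff.mpr fun y hy => ?_
  refine mul_comm_of_normalized_coprime (core_le t M) (opp_le t M) (le_normalizer_core t M)
    (le_normalizer_opp t M) ?_ hy (hP hx)
  obtain ⟨n, hn⟩ := (isPGroup_core t M).exists_card_eq
  rw [hn]
  exact Nat.Coprime.pow_left n (opp_coprime t M).symm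

theorem overgroup_stmt (hG : IsMinSimpleOddOrder G) (H : Subgroup G) (hH : IsCoatom H)
    (hF2 : 2 ≤ (Nat.card (fittingOf H)).primeFactors.card)
    (M : Subgroup G) (hM : M ≤ fittingOf H)
    (hZM : fittingOf H ⊓ Subgroup.centralizer (fittingOf H : Set G) ≤ M)
    (hinv : ∀ Y ∈ invSubgroups ⊤ M (fitPi H), Y = ⊥) :
    ∀ L : Subgroup G, IsCoatom L → M ≤ L → L = H := by
  intro L hL hML
  have hnp : ∀ t : ℕ, ∃ r : ℕ, r.Prime ∧ r ≠ t ∧ r ∣ Nat.card (fittingOf H) := by
    intro t
    obtain ⟨r, hr, hrt⟩ := Finset.exists_mem_ne hF2 t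
    exact ⟨r, Nat.prime_of_mem_primeFactors hr, hrt, Nat.dvd_of_mem_primeFactors hr⟩
  have hzM : ∀ r : ℕ, r.Prime → zCore r H ≤ M := fun r hr z hz => by
    haveI := Fact.mk hr
    exact hZM ⟨core_le_fittingOf r H (zCore_le_core r H hz),
      zCore_le_centralizer_fittingOf r H hz⟩
  have hinv' : ∀ W : Subgroup G, BGSigma.IsPiSub (fitPi H) W →
      M ≤ Subgroup.normalizer (W : Set G) → W = ⊥ := fun W hW hn => hinv W ⟨le_top, hW, hn⟩
  exact eq_of_le_of_nonP hG hH le_rfl inf_le_left (fun r hr => (hzM r hr).trans hM) hnp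
    (fun W hW hn => hinv' W hW (hM.trans hn)) hL
    (fittingOf_le_of_inv hG hH hM hzM hnp hinv' hL hML)

end Cfsg.Agent.BGUniq.OvergroupUnique
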