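import Cfsg.Agent.BGUniq.FittingHall

/-!
Consequences of the type P axioms for the complement `U`.
-/

set_option autoImplicit false

namespace Cfsg.Agent.BGUniq

open Cfsg

/-- In type P data, an element of `U` lying in `F(M)` centralizes `H = M_F`. -/
theorem complement_mem_centralizer {G : Type*} [Group G] [Finite G] (M W₁ U W₂ : Subgroup G)
    (hP : Cfsg.IsTypePWith M W₁ U W₂) (u : G) (hu : u ∈ U) (huF : u ∈ fittingOf M) :
    u ∈ Subgroup.centralizer (fittingHallOf M : Set G) := by
  set H := fittingHallOf M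
  set C := M ⊓ Subgroup.centralizer (H : Set G) with hC
  have huM : u ∈ M :=
    M.commutator_le_self (hP.U_compl.2.1 hu)
  rw [← hP.fitting_eq] at huF
  obtain ⟨a, ha, c, hc, hac⟩ := (sup_factors H C (fun a ha b hb => hb.2 a ha)).1 u huF
  have hcomm : Commute a c := hc.2 a ha
  have h1 : u ^ Nat.card H ∈ C := by
    rw [hac, hcomm.mul_pow]
    have : a ^ Nat.card H = 1 := Subtype.ext_iff.mp (pow_card_eq_one' (x := (⟨a, ha⟩ : H)))
    rw [this, one_mul]
    exact C.pow_mem hc _
  have h2 : u ^ (fittingHall M).index ∈ C := by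
    have : u ^ (fittingHall M).index ∈ H ⊓ U := ⟨pow_index_fittingHallOf huM, U.pow_mem hu _⟩
    rw [hP.U_compl.2.2.1, Subgroup.mem_bot] at this
    rw [this]; exact one_mem _
  have hco : (Nat.card H).Coprime (fittingHall M).index := by
    rw [card_fittingHallOf]; exact fittingHall_coprime _
  exact (mem_of_pow_mem_of_coprime h1 h2 hco).2

end Cfsg.Agent.BGUniq
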