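import Cfsg.Agent.BGUniq.LocalFrattini
import Cfsg.Agent.BGUniq.Transitivity
import Cfsg.Agent.BGUniq.SCN
import Cfsg.Agent.OddLocal44.RankThree
import Cfsg.Agent.S1396
import Cfsg.Agent.S1450

/-!
The uniqueness lemma: a nontrivial `p`-subgroup `B` of a maximal subgroup `M` all of whose
invariant `p'`-subgroups lie in `M` lies in no other maximal subgroup.
-/

set_option autoImplicit false

namespace Cfsg.Agent.BGUniq

open Cfsg

variable {G : Type*} [Group G]

/-! ### Membership in the set of uniqueness subgroups -/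

theorem inU_mk {X M : Subgroup G} (hM : IsCoatom M) (hXM : X ≤ M)
    (h : ∀ L : Subgroup G, IsCoatom L → X ≤ L → L = M) : InUniqueMaximal X :=
  ⟨M, ⟨hM, hXM⟩, fun L hL => h L hL.1 hL.2⟩

theorem inU_eq {X M L : Subgroup G} (h : InUniqueMaximal X) (hM : IsCoatom M) (hXM : X ≤ M)
    (hL : IsCoatom L) (hXL : X ≤ L) : L = M :=
  h.unique ⟨hL, hXL⟩ ⟨hM, hXM⟩

theorem inU_mono [Finite G] {X Y : Subgroup G} (h : InUniqueMaximal X) (hle : X ≤ Y)
    (hY : Y ≠ ⊤) : InUniqueMaximal Y := by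
  obtain ⟨M, hM, hYM⟩ := (eq_top_or_exists_le_coatom Y).resolve_left hY
  exact inU_mk hM hYM fun L hL hYL => inU_eq h hM (hle.trans hYM) hL (hle.trans hYL)

theorem le_of_inU [Finite G] {X M Y : Subgroup G} (h : InUniqueMaximal X) (hM : IsCoatom M)
    (hXM : X ≤ M) (hY : Y ≠ ⊤) (hXY : X ≤ Y) : Y ≤ M := by
  obtain ⟨L, hL, hYL⟩ := (eq_top_or_exists_le_coatom Y).resolve_left hY
  rwa [inU_eq h hM hXM hL (hXY.trans hYL)] at hYL

theorem isCoatom_map_conj {M : Subgroup G} (hM : IsCoatom M) (g : G) :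
    IsCoatom (M.map (MulAut.conj g).toMonoidHom) :=
  ((MulAut.conj g).mapSubgroup.isCoatom_iff M).mpr hM

theorem inU_map_conj {X : Subgroup G} (h : InUniqueMaximal X) (g : G) :
    InUniqueMaximal (X.map (MulAut.conj g).toMonoidHom) := by
  obtain ⟨M, ⟨hM, hXM⟩, hu⟩ := h
  refine inU_mk (isCoatom_map_conj hM g) (Subgroup.map_mono hXM) fun L hL hle => ?_
  have h1 : L.map (MulAut.conj g⁻¹).toMonoidHom = M := hu _ ⟨isCoatom_map_conj hL g⁻¹, by
    simpa only [map_conj_inv] using Subgroup.map_mono (f := (MulAut.conj g⁻¹).toMonoidHom) hle⟩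
  rw [← h1, map_conj_mul, mul_inv_cancel, map_conj_one]

theorem inU_ne_bot [Finite G] (hG : IsMinSimpleOddOrder G) {X : Subgroup G}
    (h : InUniqueMaximal X) : X ≠ ⊥ := by
  rintro rfl
  obtain ⟨M, ⟨hM, -⟩, -⟩ := id h
  refine hM.1 (eq_top_iff.mpr fun x _ => ?_)
  refine le_of_inU h hM bot_le (fun hx => ?_) bot_le (Subgroup.mem_zpowers x)
  exact hG.2.2.1 ⟨⟨fun a b => by
    obtain ⟨i, rfl⟩ := Subgroup.mem_zpowers_iff.mp (hx.symm ▸ Subgroup.mem_top a :)
    obtain ⟨j, rfl⟩ := Subgroup.mem_zpowers_iff.mp (hx.symm ▸ Subgroup.mem_top b :)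
    exact (Commute.zpow_zpow_self x i j).eq⟩⟩

/-! ### Invariant Sylow subgroups -/

variable [Finite G] {p : ℕ} [hp : Fact p.Prime]

omit hp in
theorem le_of_invariant_sylows {A Y M : Subgroup G} (hAY : A ≤ Subgroup.normalizer (Y : Set G))
    (hcop : (Nat.card A).Coprime (Nat.card Y)) (hA : Group.IsSolvable A)
    (h : ∀ (q : ℕ), q.Prime → ∀ S : Subgroup G, S ≤ Y → IsPGroup q S →
      A ≤ Subgroup.normalizer (S : Set G) → S ≤ M) : Y ≤ M := by
  rw [← Subgroup.subgroupOf_eq_top, ← Subgroup.index_eq_one]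
  by_contra hne
  obtain ⟨q, hq, hd⟩ := Nat.exists_prime_and_dvd hne
  haveI := Fact.mk hq
  obtain ⟨S, hS⟩ := Coprime.exists_invariant_sylow A Y hAY hcop (Or.inl hA) q
  refine S.not_dvd_index (hd.trans (Subgroup.index_dvd_of_le fun x hx => ?_))
  exact h q hq _ (Subgroup.map_subtype_le _) (S.isPGroup'.map _) hS ⟨x, hx, rfl⟩

omit hp in
theorem normalizer_le_of_greatest {X D : Subgroup G} (hXD : X ≤ Subgroup.normalizer (D : Set G))
    (hD : (Nat.card D).Coprime p)
    (h : ∀ Y : Subgroup G, (Nat.card Y).Coprime p → X ≤ Subgroup.normalizer (Y : Set G) →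
      Y ≤ D) :
    Subgroup.normalizer (X : Set G) ≤ Subgroup.normalizer (D : Set G) := by
  intro g hg
  rw [map_conj_eq_self_iff]
  have hle : D.map (MulAut.conj g).toMonoidHom ≤ D := by
    refine h _ (hD.coprime_dvd_left (Subgroup.card_map_dvd _ _)) ?_
    calc X = X.map (MulAut.conj g).toMonoidHom := ((map_conj_eq_self_iff X g).mp hg).symm
      _ ≤ (Subgroup.normalizer (D : Set G)).map (MulAut.conj g).toMonoidHom :=
        Subgroup.map_mono hXD
      _ ≤ _ := D.le_normalizer_map _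
  exact Subgroup.eq_of_le_of_card_ge hle
    (Nat.card_congr (D.equivMapOfInjective _ (MulAut.conj g).injective).toEquiv).le

theorem pRankLE_of_isSylowIn {k : ℕ} {P X : Subgroup G} (hP : IsSylowIn p P X)
    (hr : PRankLE p k P) : PRankLE p k X := by
  by_contra hX
  obtain ⟨E, hEX, hE, hEc⟩ := exists_elementary_of_not_pRankLE hX
  obtain ⟨S, hS⟩ := map_sylow_of_isSylowIn hP
  have hEp : IsPGroup p E := fun a => ⟨1, by
    rw [pow_one]; exact Subtype.ext (hE.2 a a.2)⟩
  obtain ⟨Q, hQ⟩ := (hEp.comap_subtype (K := X)).exists_le_sylow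
  obtain ⟨g, hg⟩ := MulAction.exists_smul_eq X Q S
  refine not_pRankLE_of_elementary (E := E.map (MulAut.conj (g : G)).toMonoidHom) (X := P) ?_
    ⟨?_, ?_⟩ ?_ hr
  · rintro _ ⟨e, he, rfl⟩
    have h1 : g * ⟨e, hEX he⟩ * g⁻¹ ∈ (S : Subgroup X) := by
      rw [← hg]
      exact ⟨⟨e, hEX he⟩, hQ he, rfl⟩
    rw [← hS]
    exact ⟨_, h1, rfl⟩
  · haveI := hE.1
    exact Subgroup.map_isMulCommutative E _
  · rintro _ ⟨e, he, rfl⟩
    rw [← map_pow, hE.2 e he, map_one]
  · rw [← Nat.card_congr (E.equivMapOfInjective _ (MulAut.conj (g : G)).injective).toEquiv]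
    exact hEc

theorem exists_scn_three (P : Sylow p G) (hp2 : p ≠ 2)
    (hr : ¬ PRankLE p 2 (P : Subgroup G)) :
    ∃ A : Subgroup G, IsSCN (P : Subgroup G) A ∧ ¬ PRankLE p 2 A := by
  obtain ⟨B, hBn, hB, hB3, -⟩ := OddLocal44.exists_normal_elementary_cube P.isPGroup' hp2 hr
  haveI := hBn
  haveI := P.isPGroup'.isNilpotent
  haveI := hB.1
  obtain ⟨A, hBA, hAn, hAc⟩ := OddLocal44.exists_normal_centralizer_eq_ge B
    (Subgroup.le_centralizer_iff_isMulCommutative.mpr hB.1)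
  refine ⟨A.map (P : Subgroup G).subtype, ⟨Subgroup.map_subtype_le _, ?_, ?_⟩, ?_⟩
  · intro g hg
    exact A.le_normalizer_map _ ⟨⟨g, hg⟩, by rw [Subgroup.normalizer_eq_top]; trivial, rfl⟩
  · ext x
    constructor
    · rintro ⟨hxP, hxC⟩
      refine ⟨⟨x, hxP⟩, ?_, rfl⟩
      rw [← hAc]
      exact Subgroup.mem_centralizer_iff.mpr fun a ha =>
        Subtype.ext (Subgroup.mem_centralizer_iff.mp hxC a ⟨a, ha, rfl⟩)
    · rintro ⟨y, hy, rfl⟩
      refine ⟨y.2, Subgroup.mem_centralizer_iff.mpr ?_⟩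
      rintro _ ⟨a, ha, rfl⟩
      rw [← hAc] at hy
      exact congrArg Subtype.val (Subgroup.mem_centralizer_iff.mp hy a ha)
  · refine not_pRankLE_of_elementary (E := B.map (P : Subgroup G).subtype)
      (Subgroup.map_mono hBA) ⟨Subgroup.map_isMulCommutative B _, ?_⟩ ?_
    · rintro _ ⟨b, hb, rfl⟩
      rw [← map_pow, hB.2 b hb, map_one]
    · rw [Subgroup.card_map_of_injective (Subgroup.subtype_injective _)]
      exact hB3

theorem not_isCyclic_of_card_ge {E : Subgroup G} (hE : IsElementaryAbelian p E)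
    (hc : p ^ 2 ≤ Nat.card E) : ¬ IsCyclic E := by
  intro h
  obtain ⟨a, ha, b, hb, ha1, hba⟩ := exists_pair hE hc
  exact not_isCyclic_pair hE ha ha1 hb hba (Subgroup.isCyclic_of_le
    (sup_le (Subgroup.zpowers_le.mpr ha) (Subgroup.zpowers_le.mpr hb)))

omit [Finite G] hp in
theorem isPGroup_of_elementary {p : ℕ} {E : Subgroup G} (hE : IsElementaryAbelian p E) :
    IsPGroup p E := fun a => ⟨1, by rw [pow_one]; exact Subtype.ext (hE.2 a a.2)⟩

section Main

variable (hG : IsMinSimpleOddOrder G)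
include hG

omit hp in
theorem ne_top_of_isPGroup {p : ℕ} [Fact p.Prime] {P : Subgroup G} (hP : IsPGroup p P) :
    P ≠ ⊤ := fun h => by
  haveI := hP.isNilpotent
  exact BGSigma.not_isSolvable hG (Group.isSolvable_of_surjective (f := P.subtype)
    fun x => ⟨⟨x, h ▸ Subgroup.mem_top x⟩, rfl⟩)

theorem dvd_card_of_ne_bot {P : Subgroup G} (hP : IsPGroup p P) (hne : P ≠ ⊥) :
    p ∣ Nat.card G := by
  obtain ⟨x, hx, hx1⟩ := exists_mem_ne_one hne
  obtain ⟨n, hn⟩ := hP.exists_card_eq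
  refine dvd_trans ?_ (Subgroup.card_subgroup_dvd_card P)
  rw [hn]
  refine dvd_pow_self p fun h0 => hx1 ?_
  rw [h0, pow_zero] at hn
  exact Subgroup.mem_bot.mp (Subgroup.eq_bot_of_card_eq P hn ▸ hx)

/-- A maximal subgroup with a Sylow subgroup `P` all of whose invariant `p'`-subgroups it contains
contains `N(P)`, so `P` is a Sylow subgroup of `G`. -/
theorem sylow_of_inv_le {M P : Subgroup G} (hM : IsCoatom M) (hP : IsSylowIn p P M)
    (hne : P ≠ ⊥)
    (hinv : ∀ Y : Subgroup G, (Nat.card Y).Coprime p → P ≤ Subgroup.normalizer (Y : Set G) →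
      Y ≤ M) :
    Subgroup.normalizer (P : Set G) ≤ M ∧ ∃ Q : Sylow p G, (Q : Subgroup G) = P := by
  have hMs := BGSigma.coatom_isSolvable hG hM
  have hN : Subgroup.normalizer (P : Set G) ≤ M := by
    rcases eq_or_ne (opp p M) ⊥ with hD | hD
    · have hp2 : p ≠ 2 := prime_ne_two hG (dvd_card_of_ne_bot hG hP.2.1 hne)
      have h1 := frattini_puig hMs (odd_card_subgroup hG M) hp2 hP
      rw [hD, bot_sup_eq] at h1
      have hZ := centerPuig_ne_bot hP.2.1 hne
      rw [← BGSigma.normalizer_eq_coatom hG hM ((centerPuig_le P).trans hP.1) hZ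
        (h1.trans inf_le_right)]
      exact OddLocal44.le_normalizer_centerPuig le_rfl
    · rw [← BGSigma.normalizer_eq_coatom hG hM (opp_le p M) hD (le_normalizer_opp p M)]
      exact normalizer_le_of_greatest (hP.1.trans (le_normalizer_opp p M)) (opp_coprime p M)
        fun Y hY hPY => le_opp_of_sylow_normalized hMs hP (hinv Y hY hPY) hY hPY
  refine ⟨hN, ?_⟩
  obtain ⟨Q, hQ⟩ := hP.2.1.exists_le_sylow
  refine ⟨Q, ?_⟩
  by_contra hne'
  have hlt := lt_inf_normalizer Q.isPGroup' (lt_of_le_of_ne hQ (Ne.symm hne'))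
  exact hlt.not_ge (hP.le_of_le (Q.isPGroup'.to_le inf_le_left) hlt.le (inf_le_right.trans hN))

omit hG in
theorem isSylowIn_of_sylow {X : Subgroup G} (P : Sylow p G) (hPX : (P : Subgroup G) ≤ X) :
    IsSylowIn p (P : Subgroup G) X :=
  ⟨hPX, P.isPGroup', fun h => P.not_dvd_index
    (h.trans (Dvd.intro _ (Subgroup.relIndex_mul_index hPX)))⟩

/-- If some `A ≤ P` with `C_P(A) ≤ A` lies in every `O_{p',p}` and has all its invariant
`p'`-subgroups in `M`, then `M` is the only maximal subgroup containing `P`. -/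
theorem eq_of_sylow_le_of_witness {M L : Subgroup G} (hM : IsCoatom M) (P : Sylow p G)
    (hPM : (P : Subgroup G) ≤ M) (hne : (P : Subgroup G) ≠ ⊥) {A : Subgroup G}
    (hAP : A ≤ (P : Subgroup G))
    (hAC : (P : Subgroup G) ⊓ Subgroup.centralizer (A : Set G) ≤ A)
    (hAQ : ∀ X : Subgroup G, X ≠ ⊤ → (P : Subgroup G) ≤ X → A ≤ oppP p X)
    (hA : ∀ Y : Subgroup G, (Nat.card Y).Coprime p → A ≤ Subgroup.normalizer (Y : Set G) →
      Y ≤ M)
    (hL : IsCoatom L) (hPL : (P : Subgroup G) ≤ L) : L = M := by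
  have hMs := BGSigma.coatom_isSolvable hG hM
  have hLs := BGSigma.coatom_isSolvable hG hL
  have hPM' := isSylowIn_of_sylow P hPM
  have hPL' := isSylowIn_of_sylow P hPL
  set D := opp p M with hD
  have hAD : ∀ Y : Subgroup G, (Nat.card Y).Coprime p →
      A ≤ Subgroup.normalizer (Y : Set G) → Y ≤ D := fun Y hY hAY =>
    le_opp_of_normalized hMs hPM' hAP (hAQ M hM.1 hPM) hAC (hA Y hY hAY) hY hAY
  have hoL : opp p L ≤ D :=
    hAD _ (opp_coprime p L) ((hAP.trans hPL).trans (le_normalizer_opp p L))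
  rcases eq_or_ne D ⊥ with hD0 | hD0
  · have hp2 : p ≠ 2 := prime_ne_two hG (dvd_card_of_ne_bot hG P.isPGroup' hne)
    have hZ := centerPuig_ne_bot P.isPGroup' hne
    have h1 : ∀ {X : Subgroup G}, IsCoatom X → IsSylowIn p (P : Subgroup G) X → opp p X = ⊥ →
        Subgroup.normalizer (OddLocal44.centerPuig (P : Subgroup G) : Set G) = X := by
      intro X hX hPX hXD
      have := frattini_puig (BGSigma.coatom_isSolvable hG hX) (odd_card_subgroup hG X) hp2 hPX
      rw [hXD, bot_sup_eq] at this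
      exact BGSigma.normalizer_eq_coatom hG hX ((centerPuig_le _).trans hPX.1) hZ
        (this.trans inf_le_right)
    rw [← h1 hL hPL' (le_bot_iff.mp (hD0 ▸ hoL)), ← h1 hM hPM' (hD ▸ hD0)]
  · set T := (P : Subgroup G) ⊓ oppP p L with hT
    have hAT : A ≤ T := le_inf hAP (hAQ L hL.1 hPL)
    have hN : Subgroup.normalizer (T : Set G) ≤ M := by
      rw [← BGSigma.normalizer_eq_coatom hG hM (opp_le p M) hD0 (le_normalizer_opp p M)]
      exact normalizer_le_of_greatest
        ((inf_le_left.trans hPM).trans (le_normalizer_opp p M)) (opp_coprime p M)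
        fun Y hY hTY => hAD Y hY (hAT.trans hTY)
    have hle : L ≤ M := (frattini_oppP hPL').trans
      (sup_le (hoL.trans (opp_le p M)) (inf_le_right.trans hN))
    exact ((hL.le_iff.mp hle).resolve_left hM.1).symm

/-- In low rank the Sylow subgroup itself lies in every `O_{p',p}`. -/
theorem sylow_le_oppP_of_rank_two (P : Sylow p G) (hne : (P : Subgroup G) ≠ ⊥)
    (hr : PRankLE p 2 (P : Subgroup G)) {X : Subgroup G} (hX : X ≠ ⊤)
    (hPX : (P : Subgroup G) ≤ X) : (P : Subgroup G) ≤ oppP p X := by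
  haveI := BGSigma.isSolvable_of_ne_top hG hX
  have hpX : p ∣ Nat.card X := by
    refine dvd_trans ?_ (Subgroup.card_dvd_of_le hPX)
    obtain ⟨n, hn⟩ := P.isPGroup'.exists_card_eq
    rw [hn]
    exact dvd_pow_self p fun h0 => hne (Subgroup.eq_bot_of_card_eq _ (by rw [hn, h0, pow_zero]))
  obtain ⟨-, -, -, -, -, hidx⟩ := S1450.result (odd_card_subgroup hG X) p hpX
    (pRankLE_of_isSylowIn (isSylowIn_of_sylow P hPX) hr)
  haveI : (pPrimePCore p X).Normal := Subgroup.Normal.comap (Thompson.instPCoreNormal) _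
  intro x hx
  refine ⟨⟨x, hPX hx⟩, ?_, rfl⟩
  show (⟨x, hPX hx⟩ : X) ∈ pPrimePCore p X
  rw [← QuotientGroup.eq_one_iff, ← orderOf_eq_one_iff]
  obtain ⟨n, hn⟩ := P.isPGroup'.exists_card_eq
  have hd : orderOf ((⟨x, hPX hx⟩ : X) : X ⧸ pPrimePCore p X) ∣ p ^ n := by
    refine (orderOf_map_dvd (QuotientGroup.mk' (pPrimePCore p X)) ⟨x, hPX hx⟩).trans ?_
    rw [Subgroup.orderOf_mk, ← Subgroup.orderOf_mk x hx, ← hn]
    exact orderOf_dvd_natCard _
  refine Nat.eq_one_of_dvd_coprimes (hidx.pow_right n) ?_ hd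
  rw [Subgroup.index_eq_card]
  exact orderOf_dvd_natCard _

/-- All invariant `p'`-subgroups of a rank-three self-centralizing normal `A ≤ P` lie in `M`. -/
theorem inv_scn_three_le {M : Subgroup G} (P : Sylow p G) (hPM : (P : Subgroup G) ≤ M)
    {B : Subgroup G} (hBP : B ≤ (P : Subgroup G))
    (hB : ∀ Y : Subgroup G, (Nat.card Y).Coprime p → B ≤ Subgroup.normalizer (Y : Set G) →
      Y ≤ M)
    {A : Subgroup G} (hA : IsSCN (P : Subgroup G) A) (hA3 : ¬ PRankLE p 2 A)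
    {Y : Subgroup G} (hY : (Nat.card Y).Coprime p)
    (hAY : A ≤ Subgroup.normalizer (Y : Set G)) : Y ≤ M := by
  have hAc := isMulCommutative_of_isSCN hA
  haveI := hAc
  have hAp : IsPGroup p A := P.isPGroup'.to_le hA.1
  obtain ⟨E, hEA, hE, hEc⟩ := exists_elementary_of_not_pRankLE hA3
  have h1 : ¬ PRankLE p 1 A :=
    not_pRankLE_of_elementary hEA hE
      ((Nat.pow_le_pow_right hp.out.pos (by norm_num)).trans hEc)
  obtain ⟨E₂, hE₂A, -, -, -, z, hzE, hz1, hzP⟩ := exists_normal_pair P hA h1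
  have hA0 : A ≠ ⊥ := fun h => hz1 (Subgroup.mem_bot.mp (h ▸ hE₂A hzE))
  have hpG : p ∣ Nat.card G := dvd_card_of_ne_bot hG hAp hA0
  have hTH : TransitivityHypothesis A :=
    S1396.result hG p hpG A hAp hAc (Or.inr ⟨P, hA, h1⟩)
  obtain ⟨k, hk⟩ := hAp.exists_card_eq
  have hk0 : k ≠ 0 := fun h => hA0 (Subgroup.eq_bot_of_card_eq _ (by rw [hk, h, pow_zero]))
  have hπ : primesNotDvd (Nat.card A) = primesNotDvd p := by
    rw [hk, primesNotDvd_pow hp.out hk0]
  -- `O_{p'}(C(A))` centralizes `z` and so lies in `M`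
  have hK : coreK A ≤ M := by
    set X := Subgroup.centralizer ({z} : Set G) with hX
    have hPX : (P : Subgroup G) ≤ X := fun g hg => Subgroup.mem_centralizer_singleton_iff.mpr
      (Subgroup.mem_centralizer_iff.mp hzP g hg)
    have hle : coreK A ≤ opp p X := by
      rw [← piCoreOf_primesNotDvd hp.out, ← hπ]
      refine le_piCoreOf_of_TH hTH (centralizer_ne_top hG rfl hz1) (hA.1.trans hPX)
        ((BGSigma.piCoreOf_le _).trans (Subgroup.centralizer_le
          (Set.singleton_subset_iff.mpr (hE₂A hzE)))) ?_ (BGSigma.isPiSub_piCoreOf _)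
      exact (le_centralizer_of_isSCN hA).trans
        (Subgroup.le_normalizer.trans (BGSigma.piCoreOf_normalized _))
    exact hle.trans (hB _ (opp_coprime p X) ((hBP.trans hPX).trans (le_normalizer_opp p X)))
  have hcop : (Nat.card A).Coprime (Nat.card Y) := by
    rw [hk]; exact (Nat.Coprime.pow_left k hY.symm)
  refine le_of_invariant_sylows hAY hcop (Group.isSolvable_of_comm fun a b => mul_comm' a b)
    fun q hq S hSY hSq hAS => ?_
  rcases eq_or_ne S ⊥ with rfl | hS0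
  · exact bot_le
  haveI := Fact.mk hq
  have hqp : q ≠ p := by
    rintro rfl
    obtain ⟨n, hn⟩ := hSq.exists_card_eq
    have h' : (Nat.card S).Coprime q := hY.coprime_dvd_left (Subgroup.card_dvd_of_le hSY)
    refine hS0 (Subgroup.eq_bot_of_card_eq _ ?_)
    exact Nat.eq_one_of_dvd_coprimes (h'.pow_right n) dvd_rfl (dvd_of_eq hn)
  have hqA : ¬ q ∣ Nat.card A := fun h => hqp (by
    rw [hk] at h
    exact (Nat.prime_dvd_prime_iff_eq hq hp.out).mp (hq.dvd_of_dvd_pow h))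
  obtain ⟨R, hR, hSR⟩ := exists_max_ge (A := A) (π := {q}) (Y := S)
    ⟨le_top, isPiSub_of_isPGroup (Set.mem_singleton q) hSq, hAS⟩
  have hZ : ¬ RankLE 2 ↥(A ⊓ Subgroup.centralizer (A : Set G)) := by
    rw [inf_eq_left.mpr (le_centralizer_of_isSCN hA)]
    exact fun h => hA3 (h p hp.out)
  have htr := transitive_of_center_rank_three hG hTH hqA hZ
  obtain ⟨hsub, -⟩ := transitive_of_subnormal hG hTH hqA (P := (P : Subgroup G))
    (fun r hr hd => by
      obtain ⟨n, hn⟩ := P.isPGroup'.exists_card_eq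
      rw [hn] at hd
      rw [(Nat.prime_dvd_prime_iff_eq hr hp.out).mp (hr.dvd_of_dvd_pow hd), hk]
      exact dvd_pow_self p hk0)
    hA.1 ((Subgroup.normal_subgroupOf_iff_le_normalizer hA.1).mpr hA.2.1).isSubnormal htr
  obtain ⟨Q, hQ, -⟩ := exists_max_ge (bot_mem_invSubgroups (P : Subgroup G) {q})
  have hQM : Q ≤ M := by
    refine hB Q ?_ (hBP.trans hQ.1.2.2)
    obtain ⟨n, hn⟩ := (isPGroup_of_isPiSub_singleton hQ.1.2.1).exists_card_eq
    rw [hn]
    exact Nat.Coprime.pow_left n ((Nat.coprime_primes hq hp.out).mpr hqp)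
  obtain ⟨c, hc, rfl⟩ := htr Q (hsub hQ) R hR
  refine hSR.trans ?_
  rintro _ ⟨x, hx, rfl⟩
  exact M.mul_mem (M.mul_mem (hK hc) (hQM hx)) (M.inv_mem (hK hc))

/-- **The uniqueness lemma.** -/
theorem eq_of_inv_le {M B L : Subgroup G} (hM : IsCoatom M) (hBp : IsPGroup p B) (hB0 : B ≠ ⊥)
    (hBM : B ≤ M)
    (hB : ∀ Y : Subgroup G, (Nat.card Y).Coprime p → B ≤ Subgroup.normalizer (Y : Set G) →
      Y ≤ M)
    (hL : IsCoatom L) (hBL : B ≤ L) : L = M := by
  by_contra hne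
  have hp2 : p ≠ 2 := prime_ne_two hG (dvd_card_of_ne_bot hG hBp hB0)
  obtain ⟨R, ⟨hRp, hBR, hRM, L, hL, hLM, hRL⟩, hmax⟩ := Set.Finite.exists_maximal
    (s := {R : Subgroup G | IsPGroup p R ∧ B ≤ R ∧ R ≤ M ∧
      ∃ L : Subgroup G, IsCoatom L ∧ L ≠ M ∧ R ≤ L})
    (Set.toFinite _) ⟨B, hBp, le_rfl, hBM, L, hL, hne, hBL⟩
  clear hne hBL
  have hR0 : R ≠ ⊥ := fun h => hB0 (le_bot_iff.mp (h ▸ hBR))
  have hbig : ∀ {R' : Subgroup G}, IsPGroup p R' → R < R' → R' ≤ M →
      ∀ {L' : Subgroup G}, IsCoatom L' → R' ≤ L' → L' = M := by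
    intro R' hR' hlt hR'M L' hL' hR'L
    by_contra h
    exact hlt.not_ge (hmax ⟨hR', hBR.trans hlt.le, hR'M, L', hL', h, hR'L⟩ hlt.le)
  obtain ⟨P, hP, hRP⟩ := exists_isSylowIn_ge hRp hRM
  have hP0 : P ≠ ⊥ := fun h => hR0 (le_bot_iff.mp (h ▸ hRP))
  rcases hRP.eq_or_lt with rfl | hlt
  · -- `R` is a Sylow subgroup of `M`
    obtain ⟨-, Q, rfl⟩ := sylow_of_inv_le hG hM hP hR0
      fun Y hY hPY => hB Y hY (hBR.trans hPY)
    by_cases hr : PRankLE p 2 (Q : Subgroup G)
    · exact hLM (eq_of_sylow_le_of_witness hG hM Q hRM hR0 le_rfl inf_le_left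
        (fun X hX hQX => sylow_le_oppP_of_rank_two hG Q hR0 hr hX hQX)
        (fun Y hY hQY => hB Y hY (hBR.trans hQY)) hL hRL)
    · obtain ⟨A, hA, hA3⟩ := exists_scn_three Q hp2 hr
      exact hLM (eq_of_sylow_le_of_witness hG hM Q hRM hR0 hA.1 hA.2.2.le
        (fun X hX hQX => abelian_normal_le_oppP (BGSigma.isSolvable_of_ne_top hG hX)
          (odd_card_subgroup hG X) (isSylowIn_of_sylow Q hQX) hA.1
          (isMulCommutative_of_isSCN hA) hA.2.1)
        (fun Y hY hAY => inv_scn_three_le hG Q hRM hBR hB hA hA3 hY hAY) hL hRL)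
  · set R₁ := P ⊓ Subgroup.normalizer (R : Set G) with hR₁
    have hR₁lt : R < R₁ := lt_inf_normalizer hP.2.1 hlt
    have hR₁p : IsPGroup p R₁ := hP.2.1.to_le inf_le_left
    have hR₁M : R₁ ≤ M := inf_le_left.trans hP.1
    have hover : ∀ {X : Subgroup G}, X ≠ ⊤ → R₁ ≤ X → X ≤ M := by
      intro X hX hR₁X
      obtain ⟨L', hL', hXL'⟩ := (eq_top_or_exists_le_coatom X).resolve_left hX
      rwa [hbig hR₁p hR₁lt hR₁M hL' (hR₁X.trans hXL')] at hXL'
    have hNR : Subgroup.normalizer (R : Set G) ≤ M :=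
      hover (BGSigma.normalizer_ne_top hG hR0 (ne_top_of_isPGroup hG hRp)) inf_le_right
    have hRsyl : IsSylowIn p R L := by
      obtain ⟨Q, hQ, hRQ⟩ := exists_isSylowIn_ge hRp hRL
      rcases hRQ.eq_or_lt with rfl | hlt'
      · exact hQ
      exact absurd (hbig (hQ.2.1.to_le inf_le_left) (lt_inf_normalizer hQ.2.1 hlt')
        (inf_le_right.trans hNR) hL (inf_le_left.trans hQ.1)) hLM
    have hZ := centerPuig_ne_bot hRp hR0
    have hNZ : Subgroup.normalizer (OddLocal44.centerPuig R : Set G) ≤ M := by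
      refine hover (BGSigma.normalizer_ne_top hG hZ
        (ne_top_of_isPGroup hG (hRp.to_le (centerPuig_le R)))) ?_
      exact inf_le_right.trans (OddLocal44.le_normalizer_centerPuig le_rfl)
    have hle : L ≤ M :=
      (frattini_puig (BGSigma.coatom_isSolvable hG hL) (odd_card_subgroup hG L) hp2 hRsyl).trans
        (sup_le (hB _ (opp_coprime p L) ((hBR.trans hRL).trans (le_normalizer_opp p L)))
          (inf_le_right.trans hNZ))
    exact hLM ((hL.le_iff.mp hle).resolve_left hM.1).symm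

theorem inU_of_inv_le {M B : Subgroup G} (hM : IsCoatom M) (hBp : IsPGroup p B) (hB0 : B ≠ ⊥)
    (hBM : B ≤ M)
    (hB : ∀ Y : Subgroup G, (Nat.card Y).Coprime p → B ≤ Subgroup.normalizer (Y : Set G) →
      Y ≤ M) :
    InUniqueMaximal B :=
  inU_mk hM hBM fun _ hL hBL => eq_of_inv_le hG hM hBp hB0 hBM hB hL hBL

/-- Generation by centralizers: a noncyclic abelian `p`-group all of whose nonidentity centralizers
lie in `M` is a uniqueness subgroup. -/
theorem inU_of_centralizers_le {M B : Subgroup G} (hM : IsCoatom M) (hBp : IsPGroup p B)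
    (hBc : IsMulCommutative B) (hBnc : ¬ IsCyclic B) (hBM : B ≤ M)
    (hC : ∀ b ∈ B, b ≠ 1 → Subgroup.centralizer ({b} : Set G) ≤ M) : InUniqueMaximal B := by
  haveI := hBc
  have hB0 : B ≠ ⊥ := fun h => hBnc (h ▸ (inferInstance : IsCyclic (⊥ : Subgroup G)))
  refine inU_of_inv_le hG hM hBp hB0 hBM fun Y hY hBY => ?_
  obtain ⟨k, hk⟩ := hBp.exists_card_eq
  exact Coprime.le_of_centralizer_le B Y M hBnc hBY (hk ▸ Nat.Coprime.pow_left k hY.symm)
    fun b hb hb1 => inf_le_right.trans (hC b hb hb1)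

/-- Uniqueness passes from `L` to a rank-two subgroup of `C(L)`. -/
theorem inU_elementary_of_centralizes {L B : Subgroup G} (hL : InUniqueMaximal L)
    (hB : IsElementaryAbelian p B) (hBc : p ^ 2 ≤ Nat.card B)
    (hBL : B ≤ Subgroup.centralizer (L : Set G)) : InUniqueMaximal B := by
  obtain ⟨M, ⟨hM, hLM⟩, -⟩ := id hL
  have hC : ∀ b ∈ B, b ≠ 1 → Subgroup.centralizer ({b} : Set G) ≤ M := fun b hb hb1 =>
    le_of_inU hL hM hLM (centralizer_ne_top hG rfl hb1)
      (fun l hl => Subgroup.mem_centralizer_singleton_iff.mpr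
        (Subgroup.mem_centralizer_iff.mp (hBL hb) l hl))
  obtain ⟨b, hb, hb1⟩ := exists_mem_ne_one (A := B) fun h => by
    rw [h, Subgroup.card_bot] at hBc
    nlinarith [hp.out.two_le, sq p, hBc]
  refine inU_of_centralizers_le hG hM (isPGroup_of_elementary hB) hB.1
    (not_isCyclic_of_card_ge hB hBc) (fun c hc => hC b hb hb1 ?_) hC
  exact Subgroup.mem_centralizer_singleton_iff.mpr
    (congrArg Subtype.val (hB.1.is_comm.comm (⟨c, hc⟩ : B) ⟨b, hb⟩))

omit hp in
/-- A subgroup of `C(L)` of rank at least 2 is a uniqueness subgroup with `L`. -/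
theorem inU_of_centralizes {L K : Subgroup G} (hL : InUniqueMaximal L)
    (hK : K ≤ Subgroup.centralizer (L : Set G)) (hK2 : ¬ RankLE 1 K) : InUniqueMaximal K := by
  simp only [RankLE, not_forall, exists_prop] at hK2
  obtain ⟨r, hr, hKr⟩ := hK2
  haveI := Fact.mk hr
  obtain ⟨B, hBK, hB, hBc⟩ := exists_elementary_of_not_pRankLE hKr
  obtain ⟨l, hl, hl1⟩ := exists_mem_ne_one (inU_ne_bot hG hL)
  exact inU_mono (inU_elementary_of_centralizes hG hL hB hBc (hBK.trans hK)) hBK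
    fun h => centralizer_ne_top hG (S := (L : Set G)) hl hl1 (top_le_iff.mp (h ▸ hK))

end Main

end Cfsg.Agent.BGUniq
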